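import Cfsg.Agent.Lib.AbelInv.Core
import Cfsg.Agent.Lib.SEBrick.Main
import Cfsg.Agent.Lib.JankoRee.PSL2Four
import Cfsg.Agent.Lib.AbelCent.Good
import Cfsg.Agent.Lib.Transfer.CoprimeQuotient
import Cfsg.Agent.Lib.Recog.CharSimple
import Cfsg.Agent.Lib.LocalEven.Wielandt
import Cfsg.Agent.Lib.CenNilp.RankTwo
import Cfsg.Prelude.Def_CaseTheorems

/-!
Groups with an abelian Sylow 2-subgroup and solvable centralisers of involutions.
-/

set_option autoImplicit false
set_option linter.unusedSectionVars false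
set_option linter.style.haveILetI false

namespace Cfsg.Agent.AbelInv

open Subgroup

universe u

/-- The fields of the conclusion. -/
def GoodField (F : Type) [Fintype F] : Prop :=
  ((Fintype.card F % 8 = 3 ∨ Fintype.card F % 8 = 5) ∧ 5 ≤ Fintype.card F) ∨
    (∃ n : ℕ, 2 ≤ n ∧ Fintype.card F = 2 ^ n)

variable {G : Type u} [Group G] [Finite G]

theorem comm_of_two {P : Sylow 2 G} (hP : IsMulCommutative (P : Subgroup G)) {Q : Subgroup G}
    (hQ : IsPGroup 2 Q) : IsMulCommutative Q := by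
  haveI : Fact (Nat.Prime 2) := ⟨Nat.prime_two⟩
  obtain ⟨R, hR⟩ := hQ.exists_le_sylow
  obtain ⟨g, hg⟩ := MulAction.exists_smul_eq G R P
  have hmem : ∀ a ∈ Q, g * a * g⁻¹ ∈ (P : Subgroup G) := fun a ha => by
    rw [← hg, Sylow.coe_subgroup_smul]
    exact ⟨a, hR ha, rfl⟩
  refine ⟨⟨fun a b => Subtype.ext ?_⟩⟩
  have h := congrArg Subtype.val (hP.is_comm.comm
    (⟨_, hmem a a.2⟩ : (P : Subgroup G)) ⟨_, hmem b b.2⟩)
  have h' : g * (a : G) * g⁻¹ * (g * b * g⁻¹) = g * b * g⁻¹ * (g * a * g⁻¹) := h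
  rw [show ∀ u v : G, g * u * g⁻¹ * (g * v * g⁻¹) = g * (u * v) * g⁻¹ from fun u v => by group,
    show ∀ u v : G, g * u * g⁻¹ * (g * v * g⁻¹) = g * (u * v) * g⁻¹ from fun u v => by group] at h'
  exact mul_left_cancel (mul_right_cancel h')

/-- PSL₂(q) with abelian Sylow 2-subgroups. -/
theorem psl2_target (P : Sylow 2 G) (hP : IsMulCommutative (P : Subgroup G)) {F : Type} [Field F]
    [Fintype F] (h3 : 3 < Fintype.card F) (e : G ≃* Matrix.ProjectiveSpecialLinearGroup (Fin 2) F) :
    GoodField F := by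
  classical
  haveI : Fact (Nat.Prime 2) := ⟨Nat.prime_two⟩
  rcases Nat.even_or_odd (Fintype.card F) with hev | hodd
  · obtain ⟨p, hp⟩ := CharP.exists F
    obtain ⟨n, hpp, hn⟩ := FiniteField.card F p
    have hp2 : p = 2 := by
      have h2 : 2 ∣ p ^ (n : ℕ) := hn ▸ even_iff_two_dvd.1 hev
      exact ((Nat.prime_dvd_prime_iff_eq Nat.prime_two hpp).1 (Nat.prime_two.dvd_of_dvd_pow h2)).symm
    subst hp2
    refine Or.inr ⟨n, ?_, hn⟩
    by_contra hlt
    rw [hn, show (n : ℕ) = 1 by have := n.pos; omega] at h3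
    omega
  obtain ⟨V⟩ := (inferInstance : Nonempty (Sylow 2 (Matrix.ProjectiveSpecialLinearGroup (Fin 2) F)))
  have hV : IsMulCommutative (V : Subgroup (Matrix.ProjectiveSpecialLinearGroup (Fin 2) F)) := by
    haveI := comm_of_two hP (V.2.map e.symm.toMonoidHom)
    refine ⟨⟨fun a b => Subtype.ext (e.symm.injective ?_)⟩⟩
    rw [Subgroup.coe_mul, Subgroup.coe_mul, map_mul, map_mul]
    exact congrArg Subtype.val (mul_comm'
      (⟨_, ⟨a, a.2, rfl⟩⟩ : (V : Subgroup _).map e.symm.toMonoidHom) ⟨_, ⟨b, b.2, rfl⟩⟩)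
  obtain ⟨h4, -, -⟩ := JankoRee.psl2_sylow hodd h3 V hV
  have hcard := ProjLine.two_mul_card_psl (F := F)
  rw [Nat.card_eq_fintype_card (α := F),
    show Nat.gcd 2 (Fintype.card F - 1) = 2 from Nat.gcd_eq_left (by obtain ⟨r, hr⟩ := hodd; omega)] at hcard
  refine Or.inl ⟨?_, by obtain ⟨r, hr⟩ := hodd; omega⟩
  by_contra hcon
  push Not at hcon
  obtain ⟨k, hk⟩ : ∃ k, Fintype.card F = 8 * k + 1 ∨ Fintype.card F = 8 * k + 7 := by
    obtain ⟨r, hr⟩ := hodd
    exact ⟨Fintype.card F / 8, by omega⟩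
  set N := Nat.card (Matrix.ProjectiveSpecialLinearGroup (Fin 2) F) with hN
  have h16 : 2 ^ 3 ∣ N := by
    have h : 2 * N = Fintype.card F * (Fintype.card F - 1) * (Fintype.card F + 1) := by
      refine Nat.eq_of_mul_eq_mul_right (show 0 < Fintype.card F - 1 by omega) ?_
      rw [hcard]
      ring
    rcases hk with hk | hk <;> rw [hk] at h
    · refine ⟨(8 * k + 1) * k * (4 * k + 1), ?_⟩
      rw [show 8 * k + 1 - 1 = 8 * k by omega] at h
      linarith
    · refine ⟨(8 * k + 7) * (4 * k + 3) * (k + 1), ?_⟩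
      rw [show 8 * k + 7 - 1 = 8 * k + 6 by omega] at h
      linarith
  obtain ⟨Q, hQ⟩ := Sylow.exists_subgroup_card_pow_prime 2 h16
  obtain ⟨R, hR⟩ := (IsPGroup.of_card hQ).exists_le_sylow
  have h8 := Subgroup.card_le_of_le hR
  rw [hQ, Nat.card_congr (Sylow.equiv R V).toEquiv, h4] at h8
  omega

/-- The simple groups. -/
theorem simple_case [IsSimpleGroup G] (hG : ¬ IsMulCommutative G) (P : Sylow 2 G)
    (hP : IsMulCommutative (P : Subgroup G))
    (hsol : ∀ t : G, orderOf t = 2 → Group.IsSolvable ↥(centralizer ({t} : Set G))) :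
    ∃ (F : Type) (_ : Field F) (_ : Fintype F), GoodField F ∧
      Nonempty (G ≃* Matrix.ProjectiveSpecialLinearGroup (Fin 2) F) := by
  classical
  haveI : Fact (Nat.Prime 2) := ⟨Nat.prime_two⟩
  by_cases h3 : Cfsg.PRankLE 2 2 (P : Subgroup G)
  · have h2 : Cfsg.PRankLE 2 2 G := by
      intro A hA hA2
      have hAp : IsPGroup 2 A := fun a => ⟨1, Subtype.ext (by simpa using hA2 a a.2)⟩
      obtain ⟨R, hR⟩ := hAp.exists_le_sylow
      let e := (Sylow.equiv R P).toMonoidHom.comp (Subgroup.inclusion hR)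
      have he : Function.Injective e := (Sylow.equiv R P).injective.comp (Subgroup.inclusion_injective hR)
      rw [Nat.card_congr (MonoidHom.ofInjective he).toEquiv]
      refine h3 e.range ⟨⟨fun a b => ?_⟩⟩ ?_
      · exact Subtype.ext (hP.is_comm.comm _ _)
      · rintro _ ⟨a, rfl⟩
        rw [← map_pow, show a ^ 2 = 1 from Subtype.ext (by simpa using hA2 a a.2), map_one]
    haveI : IsMulCommutative (P : Subgroup G) := hP
    letI : Fintype (GaloisField 2 4) := Fintype.ofFinite _
    have hF : Fintype.card (GaloisField 2 4) = 16 := by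
      rw [← Nat.card_eq_fintype_card, GaloisField.card 2 4 (by norm_num)]
      norm_num
    obtain ⟨U⟩ := (inferInstance : Nonempty (Sylow 2 (Cfsg.PSU 3 (GaloisField 2 4) 4)))
    rcases S0516.result hG h2 P hF U with ⟨n, hn, ⟨e⟩⟩ | ⟨n, hn, -, x, y, hx, -, hxy⟩ |
        ⟨n, hn, -, x, y, z, hx, -, hxy, -, hz⟩ | ⟨⟨e⟩⟩
    · rcases GW.simpleDihedral G P n hn ⟨e⟩ with ⟨F, i1, i2, -, h3F, ⟨eF⟩⟩ | ⟨⟨e7⟩⟩
      · exact ⟨F, i1, i2, psl2_target P hP h3F eF, ⟨eF⟩⟩
      · exfalso
        have hn2 : n = 2 := by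
          have hc := congrArg e (mul_comm' (e.symm (DihedralGroup.r 1)) (e.symm (DihedralGroup.sr 0)))
          rw [map_mul, map_mul, e.apply_symm_apply, e.apply_symm_apply, DihedralGroup.r_mul_sr,
            DihedralGroup.sr_mul_r] at hc
          have h1 : ((0 : ZMod n) - 1) = 0 + 1 := DihedralGroup.sr.inj hc
          have h2n : ((2 : ℕ) : ZMod n) = 0 := by
            push_cast
            rw [zero_sub, zero_add, neg_eq_iff_add_eq_zero] at h1
            rw [← h1]; norm_num
          have := Nat.le_of_dvd two_pos ((ZMod.natCast_eq_zero_iff 2 n).1 h2n)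
          omega
        subst hn2
        have hcard : Nat.card (P : Subgroup G) = 4 := by
          rw [Nat.card_congr e.toEquiv, DihedralGroup.nat_card]
        have h8 : 2 ^ 3 ∣ Nat.card G := by
          rw [GW.seven_order e7]
          norm_num
        obtain ⟨Q, hQ⟩ := Sylow.exists_subgroup_card_pow_prime 2 h8
        obtain ⟨R, hR⟩ := (IsPGroup.of_card hQ).exists_le_sylow
        have h8' := Subgroup.card_le_of_le hR
        rw [hQ, Nat.card_congr (Sylow.equiv R P).toEquiv, hcard] at h8'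
        omega
    · exfalso
      rw [mul_comm' y x, mul_inv_cancel_right] at hxy
      have h1 : x ^ (2 ^ (n - 1) - 1 - 1) = 1 := by
        have h4 : 4 ≤ 2 ^ (n - 1) := Nat.pow_le_pow_right (n := 2) (by norm_num) (show 2 ≤ n - 1 by omega)
        refine mul_right_cancel (b := x) ?_
        rw [← pow_succ, show 2 ^ (n - 1) - 1 - 1 + 1 = 2 ^ (n - 1) - 1 by omega, one_mul, ← hxy]
      have h4 : 4 ≤ 2 ^ (n - 1) := Nat.pow_le_pow_right (n := 2) (by norm_num) (show 2 ≤ n - 1 by omega)
      have h5 := Nat.le_of_dvd (by omega) (hx ▸ orderOf_dvd_of_pow_eq_one h1)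
      have h6 : 2 ^ n = 2 * 2 ^ (n - 1) := by rw [← pow_succ', Nat.sub_add_cancel (by omega)]
      omega
    · exfalso
      rw [mul_comm' z x, mul_inv_cancel_right] at hz
      rw [← hz, inf_idem, Subgroup.zpowers_eq_bot] at hxy
      rw [hxy, orderOf_one] at hx
      exact absurd hx.symm (Nat.one_lt_two_pow (by omega)).ne'
    · exfalso
      obtain ⟨-, -, hU⟩ := S1141.result (F := GaloisField 2 4) (n := 2) le_rfl (by rw [hF]; norm_num) U
      obtain ⟨x, y, hxy⟩ := (SU3Sylow.suzuki_of_equiv e.symm hU).2.2.1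
      exact hxy (mul_comm' x y)
  · obtain ⟨hI, hno⟩ := cenTwoNilp hG P hP h3 hsol
    rcases CenNilp.list_of_brick hG hI SEBrick.seStatement with
      ⟨F, i1, i2, h3F, ⟨e⟩⟩ | hs | ⟨⟨e⟩⟩ | ⟨F, i1, i2, hF, ⟨e⟩⟩
    · exact ⟨F, i1, i2, psl2_target P hP h3F e, ⟨e⟩⟩
    · exact (not_noFour_suzuki hno hs).elim
    · exact (not_noFour_alt7 hno e).elim
    · exact (not_noFour_psl3 hno hF e).elim

/-- The hypotheses pass to the quotient by a normal subgroup of odd order. -/
theorem quot_solvable_cent (N : Subgroup G) [N.Normal] (hN : Odd (Nat.card N))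
    (hC : ∀ t : G, orderOf t = 2 → Group.IsSolvable ↥(centralizer ({t} : Set G)))
    {s : G ⧸ N} (hs : orderOf s = 2) : Group.IsSolvable ↥(centralizer ({s} : Set (G ⧸ N))) := by
  haveI : Fact (Nat.Prime 2) := ⟨Nat.prime_two⟩
  set f := QuotientGroup.mk' N with hf
  have hker : Odd (Nat.card f.ker) := by rw [hf, QuotientGroup.ker_mk']; exact hN
  obtain ⟨t, ht, hts⟩ := AbelCent.exists_invol_lift f hker (QuotientGroup.mk'_surjective N) hs
  have hX : IsPGroup 2 (zpowers t) := IsPGroup.of_card (n := 1) (by rw [Nat.card_zpowers, ht, pow_one])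
  have h := CoprimeQuotient.centralizer_map (p := 2) f (QuotientGroup.mk'_surjective N)
    (Nat.coprime_two_right.2 hker) hX
  rw [MonoidHom.map_zpowers, hts] at h
  rw [Signalizer.SFT.centralizer_zpowers_eq, Signalizer.SFT.centralizer_zpowers_eq] at h
  haveI := hC t ht
  rw [h]
  exact Group.isSolvable_of_surjective (f.subgroupMap_surjective _)

/-- The groups with trivial odd core. -/
theorem reduced (P : Sylow 2 G) (hP : IsMulCommutative (P : Subgroup G))
    (hC : ∀ t : G, orderOf t = 2 → Group.IsSolvable ↥(centralizer ({t} : Set G)))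
    (hO : Cfsg.oddCore G = ⊥) :
    Group.IsSolvable G ∨ ∃ (F : Type) (_ : Field F) (_ : Fintype F), GoodField F ∧
      ∃ N : Subgroup G, N.Normal ∧ Nonempty (↥N ≃* Matrix.ProjectiveSpecialLinearGroup (Fin 2) F) ∧
        centralizer (N : Set G) = ⊥ := by
  classical
  haveI : Fact (Nat.Prime 2) := ⟨Nat.prime_two⟩
  by_cases htriv : (⊤ : Subgroup G) = ⊥
  · left
    haveI : Subsingleton G := ⟨fun a b => by
      have h := fun c : G => mem_bot.1 (htriv.le (mem_top c))
      rw [h a, h b]⟩
    infer_instance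
  obtain ⟨N, hN, hN1, -, hmin⟩ := LEWielandt.exists_minimal_normal (inferInstance : (⊤ : Subgroup G).Normal) htriv
  haveI := hN
  have hev : Even (Nat.card N) := Nat.not_odd_iff_even.1 fun h => hN1 (le_bot_iff.1 (hO ▸ SEBrick.le_oddCore hN h))
  obtain ⟨T, iT, m, hT, hm, ⟨e⟩⟩ := CharSimple.minimalNormal_iso_pi N hN1 hmin
  haveI : Finite T := Finite.of_surjective (fun x : N => e x ⟨0, hm⟩) fun a => ⟨e.symm fun _ => a, by simp⟩
  have h2T : 2 ∣ Nat.card T := by
    have h1 := Nat.card_congr e.toEquiv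
    rw [Nat.card_fun, Nat.card_fin] at h1
    exact Nat.prime_two.dvd_of_dvd_pow (h1 ▸ even_iff_two_dvd.1 hev)
  by_cases hTc : IsMulCommutative T
  · left
    haveI := hTc
    letI : CommGroup T := { (inferInstance : Group T) with mul_comm := fun a b => hTc.is_comm.comm a b }
    have hTp : Nat.card T = 2 := ((Nat.prime_dvd_prime_iff_eq Nat.prime_two
      (IsSimpleGroup.prime_card (α := T))).1 h2T).symm
    have hN2 : IsPGroup 2 N := IsPGroup.of_card (n := m) (by
      rw [Nat.card_congr e.toEquiv, Nat.card_fun, Nat.card_fin, hTp])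
    have hNP : N ≤ (P : Subgroup G) := (PBasic.le_pCore hN hN2).trans (PBasic.pCore_le_sylow P)
    obtain ⟨t, htN, ht⟩ := Invol.exists_invol hev
    set C := centralizer (N : Set G) with hCdef
    have hPC : (P : Subgroup G) ≤ C := fun x hx => mem_centralizer_iff.2 fun y hy =>
      congrArg Subtype.val (hP.is_comm.comm (⟨y, hNP hy⟩ : (P : Subgroup G)) ⟨x, hx⟩)
    haveI : Group.IsSolvable C := by
      haveI := hC t ht
      exact Group.isSolvable_of_isSolvable_injective
        (f := Subgroup.inclusion (centralizer_le (Set.singleton_subset_iff.2 htN)))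
        (Subgroup.inclusion_injective _)
    haveI : C.Normal := inferInstance
    haveI : Group.IsSolvable (G ⧸ C) := S0205.result (by
      rw [← Subgroup.index_eq_card, ← Nat.not_even_iff_odd, even_iff_two_dvd]
      exact fun h => P.not_dvd_index (h.trans (Subgroup.index_dvd_of_le hPC)))
    exact Group.isSolvable_of_ker_le_range C.subtype (QuotientGroup.mk' C)
      (by rw [QuotientGroup.ker_mk', Subgroup.range_subtype])
  right
  have hTs : ¬ Group.IsSolvable T := fun h =>
    hTc ⟨⟨fun a b => IsSimpleGroup.comm_iff_isSolvable.2 h a b⟩⟩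
  -- one factor
  have hm1 : m = 1 := by
    by_contra hne
    obtain ⟨a, ha⟩ := exists_prime_orderOf_dvd_card' 2 h2T
    let i : Fin m := ⟨0, hm⟩
    let j : Fin m := ⟨1, by omega⟩
    have hij : i ≠ j := fun h => by simpa [i, j] using congrArg Fin.val h
    let t : G := ((e.symm (Pi.mulSingle i a) : N) : G)
    have ht : orderOf t = 2 := by
      show orderOf ((e.symm (Pi.mulSingle i a) : N) : G) = 2
      rw [Subgroup.orderOf_coe, MulEquiv.orderOf_eq, ← ha]
      exact orderOf_injective (MonoidHom.mulSingle (fun _ => T) i) (Pi.mulSingle_injective (M := fun _ : Fin m => T) i) a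
    haveI := hC t ht
    let φ : T →* centralizer ({t} : Set G) :=
      (N.subtype.comp (e.symm.toMonoidHom.comp (MonoidHom.mulSingle (fun _ : Fin m => T) j))).codRestrict _
        fun b => mem_centralizer_singleton_iff.2 (by
          show ((e.symm (Pi.mulSingle j b) : N) : G) * ((e.symm (Pi.mulSingle i a) : N) : G) =
            ((e.symm (Pi.mulSingle i a) : N) : G) * ((e.symm (Pi.mulSingle j b) : N) : G)
          rw [← Subgroup.coe_mul, ← Subgroup.coe_mul, ← map_mul, ← map_mul]
          exact congrArg (fun v => ((e.symm v : N) : G)) (Pi.mulSingle_commute (f := fun _ : Fin m => T) hij.symm b a).eq)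
    refine hTs (Group.isSolvable_of_isSolvable_injective (f := φ) fun b b' h => ?_)
    exact Pi.mulSingle_injective (M := fun _ : Fin m => T) j
      (e.symm.injective (Subtype.ext (congrArg Subtype.val h :)))
  subst hm1
  let e1 : N ≃* T := e.trans (MulEquiv.funUnique (Fin 1) T)
  haveI : IsSimpleGroup N := e1.isSimpleGroup
  have hNc : ¬ IsMulCommutative N := fun h => hTc ⟨⟨fun a b => e1.symm.injective (by
    rw [map_mul, map_mul, h.is_comm.comm])⟩⟩
  have hNs : ¬ Group.IsSolvable N := fun h =>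
    hTs (Group.isSolvable_of_isSolvable_injective (f := e1.symm.toMonoidHom) e1.symm.injective)
  obtain ⟨Q⟩ := (inferInstance : Nonempty (Sylow 2 N))
  have hQ : IsMulCommutative (Q : Subgroup N) := by
    haveI := comm_of_two hP (Q.2.map N.subtype)
    refine ⟨⟨fun a b => Subtype.ext (Subtype.ext ?_)⟩⟩
    have h1 := congrArg Subtype.val (mul_comm'
      (⟨_, ⟨a, a.2, rfl⟩⟩ : (Q : Subgroup N).map N.subtype) ⟨_, ⟨b, b.2, rfl⟩⟩)
    exact h1
  obtain ⟨F, i1, i2, hF, he⟩ := simple_case hNc Q hQ fun t ht => by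
    haveI := hC (t : G) (by rw [Subgroup.orderOf_coe, ht])
    refine Group.isSolvable_of_isSolvable_injective
      (f := (N.subtype.comp (centralizer ({t} : Set N)).subtype).codRestrict
        (centralizer ({(t : G)} : Set G)) fun x => mem_centralizer_singleton_iff.2
          (congrArg Subtype.val (mem_centralizer_singleton_iff.1 x.2))) fun x y h => ?_
    exact Subtype.ext (Subtype.ext (congrArg Subtype.val h :))
  refine ⟨F, i1, i2, hF, N, hN, he, ?_⟩
  refine le_bot_iff.1 (hO ▸ SEBrick.le_oddCore inferInstance ?_)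
  refine SEBrick.odd_card_of_orders fun c hc hc2 => hNs ?_
  haveI := hC c hc2
  exact Group.isSolvable_of_isSolvable_injective
    (f := Subgroup.inclusion (show N ≤ centralizer ({c} : Set G) from fun x hx =>
      mem_centralizer_singleton_iff.2 (mem_centralizer_iff.1 hc x hx)))
    (Subgroup.inclusion_injective _)

/-- The theorem. -/
theorem solvable_or_psl2 (P : Sylow 2 G) (hP : IsMulCommutative (P : Subgroup G))
    (hC : ∀ t : G, orderOf t = 2 → Group.IsSolvable ↥(centralizer ({t} : Set G))) :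
    Group.IsSolvable G ∨ ∃ (F : Type) (_ : Field F) (_ : Fintype F), GoodField F ∧
      ∃ N : Subgroup (G ⧸ Cfsg.oddCore G), N.Normal ∧
        Nonempty (↥N ≃* Matrix.ProjectiveSpecialLinearGroup (Fin 2) F) ∧
        centralizer (N : Set (G ⧸ Cfsg.oddCore G)) = ⊥ := by
  haveI : Fact (Nat.Prime 2) := ⟨Nat.prime_two⟩
  have hodd : Odd (Nat.card (Cfsg.oddCore G)) := SEBrick.oddCore_odd
  haveI := FittingCores.pPrimeCore_normal (G := G) 2
  haveI : (Cfsg.oddCore G).Normal := FittingCores.pPrimeCore_normal (G := G) 2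
  let P' : Sylow 2 (G ⧸ Cfsg.oddCore G) := P.mapSurjective (QuotientGroup.mk'_surjective _)
  have hP' : IsMulCommutative (P' : Subgroup (G ⧸ Cfsg.oddCore G)) := by
    refine ⟨⟨?_⟩⟩
    rintro ⟨_, a, ha, rfl⟩ ⟨_, b, hb, rfl⟩
    refine Subtype.ext ?_
    show _ * _ = _ * _
    rw [← map_mul, ← map_mul]
    exact congrArg _ (congrArg Subtype.val (hP.is_comm.comm (⟨a, ha⟩ : (P : Subgroup G)) ⟨b, hb⟩))
  rcases reduced P' hP' (fun s hs => quot_solvable_cent _ hodd hC hs) (Components.pPrimeCore_quotient _)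
    with h | h
  · left
    haveI := h
    haveI : Group.IsSolvable (Cfsg.oddCore G) := S0205.result hodd
    exact Group.isSolvable_of_ker_le_range (Cfsg.oddCore G).subtype (QuotientGroup.mk' (Cfsg.oddCore G))
      (by rw [QuotientGroup.ker_mk', Subgroup.range_subtype])
  · exact Or.inr h

end Cfsg.Agent.AbelInv
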