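import Cfsg.Agent.Lib.AbelInv.Dual
import Cfsg.Agent.Lib.Char.Induction
import Mathlib.GroupTheory.SemidirectProduct
import Mathlib.GroupTheory.GroupAction.Quotient

/-!
The induced linear characters of a semidirect product with abelian kernel.
-/

set_option autoImplicit false
set_option linter.unusedSectionVars false

namespace Cfsg.Agent.AbelInv

open Cfsg Cfsg.Agent.Char
open scoped ComplexConjugate

universe u

variable (S K : Type u) [CommGroup S] [Group K] [MulDistribMulAction K S]

/-- The semidirect product. -/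
abbrev SK : Type u := S ⋊[MulDistribMulAction.toMulAut K S] K

noncomputable instance [Finite S] [Finite K] : Fintype (SK S K) :=
  @Fintype.ofFinite _ (Finite.of_equiv _ SemidirectProduct.equivProd.symm)

variable {S K}

/-- The action on the linear characters. -/
@[instance]
noncomputable abbrev dualAct : MulAction K (S →* ℂˣ) where
  smul k l := l.comp (MulDistribMulAction.toMonoidHom S k⁻¹)
  one_smul l := MonoidHom.ext fun s => by
    show l ((1 : K)⁻¹ • s) = l s
    rw [inv_one, one_smul]
  mul_smul a b l := MonoidHom.ext fun s => by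
    show l ((a * b)⁻¹ • s) = l (b⁻¹ • a⁻¹ • s)
    rw [mul_inv_rev, mul_smul]

theorem dual_apply (k : K) (l : S →* ℂˣ) (s : S) : (k • l) s = l (k⁻¹ • s) := rfl

theorem conj_inr (x : K) (a : SK S K) :
    (SemidirectProduct.inr x : SK S K)⁻¹ * a * SemidirectProduct.inr x =
      ⟨x⁻¹ • a.left, x⁻¹ * a.right * x⟩ := by
  ext <;> simp [mul_assoc]

theorem sum_SK [Fintype S] [Fintype K] [Fintype (SK S K)] {M : Type*} [AddCommMonoid M]
    (F : SK S K → M) : ∑ a, F a = ∑ k : K, ∑ s : S, F ⟨s, k⟩ := by
  rw [← Finset.sum_product_right' Finset.univ Finset.univ fun s k => F ⟨s, k⟩]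
  exact Fintype.sum_equiv SemidirectProduct.equivProd _ _ fun a => rfl

section Ind

variable (l : S →* ℂˣ) (η : MulAction.stabilizer K l →* ℂˣ)

open scoped Classical in
/-- A linear character of the stabiliser extended by zero. -/
noncomputable def ext0 (k : K) : ℂ :=
  if h : k • l = l then (η ⟨k, h⟩ : ℂ) else 0

theorem ext0_mem (k : MulAction.stabilizer K l) : ext0 l η k = (η k : ℂ) := dif_pos k.2

theorem ext0_conj (j : MulAction.stabilizer K l) (k : K) :
    ext0 l η ((j : K)⁻¹ * k * j) = ext0 l η k := by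
  by_cases h : k ∈ MulAction.stabilizer K l
  · have h1 := ext0_mem l η (j⁻¹ * ⟨k, h⟩ * j)
    have h2 := ext0_mem l η ⟨k, h⟩
    simp only [Subgroup.coe_mul, Subgroup.coe_inv] at h1 h2
    rw [h1, h2, map_mul, map_mul, map_inv, mul_comm, mul_inv_cancel_left]
  · have h' : (j : K)⁻¹ * k * j ∉ MulAction.stabilizer K l := fun hm => h (by
      simpa [mul_assoc] using mul_mem (mul_mem j.2 hm) (inv_mem j.2))
    rw [MulAction.mem_stabilizer_iff] at h h'
    simp [ext0, h, h']

/-- The subgroup over the stabiliser. -/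
noncomputable def over : Subgroup (SK S K) :=
  (MulAction.stabilizer K l).comap SemidirectProduct.rightHom

/-- The linear character over the stabiliser. -/
noncomputable def theta : over (K := K) l →* ℂˣ where
  toFun a := l (a : SK S K).left * η ⟨(a : SK S K).right, a.2⟩
  map_one' := by
    show l (1 : SK S K).left * η ⟨(1 : SK S K).right, _⟩ = 1
    simp only [SemidirectProduct.one_left, map_one, one_mul]
    exact map_one η
  map_mul' a b := by
    show l ((a : SK S K) * b).left * η ⟨((a : SK S K) * b).right, _⟩ = _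
    have h : ((a : SK S K).right)⁻¹ • l = l := inv_smul_eq_iff.2 (a.2 : _ • l = l).symm
    have e : l ((a : SK S K).right • (b : SK S K).left) = l (b : SK S K).left := by
      have := DFunLike.congr_fun h (b : SK S K).left
      rwa [dual_apply, inv_inv] at this
    show l ((a : SK S K).left * (a : SK S K).right • (b : SK S K).left) *
      η (⟨(a : SK S K).right, a.2⟩ * ⟨(b : SK S K).right, b.2⟩) = _
    rw [map_mul l, map_mul η, e, mul_mul_mul_comm]

variable [Fintype S] [Fintype K]

/-- The induced character. -/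
noncomputable def indX (a : SK S K) : ℂ :=
  (Nat.card (MulAction.stabilizer K l) : ℂ)⁻¹ *
    ∑ x : K, ext0 l η (x⁻¹ * a.right * x) * ((x • l) a.left : ℂ)

theorem indX_eq [Fintype (SK S K)] :
    indX l η = indFun (over l) (fun a => (theta l η a : ℂ)) := by
  classical
  funext a
  set T := over (K := K) l with hT
  haveI : Fintype T := Fintype.ofFinite _
  have hext : ∀ b : SK S K, extendByZero T (fun a => (theta l η a : ℂ)) b =
      ext0 l η b.right * (l b.left : ℂ) := by
    intro b
    by_cases hb : b ∈ T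
    · rw [extendByZero_mem T _ hb, ext0, dif_pos (show b.right • l = l from hb), mul_comm]
      exact Units.val_mul _ _
    · rw [extendByZero_not_mem T _ hb, ext0, dif_neg (show ¬ b.right • l = l from hb), zero_mul]
  rw [indFun_apply, sum_SK]
  have key : ∀ (x : K) (s : S), extendByZero T (fun a => (theta l η a : ℂ))
      ((⟨s, x⟩ : SK S K)⁻¹ * a * ⟨s, x⟩) = ext0 l η (x⁻¹ * a.right * x) * ((x • l) a.left : ℂ) := by
    intro x s
    have hsplit : (⟨s, x⟩ : SK S K) = SemidirectProduct.inr x * SemidirectProduct.inl (x⁻¹ • s) := by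
      ext <;> simp
    set n0 : SK S K := SemidirectProduct.inl (x⁻¹ • s) with hn0
    have hnT : n0 ∈ T := by
      show n0.right • l = l
      simp [hn0]
    set b : SK S K := ⟨x⁻¹ • a.left, x⁻¹ * a.right * x⟩ with hb
    rw [hsplit, mul_inv_rev, show (SemidirectProduct.inl (x⁻¹ • s) : SK S K)⁻¹ *
      (SemidirectProduct.inr x)⁻¹ * a * (SemidirectProduct.inr x * SemidirectProduct.inl (x⁻¹ • s)) =
      n0⁻¹ * ((SemidirectProduct.inr x)⁻¹ * a * SemidirectProduct.inr x) * n0 by
        simp [hn0, mul_assoc], conj_inr, ← hb]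
    rw [show ext0 l η (x⁻¹ * a.right * x) * ((x • l) a.left : ℂ) =
      ext0 l η b.right * (l b.left : ℂ) by rw [dual_apply], ← hext]
    by_cases hbT : b ∈ T
    · rw [extendByZero_mem T _ hbT, extendByZero_mem T _
        (mul_mem (mul_mem (inv_mem hnT) hbT) hnT)]
      have : theta l η ((⟨n0, hnT⟩ : T)⁻¹ * ⟨b, hbT⟩ * ⟨n0, hnT⟩) = theta l η ⟨b, hbT⟩ := by
        rw [map_mul, map_mul, map_inv, mul_comm, mul_inv_cancel_left]
      exact congrArg Units.val this
    · rw [extendByZero_not_mem T _ hbT, extendByZero_not_mem T _ fun h => hbT (by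
        simpa [mul_assoc] using mul_mem (mul_mem hnT h) (inv_mem hnT))]
  rw [Finset.sum_congr rfl fun x _ => Finset.sum_congr rfl fun s _ => key x s]
  simp only [Finset.sum_const, Finset.card_univ, nsmul_eq_mul, ← Finset.mul_sum]
  have hcard : Nat.card T = Nat.card S * Nat.card (MulAction.stabilizer K l) := by
    rw [← Nat.card_prod]
    exact Nat.card_congr
      { toFun := fun b => ((b : SK S K).left, ⟨(b : SK S K).right, b.2⟩)
        invFun := fun p => ⟨⟨p.1, p.2⟩, p.2.2⟩
        left_inv := fun b => rfl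
        right_inv := fun p => rfl }
  rw [indX, hcard, Nat.card_eq_fintype_card (α := S), Nat.cast_mul]
  have : (Fintype.card S : ℂ) ≠ 0 := Nat.cast_ne_zero.2 Fintype.card_ne_zero
  field_simp

theorem isCharacter_indX [Fintype (SK S K)] : Cfsg.IsCharacter (SK S K) (indX l η) := by
  rw [indX_eq]
  exact isCharacter_indFun _ (IsIrrCharacter.isCharacter (isIrrCharacter_linear _))

theorem indX_inl (s : S) :
    indX l η (SemidirectProduct.inl s) =
      (Nat.card (MulAction.stabilizer K l) : ℂ)⁻¹ * ∑ x : K, ((x • l) s : ℂ) := by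
  rw [indX]
  congr 1
  refine Finset.sum_congr rfl fun x _ => ?_
  simp [ext0, show η ⟨1, one_smul K l⟩ = 1 from map_one η]

theorem indX_inr (k : K) :
    indX l η (SemidirectProduct.inr k) =
      (Nat.card (MulAction.stabilizer K l) : ℂ)⁻¹ * ∑ x : K, ext0 l η (x⁻¹ * k * x) := by
  simp [indX]

theorem indX_one : indX l η 1 =
    (Nat.card (MulAction.stabilizer K l) : ℂ)⁻¹ * (Nat.card K : ℂ) := by
  rw [← map_one (SemidirectProduct.inl (N := S) (φ := MulDistribMulAction.toMulAut K S)), indX_inl]
  simp [Nat.card_eq_fintype_card]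

theorem inner_one [Fintype (SK S K)] (hl : l ≠ 1) :
    Cfsg.classInner (indX l η) (fun _ => 1) = 0 := by
  rw [classInner, sum_SK]
  refine mul_eq_zero_of_right _ (Finset.sum_eq_zero fun k _ => ?_)
  simp only [indX, map_one, mul_one, ← Finset.mul_sum]
  rw [Finset.sum_comm]
  refine mul_eq_zero_of_right _ (Finset.sum_eq_zero fun x _ => ?_)
  rw [← Finset.mul_sum, hom_sum, if_neg, mul_zero]
  exact fun h => hl (MonoidHom.ext fun s => by
    have := DFunLike.congr_fun h (x • s)
    rwa [dual_apply, inv_smul_smul] at this)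

open scoped Classical in
theorem indX_inner_sum [Fintype (SK S K)] (l' : S →* ℂˣ)
    (η' : MulAction.stabilizer K l' →* ℂˣ) :
    Cfsg.classInner (indX l η) (indX l' η') =
      (Nat.card K : ℂ)⁻¹ * (Nat.card (MulAction.stabilizer K l) : ℂ)⁻¹ *
        (Nat.card (MulAction.stabilizer K l') : ℂ)⁻¹ * ∑ k : K, ∑ x : K, ∑ y : K,
          if x • l = y • l' then ext0 l η (x⁻¹ * k * x) * conj (ext0 l' η' (y⁻¹ * k * y))
          else 0 := by
  rw [classInner, sum_SK, SemidirectProduct.card, Nat.cast_mul]
  simp only [indX, map_mul, map_sum, map_inv₀, map_natCast, Finset.mul_sum, Finset.sum_mul]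
  refine Finset.sum_congr rfl fun k _ => ?_
  rw [Finset.sum_comm]
  refine Eq.trans (Finset.sum_congr rfl fun y _ => Finset.sum_comm) ?_
  rw [Finset.sum_comm]
  refine Finset.sum_congr rfl fun x _ => Finset.sum_congr rfl fun y _ => ?_
  have h := hom_orth (x • l) (y • l')
  have hS : (Nat.card S : ℂ) ≠ 0 := Nat.cast_ne_zero.2 Nat.card_pos.ne'
  calc _ = (Nat.card K : ℂ)⁻¹ * (Nat.card (MulAction.stabilizer K l) : ℂ)⁻¹ *
        (Nat.card (MulAction.stabilizer K l') : ℂ)⁻¹ * (Nat.card S : ℂ)⁻¹ *
        (ext0 l η (x⁻¹ * k * x) * conj (ext0 l' η' (y⁻¹ * k * y))) *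
        ∑ s : S, ((x • l) s : ℂ) * conj ((y • l') s : ℂ) := by
        rw [Finset.mul_sum]
        exact Finset.sum_congr rfl fun s _ => by ring
    _ = _ := by
        rw [h]
        split_ifs
        · field_simp
        · simp

theorem indX_orth [Fintype (SK S K)] (l' : S →* ℂˣ) (η' : MulAction.stabilizer K l' →* ℂˣ)
    (h : ∀ k : K, k • l ≠ l') : Cfsg.classInner (indX l η) (indX l' η') = 0 := by
  classical
  rw [indX_inner_sum]
  refine mul_eq_zero_of_right _ (Finset.sum_eq_zero fun k _ => Finset.sum_eq_zero fun x _ =>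
    Finset.sum_eq_zero fun y _ => if_neg fun e => h (y⁻¹ * x) ?_)
  rw [mul_smul, e, inv_smul_smul]

open scoped Classical in
theorem indX_inner [Fintype (SK S K)]
    (hc : ∀ a b : MulAction.stabilizer K l, a * b = b * a)
    (η' : MulAction.stabilizer K l →* ℂˣ) :
    Cfsg.classInner (indX l η) (indX l η') = if η = η' then 1 else 0 := by
  haveI : Fintype (MulAction.stabilizer K l) := Fintype.ofFinite _
  letI : CommGroup (MulAction.stabilizer K l) := { (inferInstance : Group (MulAction.stabilizer K l)) with mul_comm := hc }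
  rw [indX_inner_sum]
  have hy : ∀ k x : K, (∑ y : K, if x • l = y • l then
      ext0 l η (x⁻¹ * k * x) * conj (ext0 l η' (y⁻¹ * k * y)) else 0) =
      (Nat.card (MulAction.stabilizer K l) : ℂ) * (ext0 l η (x⁻¹ * k * x) * conj (ext0 l η' (x⁻¹ * k * x))) := by
    intro k x
    rw [← Fintype.sum_of_injective (fun j : (MulAction.stabilizer K l) => x * (j : K))
      (fun a b h => Subtype.ext (mul_left_cancel h))
      (fun j : (MulAction.stabilizer K l) => ext0 l η (x⁻¹ * k * x) * conj (ext0 l η' (x⁻¹ * k * x))) _ ?_ ?_]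
    · rw [Finset.sum_const, Finset.card_univ, ← Nat.card_eq_fintype_card, nsmul_eq_mul]
    · intro y hy
      refine if_neg fun e => hy ⟨⟨x⁻¹ * y, ?_⟩, mul_inv_cancel_left x y⟩
      rw [MulAction.mem_stabilizer_iff, mul_smul, ← e, inv_smul_smul]
    · intro j
      rw [if_pos (by rw [mul_smul, (j.2 : (j : K) • l = l)]),
        show (x * (j : K))⁻¹ * k * (x * j) = (j : K)⁻¹ * (x⁻¹ * k * x) * j by group, ext0_conj]
  rw [Finset.sum_congr rfl fun k _ => Finset.sum_congr rfl fun x _ => hy k x]
  simp only [← Finset.mul_sum]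
  rw [Finset.sum_comm]
  have hx : ∀ x : K, ∑ k : K, ext0 l η (x⁻¹ * k * x) * conj (ext0 l η' (x⁻¹ * k * x)) =
      ∑ j : (MulAction.stabilizer K l), (η j : ℂ) * conj (η' j : ℂ) := by
    intro x
    refine (Fintype.sum_equiv ((Equiv.mulLeft x⁻¹).trans (Equiv.mulRight x)) _
      (fun k => ext0 l η k * conj (ext0 l η' k)) fun k => rfl).trans ?_
    refine (Fintype.sum_of_injective (fun j : (MulAction.stabilizer K l) => (j : K)) Subtype.val_injective _ _
      (fun k hk => ?_) fun j => by rw [ext0_mem, ext0_mem]).symm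
    rw [ext0, dif_neg (fun h : k • l = l => hk ⟨⟨k, h⟩, rfl⟩), zero_mul]
  rw [Finset.sum_congr rfl fun x _ => hx x, hom_orth, Finset.sum_const, Finset.card_univ,
    ← Nat.card_eq_fintype_card, nsmul_eq_mul]
  have h1 : (Nat.card K : ℂ) ≠ 0 := Nat.cast_ne_zero.2 Nat.card_pos.ne'
  have h2 : (Nat.card (MulAction.stabilizer K l) : ℂ) ≠ 0 := Nat.cast_ne_zero.2 Nat.card_pos.ne'
  split_ifs
  · field_simp
  · simp

end Ind

end Cfsg.Agent.AbelInv
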