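import Cfsg.Agent.Lib.AbelInv.Fibre
import Cfsg.Agent.Lib.EightAut.Chars

/-!
The averaged characters of the principal block and of the other blocks.
-/

set_option autoImplicit false
set_option linter.unusedSectionVars false
set_option linter.style.haveILetI false

namespace Cfsg.Agent.AbelInv

open Cfsg Cfsg.Agent.Char Cfsg.Agent.Blocks
open scoped ComplexConjugate

universe u

variable {G : Type u} [Group G] [Fintype G] {J : Ideal AlgInt} [J.IsPrime]

/-- Outside the principal block the sums over the cosets of the core in a section vanish. -/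
theorem sum_local_eq_zero (hJ : IsPModular 2 J) {x : G} (hx : ∃ k, orderOf x = 2 ^ k) {C : Subgroup G}
    [Fintype C] (hC : C = Subgroup.centralizer ({x} : Set G)) (O : Subgroup C) [O.Normal] [Fintype O]
    (hO : ¬ 2 ∣ Nat.card O) [Fintype (C ⧸ O)] (Sb : Subgroup (C ⧸ O)) [Sb.Normal]
    (hSp : IsPGroup 2 Sb) (hSc : Subgroup.centralizer (Sb : Set (C ⧸ O)) ≤ Sb) {χ : IrrCharacter G}
    (hχ : χ ∉ principalBlock J G) {y : C} (hy : ¬ 2 ∣ orderOf y) :
    ∑ o : O, (χ : G → ℂ) (x * ((y * (o : C) : C) : G)) = 0 := by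
  classical
  have hnot : ¬ IsInducedBlock J C (principalBlock J C) (blockOf J (χ : G → ℂ)) := by
    intro hind
    have h0 : IsInducedBlock J C (principalBlock J C) (principalBlock J G) :=
      (mem_unitBlocks_iff_induced' hJ hx hC (isPBlock_principalBlock J G)).1
        (by rw [unitBlocks_principal hJ hx hC]; exact Finset.mem_singleton_self _)
    exact hχ (isInducedBlock_unique hind h0 ▸ self_mem_blockOf χ)
  have hzero := blockPart_secFun_eq_zero hJ hx hC (isPBlock_blockOf χ) (self_mem_blockOf χ)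
    (isPBlock_principalBlock J C) hnot (u := y) hy
  have hcf := isClassFunction_secFun hC (IsCharacter.isClassFunction (irr_isCharacter χ))
  have e : ∀ o : O, (χ : G → ℂ) (x * ((y * (o : C) : C) : G)) =
      ∑ φ : IrrCharacter C, classInner (secFun x C (χ : G → ℂ)) (φ : C → ℂ) *
        (φ : C → ℂ) (y * (o : C)) := by
    intro o
    have h := congrFun (classFunction_eq_sum hcf) (y * (o : C))
    simp only [Finset.sum_apply, Pi.smul_apply, smul_eq_mul] at h
    rw [← h]
    rfl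
  simp only [e]
  rw [Finset.sum_comm]
  calc ∑ φ : IrrCharacter C, ∑ o : O, classInner (secFun x C (χ : G → ℂ)) (φ : C → ℂ) *
        (φ : C → ℂ) (y * (o : C))
      = ∑ φ : IrrCharacter C, (Nat.card O : ℂ) * (if φ ∈ principalBlock J C then
          classInner (secFun x C (χ : G → ℂ)) (φ : C → ℂ) * (φ : C → ℂ) y else 0) := by
        refine Finset.sum_congr rfl fun φ _ => ?_
        rw [← Finset.mul_sum]
        by_cases hφ : φ ∈ principalBlock J C
        · rw [if_pos hφ]
          have htriv := trivialOn_of_sameBlock hJ O hO (χ := Char.principal C) (ψ := φ) hφ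
            (fun _ _ => rfl)
          obtain ⟨f, -, hfe, -⟩ := IsCharacter.deflate (irr_isCharacter φ) O htriv
          rw [Finset.sum_congr rfl (g := fun _ => (φ : C → ℂ) y) fun o _ => ?_,
            Finset.sum_const, Finset.card_univ, ← Nat.card_eq_fintype_card, nsmul_eq_mul]
          · ring
          · rw [← hfe, ← hfe]
            exact congrArg f (QuotientGroup.eq.2 (by simp))
        · rw [if_neg hφ, mul_zero, CharX.sum_coset_eq_zero φ.2 O ?_ _, mul_zero]
          by_contra h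
          push Not at h
          exact hφ (EightAut.mem_principalBlock_of_trivialOn hJ Sb hSp hSc h)
    _ = (Nat.card O : ℂ) * blockPart (principalBlock J C) (secFun x C (χ : G → ℂ)) y := by
        rw [← Finset.mul_sum, blockPart_eq_sum, ← Finset.sum_filter]
    _ = 0 := by rw [hzero, mul_zero]

variable {S K : Type u} [CommGroup S] [Group K] [MulDistribMulAction K S] [Fintype S] [Fintype K]
  (Mo : Model G S K) (M : Hyp S K)

namespace Model

/-- The averaged character. -/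
noncomputable def avg (χ : IrrCharacter G) (a : SK S K) : ℂ :=
  (Nat.card Mo.W : ℂ)⁻¹ * ∑ g ∈ Mo.fib a, (χ : G → ℂ) g

theorem natCard_W_ne : (Nat.card Mo.W : ℂ) ≠ 0 := Nat.cast_ne_zero.2 Nat.card_pos.ne'

/-- The sum over a fibre as a sum over the core of the centraliser of the 2-part. -/
theorem fibre_sum {x h : G} {a : SK S K} (hh : h ∈ Mo.fib a) {C : Subgroup G}
    (hC : C = Subgroup.centralizer ({x} : Set G)) [Fintype (Mo.W.subgroupOf C)]
    (hpart : ∀ o : Mo.W.subgroupOf C, IsPPart 2 (h * ((o : C) : G)) x)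
    (hWa : ∀ v ∈ Mo.W, v * h * v⁻¹ ∈ Mo.fib a) (χ : IrrCharacter G) :
    (Nat.card (Mo.W.subgroupOf C) : ℂ) * ∑ g ∈ Mo.fib a, (χ : G → ℂ) g =
      (Nat.card Mo.W : ℂ) * ∑ o : Mo.W.subgroupOf C, (χ : G → ℂ) (h * ((o : C) : G)) := by
  classical
  haveI : Fintype Mo.W := Fintype.ofFinite _
  let Φ : Mo.W × (Mo.W.subgroupOf C) → G := fun p => (p.1 : G) * (h * ((p.2 : C) : G)) * (p.1 : G)⁻¹
  obtain ⟨hhH, hha⟩ := Mo.mem_fib.1 hh
  have hΦ : ∀ p ∈ (Finset.univ : Finset (Mo.W × (Mo.W.subgroupOf C))), Φ p ∈ Mo.fib a := by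
    intro p _
    have hoW : ((p.2 : C) : G) ∈ Mo.W := Subgroup.mem_subgroupOf.1 p.2.2
    obtain ⟨hvH, hva⟩ := Mo.mem_fib.1 (hWa _ p.1.2)
    have hco : (p.1 : G) * ((p.2 : C) : G) * (p.1 : G)⁻¹ ∈ Mo.W :=
      mul_mem (mul_mem p.1.2 hoW) (inv_mem p.1.2)
    have e : Φ p = (p.1 : G) * h * (p.1 : G)⁻¹ * ((p.1 : G) * ((p.2 : C) : G) * (p.1 : G)⁻¹) := by
      simp only [Φ]; group
    refine Mo.mem_fib.2 ⟨e ▸ mul_mem hvH (Mo.W_le hco), ?_⟩
    rw [e, Mo.pr_mul hvH (Mo.W_le hco), hva, (Mo.pr_eq_one (Mo.W_le hco)).2 hco, mul_one]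
  have hle : ∀ g ∈ Mo.fib a,
      ((Finset.univ : Finset (Mo.W × (Mo.W.subgroupOf C))).filter fun p => Φ p = g).card ≤ Fintype.card (Mo.W.subgroupOf C) := by
    intro g _
    by_cases hne : ((Finset.univ : Finset (Mo.W × (Mo.W.subgroupOf C))).filter fun p => Φ p = g).Nonempty
    swap
    · rw [Finset.not_nonempty_iff_eq_empty.1 hne, Finset.card_empty]; exact Nat.zero_le _
    obtain ⟨p₀, hp₀⟩ := hne
    have hp₀' := (Finset.mem_filter.1 hp₀).2
    have hc : ∀ p : Mo.W × (Mo.W.subgroupOf C), Φ p = g → (p₀.1 : G)⁻¹ * (p.1 : G) ∈ C := by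
      intro p hp
      have h1 := IsPPart.conj (hpart p.2) (p.1 : G)
      have h2 := IsPPart.conj (hpart p₀.2) (p₀.1 : G)
      have he : (p.1 : G) * x * (p.1 : G)⁻¹ = (p₀.1 : G) * x * (p₀.1 : G)⁻¹ := by
        refine isPPart_unique Nat.prime_two (g := g) ?_ ?_
        · rw [← hp]; exact h1
        · rw [← hp₀']; exact h2
      refine hC.ge ?_
      rw [Subgroup.mem_centralizer_singleton_iff, ← mul_inv_eq_iff_eq_mul]
      calc (p₀.1 : G)⁻¹ * (p.1 : G) * x * ((p₀.1 : G)⁻¹ * (p.1 : G))⁻¹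
          = (p₀.1 : G)⁻¹ * ((p.1 : G) * x * (p.1 : G)⁻¹) * (p₀.1 : G) := by group
        _ = x := by rw [he]; group
    rw [← Finset.card_univ (α := (Mo.W.subgroupOf C))]
    refine Finset.card_le_card_of_injOn
      (fun p => if hp : Φ p = g then ⟨⟨_, hc p hp⟩, Subgroup.mem_subgroupOf.2 (mul_mem (inv_mem p₀.1.2) p.1.2)⟩
        else 1) (fun _ _ => Finset.mem_univ _) ?_
    intro p hp q hq he
    have hp' := (Finset.mem_filter.1 hp).2
    have hq' := (Finset.mem_filter.1 hq).2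
    simp only [dif_pos hp', dif_pos hq'] at he
    have he' : (p₀.1 : G)⁻¹ * (p.1 : G) = (p₀.1 : G)⁻¹ * (q.1 : G) :=
      congrArg (fun o : (Mo.W.subgroupOf C) => ((o : C) : G)) he
    have h1 : p.1 = q.1 := Subtype.ext (mul_left_cancel he')
    refine Prod.ext h1 (Subtype.ext (Subtype.ext ?_))
    have h2 := hp'.trans hq'.symm
    simp only [Φ, h1] at h2
    exact mul_left_cancel (mul_left_cancel (mul_right_cancel h2))
  have htot := Finset.card_eq_sum_card_fiberwise hΦ
  rw [Finset.card_univ, Fintype.card_prod] at htot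
  have hall := (Finset.sum_eq_sum_iff_of_le hle).1 (by
    rw [← htot, Finset.sum_const, smul_eq_mul, Mo.card_fib, Nat.card_eq_fintype_card])
  have hinner : ∀ p : Mo.W × (Mo.W.subgroupOf C), (χ : G → ℂ) (h * ((p.2 : C) : G)) = (χ : G → ℂ) (Φ p) := fun p =>
    (IsCharacter.isClassFunction (irr_isCharacter χ) _ (p.1 : G)).symm
  calc (Nat.card (Mo.W.subgroupOf C) : ℂ) * ∑ g ∈ Mo.fib a, (χ : G → ℂ) g
      = ∑ g ∈ Mo.fib a, ∑ p ∈ (Finset.univ : Finset (Mo.W × (Mo.W.subgroupOf C))).filter (fun p => Φ p = g),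
          (χ : G → ℂ) g := by
        rw [Finset.mul_sum]
        refine Finset.sum_congr rfl fun g hg => ?_
        rw [Finset.sum_const, hall g hg, nsmul_eq_mul, Nat.card_eq_fintype_card]
    _ = ∑ p : Mo.W × (Mo.W.subgroupOf C), (χ : G → ℂ) (Φ p) := by
        rw [← Finset.sum_fiberwise_of_maps_to hΦ (fun p => (χ : G → ℂ) (Φ p))]
        refine Finset.sum_congr rfl fun g _ => Finset.sum_congr rfl fun p hp => ?_
        rw [(Finset.mem_filter.1 hp).2]
    _ = _ := by
        rw [Finset.sum_congr rfl fun p _ => (hinner p).symm, Fintype.sum_prod_type]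
        dsimp only
        rw [Finset.sum_const,
          Finset.card_univ, nsmul_eq_mul, Nat.card_eq_fintype_card]

/-- The normal structure of the centraliser of the 2-part. -/
theorem W_normal_in {C : Subgroup G} (hC : C ≤ Mo.H) : (Mo.W.subgroupOf C).Normal :=
  ⟨fun n hn g => Subgroup.mem_subgroupOf.2
    ((Subgroup.mem_normalizer_iff.1 (Mo.W_norm (hC g.2)) (n : G)).1 (Subgroup.mem_subgroupOf.1 hn))⟩

theorem W_odd_in (C : Subgroup G) : ¬ 2 ∣ Nat.card (Mo.W.subgroupOf C) := by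
  intro h
  have h1 : Nat.card (Mo.W.subgroupOf C) ∣ Nat.card Mo.W := by
    have : Nat.card (Mo.W.subgroupOf C) = Nat.card (Mo.W ⊓ C : Subgroup G) := by
      rw [← Subgroup.inf_subgroupOf_right, Nat.card_congr (Subgroup.subgroupOfEquivOfLe inf_le_right).toEquiv]
    rw [this]
    exact Subgroup.card_dvd_of_le inf_le_left
  exact (Nat.not_even_iff_odd.2 Mo.W_odd) (even_iff_two_dvd.2 (h.trans h1))

/-- The data of an element over a 2-singular element. -/
theorem exists_parts {a : SK S K} (ha : Even (orderOf a)) :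
    ∃ x y : G, x ≠ 1 ∧ (∃ k, orderOf x = 2 ^ k) ∧ x ∈ Mo.H ∧ y ∈ Subgroup.centralizer ({x} : Set G) ∧
      x * y ∈ Mo.fib a ∧ ∀ o ∈ Mo.W, o ∈ Subgroup.centralizer ({x} : Set G) →
        ¬ 2 ∣ orderOf (y * o) := by
  obtain ⟨h, hh⟩ := Mo.exists_mem_fib a
  obtain ⟨hhH, hha⟩ := Mo.mem_fib.1 hh
  obtain ⟨x, hx⟩ := exists_isPPart Nat.prime_two h
  obtain ⟨y, hxy, hcom, hk, hy⟩ := id hx
  have hxH : x ∈ Mo.H := Subgroup.zpowers_le.2 hhH (IsPPart.mem_zpowers Nat.prime_two hx)
  have hyH : y ∈ Mo.H := by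
    have := mul_mem (inv_mem hxH) hhH
    rwa [← hxy, inv_mul_cancel_left] at this
  have hyC : y ∈ Subgroup.centralizer ({x} : Set G) :=
    Subgroup.mem_centralizer_singleton_iff.2 hcom.symm.eq
  refine ⟨x, y, fun hx1 => ?_, hk, hxH, hyC, hxy.symm ▸ hh, fun o ho hoC hd => ?_⟩
  · rw [hx1, one_mul] at hxy
    exact hy ((hxy.symm ▸ Mo.even_orderOf hhH (hha ▸ ha) : Even (orderOf y)).two_dvd)
  · have hoH := Mo.W_le ho
    have h1 : Mo.pr ((y * o) ^ orderOf y) = 1 := by
      rw [Mo.pr_pow (mul_mem hyH hoH), Mo.pr_mul hyH hoH, (Mo.pr_eq_one hoH).2 ho, mul_one,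
        ← Mo.pr_pow hyH, pow_orderOf_eq_one, pr_one]
    have h2 := (Mo.pr_eq_one (pow_mem (mul_mem hyH hoH) _)).1 h1
    have h3 : (y * o) ^ (orderOf y * Nat.card Mo.W) = 1 := by
      rw [pow_mul]
      exact orderOf_dvd_iff_pow_eq_one.1 (Subgroup.orderOf_dvd_natCard Mo.W h2)
    rcases (Nat.Prime.dvd_mul Nat.prime_two).1 (hd.trans (orderOf_dvd_of_pow_eq_one h3)) with h4 | h4
    · exact hy h4
    · exact (Nat.not_even_iff_odd.2 Mo.W_odd) (even_iff_two_dvd.2 h4)

include M in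
/-- Outside the principal block the averages on 2-singular elements vanish. -/
theorem avg_eq_zero (hfaith : ∀ k : K, (∀ s : S, k • s = s) → k = 1) (hJ : IsPModular 2 J)
    {χ : IrrCharacter G} (hχ : χ ∉ principalBlock J G) {a : SK S K} (ha : Even (orderOf a)) :
    Mo.avg χ a = 0 := by
  classical
  haveI : Fact (Nat.Prime 2) := ⟨Nat.prime_two⟩
  obtain ⟨x, y, hx1, hxk, hxH, hyC, hfib, hodd⟩ := Mo.exists_parts ha
  set C := Subgroup.centralizer ({x} : Set G) with hC
  have hCH : C ≤ Mo.H := Mo.centralizer_le hxH hxk hx1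
  haveI := Mo.W_normal_in hCH
  set O := Mo.W.subgroupOf C with hOdef
  haveI : Fintype O := Fintype.ofFinite _
  haveI : Fintype C := Fintype.ofFinite _
  haveI : Fintype (C ⧸ O) := Fintype.ofFinite _
  let f : C →* SK S K := Mo.proj.comp (Subgroup.inclusion hCH)
  have hfker : f.ker = O := by
    ext c
    rw [MonoidHom.mem_ker, hOdef, Subgroup.mem_subgroupOf]
    show Mo.proj ⟨(c : G), hCH c.2⟩ = 1 ↔ _
    rw [← Mo.pr_eq, Mo.pr_eq_one (hCH c.2)]
  have hfO : O ≤ f.ker := hfker.ge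
  let ψ : C ⧸ O →* SK S K := QuotientGroup.lift O f hfO
  have hψ : Function.Injective ψ := by
    rw [injective_iff_map_eq_one]
    intro q hq
    induction q using QuotientGroup.induction_on with
    | _ c => exact (QuotientGroup.eq_one_iff c).2 (hfker.le hq)
  let R : Subgroup (SK S K) := (SemidirectProduct.inl : S →* SK S K).range
  haveI hRn : R.Normal := by
    show (SemidirectProduct.inl : S →* SK S K).range.Normal
    rw [SemidirectProduct.range_inl_eq_ker_rightHom]
    infer_instance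
  let Sb : Subgroup (C ⧸ O) := R.comap ψ
  have hSp : IsPGroup 2 Sb := by
    have hR : IsPGroup 2 R := M.two.of_surjective (SemidirectProduct.inl : S →* SK S K).rangeRestrict
      (MonoidHom.rangeRestrict_surjective _)
    exact hR.comap_of_injective ψ hψ
  -- an element of order a power of two lies over the 2-group
  have hR2 : ∀ z : SK S K, (∃ k, z ^ 2 ^ k = 1) → z ∈ R := by
    rintro z ⟨k, hk⟩
    refine ⟨z.left, ?_⟩
    have hr : z.right ^ 2 ^ k = 1 := by
      rw [← SemidirectProduct.rightHom_eq_right, ← map_pow, hk, map_one]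
    have hr1 : z.right = 1 := by
      rw [← orderOf_eq_one_iff]
      exact Nat.eq_one_of_dvd_coprimes (Nat.Coprime.pow_left k (Nat.coprime_two_left.2 M.odd))
        (orderOf_dvd_of_pow_eq_one hr) (orderOf_dvd_natCard _)
    conv_rhs => rw [← SemidirectProduct.inl_left_mul_inr_right z, hr1, map_one, mul_one]
  have hlift : ∀ s : S, ∃ c : C ⧸ O, ψ c = SemidirectProduct.inl s := by
    obtain ⟨k, hk⟩ := hxk
    obtain ⟨P', hP'⟩ := (IsPGroup.of_card (n := k) (p := 2)
      (by rw [Nat.card_zpowers, hk] : Nat.card (Subgroup.zpowers x) = 2 ^ k)).exists_le_sylow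
    obtain ⟨g, hg⟩ := MulAction.exists_smul_eq G Mo.P P'
    have hab : ∀ u ∈ (P' : Subgroup G), ∀ v ∈ (P' : Subgroup G), u * v = v * u := by
      intro u hu v hv
      rw [← hg] at hu hv
      obtain ⟨u', hu', rfl⟩ := hu
      obtain ⟨v', hv', rfl⟩ := hv
      show MulAut.conj g u' * MulAut.conj g v' = MulAut.conj g v' * MulAut.conj g u'
      obtain ⟨su, hsu⟩ := Mo.emb.surjective ⟨u', hu'⟩
      obtain ⟨sv, hsv⟩ := Mo.emb.surjective ⟨v', hv'⟩
      have := congrArg (fun s : S => ((Mo.emb s : (Mo.P : Subgroup G)) : G)) (mul_comm su sv)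
      simp only [map_mul, hsu, hsv, Subgroup.coe_mul] at this
      rw [← map_mul, ← map_mul, this]
    have hP'C : (P' : Subgroup G) ≤ C := fun u hu =>
      Subgroup.mem_centralizer_singleton_iff.2 (hab u hu x (hP' (Subgroup.mem_zpowers x)))
    have hin : ∀ u : (P' : Subgroup G), ψ (QuotientGroup.mk ⟨(u : G), hP'C u.2⟩) ∈ R := by
      intro u
      obtain ⟨j, hj⟩ := P'.2 u
      refine hR2 _ ⟨j, ?_⟩
      rw [← map_pow, ← QuotientGroup.mk_pow]
      rw [show (⟨(u : G), hP'C u.2⟩ : C) ^ 2 ^ j = 1 from Subtype.ext (congrArg Subtype.val hj :),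
        QuotientGroup.mk_one, map_one]
    let F : ↥(P' : Subgroup G) → S := fun u => (ψ (QuotientGroup.mk ⟨(u : G), hP'C u.2⟩)).left
    have hFe : ∀ u, SemidirectProduct.inl (F u) = ψ (QuotientGroup.mk ⟨(u : G), hP'C u.2⟩) := fun u => by
      obtain ⟨s, hs⟩ := hin u
      simp only [F, ← hs, SemidirectProduct.left_inl]
    have hFi : Function.Injective F := by
      intro u v he
      have h1 := congrArg (SemidirectProduct.inl (φ := MulDistribMulAction.toMulAut K S)) he
      rw [hFe, hFe] at h1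
      have h2 := QuotientGroup.eq.1 (hψ h1)
      rw [hOdef, Subgroup.mem_subgroupOf] at h2
      refine Subtype.ext (inv_mul_eq_one.1 ?_)
      exact Subgroup.mem_bot.1 ((PBasic.inf_eq_bot_of_coprime (p := 2) (N := Mo.W)
        (Nat.coprime_two_right.2 Mo.W_odd) P'.2).le ⟨h2, (P' : Subgroup G).mul_mem ((P' : Subgroup G).inv_mem u.2) v.2⟩)
    have hcard : Nat.card (P' : Subgroup G) = Nat.card S := by
      rw [Nat.card_congr Mo.emb.toEquiv]
      rw [← hg]
      exact Subgroup.card_map_of_injective (MulAut.conj g).injective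
    have hFb := hFi.bijective_of_nat_card_le hcard.ge
    intro s
    obtain ⟨u, rfl⟩ := hFb.2 s
    exact ⟨_, (hFe u).symm⟩
  have hSc : Subgroup.centralizer (Sb : Set (C ⧸ O)) ≤ Sb := by
    intro q hq
    show ψ q ∈ R
    have hfix : ∀ s : S, (ψ q).right • s = s := by
      intro s
      obtain ⟨c, hc⟩ := hlift s
      have h1 := congrArg ψ (Subgroup.mem_centralizer_iff.1 hq c (show ψ c ∈ R from hc ▸ ⟨s, rfl⟩))
      rw [map_mul, map_mul, hc] at h1
      have h2 := congrArg SemidirectProduct.left h1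
      simp only [SemidirectProduct.mul_left, SemidirectProduct.left_inl, SemidirectProduct.right_inl,
        map_one, MulAut.one_apply, MulDistribMulAction.toMulAut_apply] at h2
      rw [mul_comm] at h2
      exact (mul_left_cancel h2).symm
    exact ⟨(ψ q).left, by
      conv_rhs => rw [← SemidirectProduct.inl_left_mul_inr_right (ψ q), hfaith _ hfix, map_one, mul_one]⟩
  have hpart : ∀ o : O, IsPPart 2 (x * y * ((o : C) : G)) x := fun o =>
    ⟨y * ((o : C) : G), (mul_assoc _ _ _).symm,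
      ((Subgroup.mem_centralizer_singleton_iff.1 (mul_mem hyC (o : C).2)) : _ = _).symm, hxk,
      hodd _ (Subgroup.mem_subgroupOf.1 o.2) (o : C).2⟩
  have hWa : ∀ v ∈ Mo.W, v * (x * y) * v⁻¹ ∈ Mo.fib a := by
    intro v hv
    obtain ⟨hH, hp⟩ := Mo.mem_fib.1 hfib
    refine Mo.mem_fib.2 ⟨mul_mem (mul_mem (Mo.W_le hv) hH) (inv_mem (Mo.W_le hv)), ?_⟩
    rw [Mo.pr_mul (mul_mem (Mo.W_le hv) hH) (inv_mem (Mo.W_le hv)), Mo.pr_mul (Mo.W_le hv) hH,
      Mo.pr_inv (Mo.W_le hv), (Mo.pr_eq_one (Mo.W_le hv)).2 hv, one_mul, inv_one, mul_one, hp]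
  have h := Mo.fibre_sum hfib hC hpart hWa χ
  have hz := sum_local_eq_zero hJ hxk hC O (Mo.W_odd_in C) Sb hSp hSc hχ (y := ⟨y, hyC⟩) (by
    rw [Subgroup.orderOf_mk]
    simpa using hodd 1 (one_mem _) (one_mem _))
  rw [Finset.sum_congr rfl (g := fun o : O => (χ : G → ℂ) (x * ((⟨y, hyC⟩ * (o : C) : C) : G)))
    (fun o _ => by rw [Subgroup.coe_mul, mul_assoc]), hz, mul_zero] at h
  rw [avg, (mul_eq_zero.1 h).resolve_left (Nat.cast_ne_zero.2 Nat.card_pos.ne'), mul_zero]

include M in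
/-- In the principal block the average at the involution is the value. -/
theorem avg_eq_value (hJ : IsPModular 2 J) {χ : IrrCharacter G} (hχ : χ ∈ principalBlock J G) :
    Mo.avg χ (SemidirectProduct.inl M.t) = (χ : G → ℂ) (Mo.tG M) := by
  classical
  set x := Mo.tG M with hx
  set C := Subgroup.centralizer ({x} : Set G) with hC
  have hx2 := Mo.orderOf_tG M
  have hCH : C ≤ Mo.H := Invol.se_centralizer_le Mo.se hx2 (Mo.tG_mem M)
  haveI := Mo.W_normal_in hCH
  set O := Mo.W.subgroupOf C with hOdef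
  haveI : Fintype O := Fintype.ofFinite _
  haveI : Fintype C := Fintype.ofFinite _
  have hxfib : x ∈ Mo.fib (SemidirectProduct.inl M.t) := Mo.mem_fib.2 ⟨Mo.tG_mem M, Mo.pr_emb M.t⟩
  have hpart : ∀ o : O, IsPPart 2 (x * ((o : C) : G)) x := fun o =>
    ⟨((o : C) : G), rfl, ((Subgroup.mem_centralizer_singleton_iff.1 (o : C).2) : _ = _).symm,
      ⟨1, by rw [hx2, pow_one]⟩, fun h => Mo.W_odd_in C (h.trans (by
        rw [Subgroup.orderOf_coe]
        exact Subgroup.orderOf_dvd_natCard O o.2))⟩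
  have hWa : ∀ v ∈ Mo.W, v * x * v⁻¹ ∈ Mo.fib (SemidirectProduct.inl M.t) := by
    intro v hv
    obtain ⟨hH, hp⟩ := Mo.mem_fib.1 hxfib
    refine Mo.mem_fib.2 ⟨mul_mem (mul_mem (Mo.W_le hv) hH) (inv_mem (Mo.W_le hv)), ?_⟩
    rw [Mo.pr_mul (mul_mem (Mo.W_le hv) hH) (inv_mem (Mo.W_le hv)), Mo.pr_mul (Mo.W_le hv) hH,
      Mo.pr_inv (Mo.W_le hv), (Mo.pr_eq_one (Mo.W_le hv)).2 hv, one_mul, inv_one, mul_one, hp]
  have h := Mo.fibre_sum hxfib hC hpart hWa χ
  rw [Finset.sum_congr rfl (g := fun _ : O => (χ : G → ℂ) x) (fun o _ =>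
      irr_section_of_kernel hJ ⟨1, by rw [hx2, pow_one]⟩ hC hχ O (Mo.W_odd_in C) o.2),
    Finset.sum_const, Finset.card_univ, ← Nat.card_eq_fintype_card, nsmul_eq_mul,
    mul_left_comm] at h
  rw [avg, mul_left_cancel₀ (Nat.cast_ne_zero.2 (Nat.card_pos (α := O)).ne') h,
    inv_mul_cancel_left₀ Mo.natCard_W_ne]

end Model

end Cfsg.Agent.AbelInv
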