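import Cfsg.Agent.Lib.AbelInv.Family
import Mathlib.Tactic.Linarith

/-!
The exceptional characters.
-/

set_option autoImplicit false
set_option linter.unusedSectionVars false
set_option linter.style.haveILetI false

namespace Cfsg.Agent.AbelInv

open Cfsg Cfsg.Agent.Char

universe u v

/-- An integral vector of norm one. -/
theorem exists_single {ι : Type v} [DecidableEq ι] (s : Finset ι) (v : ι → ℤ)
    (h : ∑ χ ∈ s, v χ * v χ = 1) :
    ∃ a ∈ s, (v a = 1 ∨ v a = -1) ∧ ∀ χ ∈ s, χ ≠ a → v χ = 0 := by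
  obtain ⟨a, ha, hva⟩ : ∃ a ∈ s, v a ≠ 0 := by
    by_contra! hn
    rw [Finset.sum_eq_zero fun χ hχ => by rw [hn χ hχ, mul_zero]] at h
    exact zero_ne_one h
  rw [← Finset.add_sum_erase s _ ha] at h
  have h1 : 0 ≤ ∑ χ ∈ s.erase a, v χ * v χ := Finset.sum_nonneg fun χ _ => mul_self_nonneg _
  have h2 : 0 < v a * v a := mul_self_pos.2 hva
  refine ⟨a, ha, mul_self_eq_one_iff.1 (by omega), fun χ hχ hne => ?_⟩
  exact mul_self_eq_zero.1 ((Finset.sum_eq_zero_iff_of_nonneg fun i _ => mul_self_nonneg (v i)).1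
    (by omega) χ (Finset.mem_erase.2 ⟨hne, hχ⟩))

variable {S K : Type u} [CommGroup S] [Group K] [MulDistribMulAction K S] [Fintype S] [Fintype K]
  {M : Hyp S K}

namespace Reps

variable (R : Reps M)

theorem ext'_eq {ψ : MulAction.stabilizer K M.t →* ℂˣ} {r : {r // r ∈ R.reps}}
    (h : MulAction.stabilizer K r.1 = MulAction.stabilizer K M.t) :
    R.ext' ⟨r, ψ.domRestrict _⟩ = {ψ} := by
  ext φ
  rw [R.mem_ext', Finset.mem_singleton]
  refine ⟨fun e => MonoidHom.ext fun j => ?_, fun e => e ▸ rfl⟩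
  exact DFunLike.congr_fun e ⟨j, by rw [R.sub_eq_top h]; exact Subgroup.mem_top _⟩

theorem ext'_bI (ψ : MulAction.stabilizer K M.t →* ℂˣ) : R.ext' (R.bI ψ) = {ψ} := R.ext'_eq R.stab₀

theorem ext'_aI (ψ : MulAction.stabilizer K M.t →* ℂˣ) : R.ext' (R.aI ψ) = {ψ} := R.ext'_eq R.stab₁

theorem ext'_aI' (ψ : MulAction.stabilizer K M.t →* ℂˣ) : R.ext' (R.aI' ψ) = {ψ} := R.ext'_eq R.stab₂

theorem bI_r (ψ : MulAction.stabilizer K M.t →* ℂˣ) : (R.bI ψ).1.1 = R.l₀ := rfl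
theorem aI_r (ψ : MulAction.stabilizer K M.t →* ℂˣ) : (R.aI ψ).1.1 = R.l₁ := rfl
theorem aI'_r (ψ : MulAction.stabilizer K M.t →* ℂˣ) : (R.aI' ψ).1.1 = R.l₂ := rfl

/-- An index over one of the three orbits. -/
theorem exists_of_stab {x : R.Idx} (h : MulAction.stabilizer K x.1.1 = MulAction.stabilizer K M.t) :
    ∃ ψ : MulAction.stabilizer K M.t →* ℂˣ, x = ⟨x.1, ψ.domRestrict _⟩ := by
  obtain ⟨ψ, hψ⟩ := MonoidHom.domRestrict_surjective ℂ (R.sub x.1.1) x.2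
  exact ⟨ψ, by rw [show ψ.domRestrict (R.sub x.1.1) = x.2 from hψ]⟩

theorem idx_cases (x : R.Idx) :
    (∃ ψ, x = R.bI ψ) ∨ (∃ ψ, x = R.aI ψ) ∨ (∃ ψ, x = R.aI' ψ) ∨
      (x.1.1 ≠ R.l₀ ∧ x.1.1 ≠ R.l₁ ∧ x.1.1 ≠ R.l₂) := by
  obtain ⟨⟨r, hr⟩, η⟩ := x
  by_cases h0 : r = R.l₀
  · subst h0
    obtain ⟨ψ, hψ⟩ := R.exists_of_stab (x := ⟨⟨R.l₀, hr⟩, η⟩) R.stab₀
    exact Or.inl ⟨ψ, hψ⟩
  by_cases h1 : r = R.l₁
  · subst h1
    obtain ⟨ψ, hψ⟩ := R.exists_of_stab (x := ⟨⟨R.l₁, hr⟩, η⟩) R.stab₁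
    exact Or.inr (Or.inl ⟨ψ, hψ⟩)
  by_cases h2 : r = R.l₂
  · subst h2
    obtain ⟨ψ, hψ⟩ := R.exists_of_stab (x := ⟨⟨R.l₂, hr⟩, η⟩) R.stab₂
    exact Or.inr (Or.inr (Or.inl ⟨ψ, hψ⟩))
  exact Or.inr (Or.inr (Or.inr ⟨h0, h1, h2⟩))

theorem uloc_three (x : R.Idx) (h : MulAction.stabilizer K x.1.1 = MulAction.stabilizer K M.t) :
    R.uloc x = M.esum x.1.1 := by
  rw [Reps.uloc, R.sub_eq_top h, Subgroup.index_top, Nat.cast_one, one_mul]

end Reps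

variable {ι : Type v} [Fintype ι]

/-- The sum of the shifts over the extensions. -/
noncomputable def Reps.cX (R : Reps M) (c : (MulAction.stabilizer K M.t →* ℂˣ) → ℤ) (x : R.Idx) : ℤ :=
  ∑ ψ ∈ R.ext' x, c ψ

/-- The exceptional characters. -/
structure Fam (C : Cols M ι) (R : Reps M) where
  /-- the character attached to a local character -/
  star : R.Idx → ι
  inj : Function.Injective star
  ne_one : ∀ x, star x ≠ C.one
  /-- the sign -/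
  sgn : R.Idx → ℤ
  sgn_eq : ∀ x, sgn x = 1 ∨ sgn x = -1
  /-- the shift -/
  c : (MulAction.stabilizer K M.t →* ℂˣ) → ℤ
  u_star : ∀ x, C.u (star x) = sgn x * (R.uloc x - R.cX c x)
  d_star : ∀ x, (sgn x : ℝ) * C.d (star x) * C.T =
    (((R.ext' x).card : ℝ) * ((M.f : ℝ) - 1) - 2 * (R.cX c x : ℝ)) * ((Nat.card S : ℝ) * M.e)
  inner_b : ∀ ψ, sgn (R.bI ψ) = 1 → Cfsg.classInner (C.f (star (R.bI ψ))) (R.X (R.bI ψ)) ≠ 0
  zero : ∀ x : R.Idx, x.1.1 ≠ R.l₀ → ∀ χ, (∀ y, star y ≠ χ) →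
    Cfsg.classInner (R.phi x) (C.f χ) = 0

set_option maxHeartbeats 1000000 in
theorem exists_fam (C : Cols M ι) (R : Reps M) (h0 : M.esum R.l₀ = M.f) (h1 : M.esum R.l₁ = -1)
    (h2 : M.esum R.l₂ = -1) : Nonempty (Fam C R) := by
  classical
  let V : R.Idx → ι → ℤ := fun x => C.coef (R.vanish x)
  have hn1 : ∀ ψ, (R.aI ψ).1.1 ≠ R.l₀ := fun ψ => R.ne₀₁.symm
  have hn2 : ∀ ψ, (R.aI' ψ).1.1 ≠ R.l₀ := fun ψ => R.ne₀₂.symm
  have hinner : ∀ x y : R.Idx, x.1.1 ≠ R.l₀ → y.1.1 ≠ R.l₀ →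
      ∑ χ, V x χ * V y χ = (((if x = y then 1 else 0) + (R.ext' x ∩ R.ext' y).card : ℕ) : ℤ) := by
    intro x y hx hy
    have h := (C.orth (R.vanish x) (R.vanish y)).trans (R.inner_phi x y hx hy)
    exact_mod_cast h
  have haa : ∀ ψ ψ', R.aI ψ ≠ R.aI' ψ' := fun ψ ψ' h => R.ne₁₂ (congrArg (fun z : R.Idx => z.1.1) h)
  have hrho : ∀ (x : R.Idx), x.1.1 ≠ R.l₀ → Cfsg.classInner (R.phi x) (fun _ => 1) = 0 := by
    intro x _
    rw [Reps.phi, classInner_sub_left, classInner_sum_left, R.X_one_inner]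
    simp [R.X_one_inner]
  have hone : ∀ x : R.Idx, x.1.1 ≠ R.l₀ → V x C.one = 0 := fun x hx => C.coef_one _ (hrho x hx)
  have hdeg : ∀ x, ∑ χ, (V x χ : ℝ) * C.d χ = 0 := fun x => C.sum_deg _
  have hu : ∀ x, ∑ χ, V x χ * C.u χ = R.uloc x - (R.ext' x).card * M.f := by
    intro x
    have h := (C.sum_u (R.vanish x)).trans (R.phi_t x h0)
    exact_mod_cast h
  have hrel : ∀ x, ∑ χ, (V x χ : ℝ) * ((C.u χ : ℝ) ^ 2 / C.d χ) =
      ((R.uloc x - (R.ext' x).card * M.f : ℤ) : ℝ) * C.T / ((Nat.card S : ℝ) * M.e) :=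
    fun x => C.sum_rel _ (R.phi_t x h0)
  -- the triples
  have htr : ∀ ψ, ∃ (a a' b : ι) (ε : ℤ), a ≠ b ∧ a' ≠ b ∧ a ≠ a' ∧ C.d a = C.d b ∧ C.d a' = C.d b ∧
      (ε = 1 ∨ ε = -1) ∧
      V (R.aI ψ) = (fun χ => ε * ((if χ = a then 1 else 0) - if χ = b then 1 else 0)) ∧
      V (R.aI' ψ) = fun χ => ε * ((if χ = a' then 1 else 0) - if χ = b then 1 else 0) := by
    intro ψ
    refine exists_triple _ _ C.d C.d_pos ?_ (hdeg _) ?_ (hdeg _) ?_
    · rw [hinner _ _ (hn1 ψ) (hn1 ψ), if_pos rfl, Finset.inter_self, R.ext'_aI]; rfl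
    · rw [hinner _ _ (hn2 ψ) (hn2 ψ), if_pos rfl, Finset.inter_self, R.ext'_aI']; rfl
    · rw [hinner _ _ (hn1 ψ) (hn2 ψ), if_neg (haa ψ ψ), R.ext'_aI, R.ext'_aI', Finset.inter_self]; rfl
  choose a a' b ε hab hab' haa' hda hda' hε hVa hVa' using htr
  have hεε : ∀ ψ, ε ψ * ε ψ = 1 := fun ψ => by rcases hε ψ with h | h <;> simp [h]
  have hεR : ∀ ψ, (ε ψ : ℝ) * ε ψ = 1 := fun ψ => by exact_mod_cast hεε ψ
  have hsumA : ∀ ψ (g : ι → ℤ), ∑ χ, V (R.aI ψ) χ * g χ = ε ψ * (g (a ψ) - g (b ψ)) := by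
    intro ψ g
    simp [hVa ψ, mul_sub, sub_mul, Finset.sum_sub_distrib]
  have hsumA' : ∀ ψ (g : ι → ℤ), ∑ χ, V (R.aI' ψ) χ * g χ = ε ψ * (g (a' ψ) - g (b ψ)) := by
    intro ψ g
    simp [hVa' ψ, mul_sub, sub_mul, Finset.sum_sub_distrib]
  -- disjointness
  have hdis : ∀ ψ ψ', ψ ≠ ψ' → ∀ p ∈ ({a ψ, a' ψ, b ψ} : Finset ι),
      ∀ p' ∈ ({a ψ', a' ψ', b ψ'} : Finset ι), p ≠ p' := by
    intro ψ ψ' hne
    have hz : ∀ (x y : R.Idx), x.1.1 ≠ R.l₀ → y.1.1 ≠ R.l₀ → R.ext' x = {ψ} → R.ext' y = {ψ'} →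
        ∑ χ, V x χ * V y χ = 0 := by
      intro x y hx hy ex ey
      rw [hinner x y hx hy, if_neg (fun e => hne (Finset.singleton_injective (by rw [← ex, e, ey]))),
        ex, ey, Finset.singleton_inter_of_notMem (by simpa using hne)]
      rfl
    have e11 := hz _ _ (hn1 ψ) (hn1 ψ') (R.ext'_aI ψ) (R.ext'_aI ψ')
    have e12 := hz _ _ (hn1 ψ) (hn2 ψ') (R.ext'_aI ψ) (R.ext'_aI' ψ')
    have e21 := hz _ _ (hn2 ψ) (hn1 ψ') (R.ext'_aI' ψ) (R.ext'_aI ψ')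
    have e22 := hz _ _ (hn2 ψ) (hn2 ψ') (R.ext'_aI' ψ) (R.ext'_aI' ψ')
    rw [hVa, hVa] at e11
    rw [hVa, hVa'] at e12
    rw [hVa', hVa] at e21
    rw [hVa', hVa'] at e22
    obtain ⟨q1, q2, q3, q4⟩ := disjoint_of_orth (hε ψ) (hε ψ') (hab ψ) (hab ψ') e11
    obtain ⟨r1, r2, r3, r4⟩ := disjoint_of_orth (hε ψ) (hε ψ') (hab ψ) (hab' ψ') e12
    obtain ⟨s1, s2, s3, s4⟩ := disjoint_of_orth (hε ψ) (hε ψ') (hab' ψ) (hab ψ') e21
    obtain ⟨t1, t2, t3, t4⟩ := disjoint_of_orth (hε ψ) (hε ψ') (hab' ψ) (hab' ψ') e22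
    intro p hp p' hp'
    simp only [Finset.mem_insert, Finset.mem_singleton] at hp hp'
    rcases hp with rfl | rfl | rfl <;> rcases hp' with rfl | rfl | rfl <;> assumption
  -- shifts
  set c : (MulAction.stabilizer K M.t →* ℂˣ) → ℤ := fun ψ => (M.f : ℤ) - ε ψ * C.u (b ψ) with hc
  have hub : ∀ ψ, C.u (b ψ) = ε ψ * ((M.f : ℤ) - c ψ) := fun ψ => by
    rw [show (M.f : ℤ) - c ψ = ε ψ * C.u (b ψ) from by rw [hc]; ring, ← mul_assoc, hεε, one_mul]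
  have hua : ∀ ψ, C.u (a ψ) = ε ψ * (-1 - c ψ) := fun ψ => by
    have h := hu (R.aI ψ)
    rw [hsumA, R.ext'_aI, Finset.card_singleton, R.uloc_three _ R.stab₁, R.aI_r, h1, hub] at h
    linear_combination ε ψ * h - (C.u (a ψ) - ε ψ * ((M.f : ℤ) - c ψ)) * hεε ψ
  have hua' : ∀ ψ, C.u (a' ψ) = ε ψ * (-1 - c ψ) := fun ψ => by
    have h := hu (R.aI' ψ)
    rw [hsumA', R.ext'_aI', Finset.card_singleton, R.uloc_three _ R.stab₂, R.aI'_r, h2, hub] at h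
    linear_combination ε ψ * h - (C.u (a' ψ) - ε ψ * ((M.f : ℤ) - c ψ)) * hεε ψ
  have hqe : (0 : ℝ) < (Nat.card S : ℝ) * M.e :=
    mul_pos (Nat.cast_pos.2 Nat.card_pos) (Nat.cast_pos.2 M.e_pos)
  set κ : ℝ := (Nat.card S : ℝ) * M.e / C.T with hκ
  have hdb : ∀ ψ, (ε ψ : ℝ) * C.d (b ψ) = ((M.f : ℝ) - 1 - 2 * (c ψ : ℝ)) * κ := by
    intro ψ
    have h := hrel (R.aI ψ)
    rw [R.ext'_aI, Finset.card_singleton, R.uloc_three _ R.stab₁, R.aI_r, h1,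
      show ∑ χ, (V (R.aI ψ) χ : ℝ) * ((C.u χ : ℝ) ^ 2 / C.d χ) =
        (ε ψ : ℝ) * ((C.u (a ψ) : ℝ) ^ 2 / C.d (b ψ) - (C.u (b ψ) : ℝ) ^ 2 / C.d (b ψ)) by
        simp [hVa ψ, mul_sub, sub_mul, Finset.sum_sub_distrib, apply_ite (fun z : ℤ => (z : ℝ)), hda ψ],
      hua, hub] at h
    have hd := C.d_pos (b ψ)
    have hT := C.T_pos
    have hX : (0 : ℝ) < (M.f : ℝ) + 1 := by positivity
    have he : (M.e : ℝ) ≠ 0 := Nat.cast_ne_zero.2 M.e_pos.ne'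
    have hS : (Nat.card S : ℝ) ≠ 0 := Nat.cast_ne_zero.2 Nat.card_pos.ne'
    push_cast at h
    field_simp at h
    rw [hκ]
    field_simp
    refine mul_left_cancel₀ (ne_of_gt hX) ?_
    rcases hε ψ with e | e <;> rw [e] at h ⊢ <;> push_cast at h ⊢ <;> linarith
  -- the other indices
  set U : Finset ι := Finset.univ.biUnion fun ψ => {a ψ, a' ψ, b ψ} with hU
  have hsplit : ∀ (g : ι → ℝ), ∑ χ, g χ =
      (∑ ψ, (g (a ψ) + (g (a' ψ) + g (b ψ)))) + ∑ χ ∈ Uᶜ, g χ := by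
    intro g
    rw [← Finset.sum_add_sum_compl U, hU, Finset.sum_biUnion fun ψ _ ψ' _ hne =>
      Finset.disjoint_left.2 fun p hp hp' => hdis ψ ψ' hne p hp p hp' rfl]
    congr 1
    refine Finset.sum_congr rfl fun ψ _ => ?_
    rw [Finset.sum_insert (by simp [haa' ψ, hab ψ]), Finset.sum_insert (by simp [hab' ψ]),
      Finset.sum_singleton]
  have hsplitZ : ∀ (g : ι → ℤ), ∑ χ, g χ =
      (∑ ψ, (g (a ψ) + (g (a' ψ) + g (b ψ)))) + ∑ χ ∈ Uᶜ, g χ := by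
    intro g
    have h := hsplit fun χ => (g χ : ℝ)
    exact_mod_cast h
  have hother : ∀ x : R.Idx, x.1.1 ≠ R.l₀ → x.1.1 ≠ R.l₁ → x.1.1 ≠ R.l₂ →
      ∃ s σ, s ∈ Uᶜ ∧ (σ = 1 ∨ σ = -1) ∧ V x s = σ ∧ s ≠ C.one ∧
        (∀ ψ, V x (a ψ) = 0 ∧ V x (a' ψ) = 0 ∧ V x (b ψ) = if ψ ∈ R.ext' x then -ε ψ else 0) ∧
        ∀ χ ∈ Uᶜ, χ ≠ s → V x χ = 0 := by
    intro x x0 x1 x2
    set P := R.ext' x with hP
    have hA : ∀ ψ, V x (a ψ) - V x (b ψ) = (if ψ ∈ P then ε ψ else 0) := by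
      intro ψ
      have h := hinner (R.aI ψ) x (hn1 ψ) x0
      rw [if_neg (fun e => x1 (by rw [← e]; rfl)), R.ext'_aI, hsumA] at h
      have hh : ε ψ * (V x (a ψ) - V x (b ψ)) = if ψ ∈ P then 1 else 0 := by
        rw [h]; by_cases hm : ψ ∈ P <;> simp [hm, ← hP]
      have := congrArg (fun z => ε ψ * z) hh
      simp only [← mul_assoc, hεε, one_mul] at this
      rw [this]; split_ifs <;> simp
    have hA' : ∀ ψ, V x (a' ψ) = V x (a ψ) := by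
      intro ψ
      have h := hinner (R.aI' ψ) x (hn2 ψ) x0
      rw [if_neg (fun e => x2 (by rw [← e]; rfl)), R.ext'_aI', hsumA'] at h
      have hh : ε ψ * (V x (a' ψ) - V x (b ψ)) = if ψ ∈ P then 1 else 0 := by
        rw [h]; by_cases hm : ψ ∈ P <;> simp [hm, ← hP]
      have := congrArg (fun z => ε ψ * z) hh
      simp only [← mul_assoc, hεε, one_mul] at this
      have e2 := hA ψ
      by_cases hm : ψ ∈ P <;> simp [hm] at this e2 <;> omega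
    set w : (MulAction.stabilizer K M.t →* ℂˣ) → ℤ := fun ψ =>
      V x (a ψ) * V x (a ψ) + (V x (a' ψ) * V x (a' ψ) + V x (b ψ) * V x (b ψ)) with hw
    have hnorm : (∑ ψ, w ψ) + ∑ χ ∈ Uᶜ, V x χ * V x χ = 1 + P.card := by
      rw [← hsplitZ fun χ => V x χ * V x χ, hinner x x x0 x0, if_pos rfl, Finset.inter_self]
      push_cast; rfl
    have hwP : ∀ ψ ∈ P, V x (b ψ) = V x (a ψ) - ε ψ ∧ (w ψ = 1 ∧ V x (a ψ) = 0 ∨
        w ψ = 2 ∧ V x (a ψ) = ε ψ ∨ 3 ≤ w ψ) := by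
      intro ψ hψ
      have e := hA ψ
      rw [if_pos hψ] at e
      have hb : V x (b ψ) = V x (a ψ) - ε ψ := by omega
      refine ⟨hb, ?_⟩
      have hsq : ∀ z : ℤ, z ≠ 0 → 1 ≤ z * z := fun z hz => by
        have := mul_self_pos.2 hz; omega
      simp only [hw, hA', hb]
      by_cases hv : V x (a ψ) = 0
      · left; rw [hv]; exact ⟨by linear_combination hεε ψ, rfl⟩
      by_cases hv' : V x (a ψ) = ε ψ
      · right; left; rw [hv']; exact ⟨by linear_combination 2 * hεε ψ, rfl⟩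
      right; right
      have := hsq _ hv
      have := hsq _ (sub_ne_zero.2 hv')
      omega
    have hwN : ∀ ψ, ψ ∉ P → w ψ = 3 * (V x (b ψ) * V x (b ψ)) := by
      intro ψ hψ
      have e := hA ψ
      rw [if_neg hψ, sub_eq_zero] at e
      simp only [hw, hA', e]; ring
    have hge : ∀ ψ, (if ψ ∈ P then 1 else 0 : ℤ) ≤ w ψ := by
      intro ψ
      by_cases hψ : ψ ∈ P
      · rw [if_pos hψ]; rcases (hwP ψ hψ).2 with h | h | h <;> omega
      · rw [if_neg hψ, hwN ψ hψ]; have := mul_self_nonneg (V x (b ψ)); omega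
    have hPsum : ∑ ψ, (if ψ ∈ P then 1 else 0 : ℤ) = P.card := by
      simp [Finset.sum_ite_mem, ← hP]
    have hrest : 0 ≤ ∑ χ ∈ Uᶜ, V x χ * V x χ := Finset.sum_nonneg fun χ _ => mul_self_nonneg _
    have hexc : ∀ ψ, w ψ - (if ψ ∈ P then 1 else 0) ≤ 1 := by
      intro ψ
      have h := Finset.single_le_sum (f := fun ψ => w ψ - (if ψ ∈ P then 1 else 0 : ℤ))
        (fun i _ => sub_nonneg.2 (hge i)) (Finset.mem_univ ψ)
      rw [Finset.sum_sub_distrib, hPsum] at h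
      omega
    have hN0 : ∀ ψ, ψ ∉ P → V x (a ψ) = 0 ∧ V x (b ψ) = 0 ∧ w ψ = 0 := by
      intro ψ hψ
      have h := hexc ψ
      rw [if_neg hψ, hwN ψ hψ] at h
      have hb : V x (b ψ) = 0 := mul_self_eq_zero.1 (by have := mul_self_nonneg (V x (b ψ)); omega)
      have e := hA ψ
      rw [if_neg hψ, hb, sub_zero] at e
      exact ⟨e, hb, by rw [hwN ψ hψ, hb]; rfl⟩
    have hgood : ∀ ψ ∈ P, V x (a ψ) = 0 := by
      intro ψ₀ hψ₀
      by_contra hbad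
      have h := hexc ψ₀
      rw [if_pos hψ₀] at h
      rcases (hwP ψ₀ hψ₀).2 with ⟨-, e⟩ | ⟨ew, e⟩ | e
      · exact hbad e
      swap
      · omega
      -- everything else is minimal
      have hsum : ∑ ψ, (w ψ - (if ψ ∈ P then 1 else 0 : ℤ)) ≤ 1 := by
        rw [Finset.sum_sub_distrib, hPsum]; omega
      have hoth : ∀ ψ ∈ P, ψ ≠ ψ₀ → V x (a ψ) = 0 := by
        intro ψ hψ hne
        have hle := Finset.add_le_sum (f := fun ψ => w ψ - (if ψ ∈ P then 1 else 0 : ℤ))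
          (fun i _ => sub_nonneg.2 (hge i)) (Finset.mem_univ ψ) (Finset.mem_univ ψ₀) hne
        have := hge ψ
        rcases (hwP ψ hψ).2 with ⟨-, e'⟩ | ⟨ew', -⟩ | e'
        · exact e'
        all_goals (exfalso; simp only [if_pos hψ, if_pos hψ₀] at hle this; omega)
      have hzero : ∀ χ ∈ Uᶜ, V x χ = 0 := by
        intro χ hχ
        refine mul_self_eq_zero.1 ((Finset.sum_eq_zero_iff_of_nonneg fun i _ =>
          mul_self_nonneg (V x i)).1 ?_ χ hχ)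
        have h3 := Finset.single_le_sum (f := fun ψ => w ψ - (if ψ ∈ P then 1 else 0 : ℤ))
          (fun i _ => sub_nonneg.2 (hge i)) (Finset.mem_univ ψ₀)
        rw [Finset.sum_sub_distrib, hPsum, if_pos hψ₀] at h3
        omega
      have hval : ∀ g : ι → ℝ, ∑ χ, (V x χ : ℝ) * g χ =
          (ε ψ₀ : ℝ) * (g (a ψ₀) + g (a' ψ₀)) - ∑ ψ ∈ P.erase ψ₀, (ε ψ : ℝ) * g (b ψ) := by
        intro g
        rw [hsplit, Finset.sum_eq_zero (s := Uᶜ) fun χ hχ => by rw [hzero χ hχ, Int.cast_zero, zero_mul],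
          add_zero, ← Finset.sum_subset (Finset.subset_univ P) (fun ψ _ hψ => by
            simp [(hN0 ψ hψ).1, (hN0 ψ hψ).2.1, hA']),
          ← Finset.add_sum_erase P _ hψ₀, sub_eq_add_neg, ← Finset.sum_neg_distrib]
        congr 1
        · rw [hA', e, (hwP ψ₀ hψ₀).1, e, sub_self, Int.cast_zero]; ring
        · refine Finset.sum_congr rfl fun ψ hψ => ?_
          obtain ⟨hne, hψP⟩ := Finset.mem_erase.1 hψ
          rw [hA', hoth ψ hψP hne, (hwP ψ hψP).1, hoth ψ hψP hne]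
          push_cast; ring
      have hcard : ((P.erase ψ₀).card : ℝ) = (P.card : ℝ) - 1 := by
        rw [Finset.card_erase_of_mem hψ₀, Nat.cast_sub (Finset.card_pos.2 ⟨ψ₀, hψ₀⟩), Nat.cast_one]
      have eU : (R.uloc x : ℝ) - P.card * M.f =
          2 * (-1 - (c ψ₀ : ℝ)) - ∑ ψ ∈ P.erase ψ₀, ((M.f : ℝ) - c ψ) := by
        have h := hu x
        have h' : ∑ χ, (V x χ : ℝ) * (C.u χ : ℝ) = (R.uloc x : ℝ) - P.card * M.f := by exact_mod_cast h
        rw [hval] at h'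
        rw [← h', hua, hua']
        congr 1
        · push_cast; linear_combination 2 * (-1 - (c ψ₀ : ℝ)) * hεR ψ₀
        · refine Finset.sum_congr rfl fun ψ _ => ?_
          rw [hub]; push_cast; linear_combination ((M.f : ℝ) - c ψ) * hεR ψ
      have eD : 0 = 2 * ((M.f : ℝ) - 1 - 2 * c ψ₀) - ∑ ψ ∈ P.erase ψ₀, ((M.f : ℝ) - 1 - 2 * c ψ) := by
        have h := hdeg x
        rw [hval, hda, hda', mul_add, hdb,
          Finset.sum_congr rfl (fun ψ _ => hdb ψ), ← Finset.sum_mul] at h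
        have hκ0 : κ ≠ 0 := ne_of_gt (div_pos hqe C.T_pos)
        refine (mul_left_inj' hκ0).1 ?_
        linear_combination -h
      rw [Finset.sum_sub_distrib, Finset.sum_const, nsmul_eq_mul, hcard] at eU eD
      rw [← Finset.mul_sum] at eD
      have hs : (P.card : ℤ) = (R.sub x.1.1).index := by rw [hP, R.card_ext']
      have hpos : (0 : ℝ) < (P.card : ℝ) := Nat.cast_pos.2 (Finset.card_pos.2 ⟨ψ₀, hψ₀⟩)
      have hfpos : (1 : ℝ) ≤ (M.f : ℝ) := by exact_mod_cast M.f_pos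
      have key : 2 * (R.uloc x : ℝ) = ((P.card : ℝ) - 3) * ((M.f : ℝ) - 1) + 2 * M.f - 4 := by
        linear_combination 2 * eU - eD
      have hul : R.uloc x = (P.card : ℤ) * M.esum x.1.1 := by rw [hs]; rfl
      by_cases htriv : ∀ z : S, z * z = 1 → x.1.1 z = 1
      · rw [hul, Hyp.esum, if_pos htriv] at key
        push_cast at key
        nlinarith
      · rw [hul, Hyp.esum, if_neg htriv] at key
        push_cast at key
        have h1' : ((P.card : ℝ) - 1) * ((M.f : ℝ) + 1) = 0 := by linear_combination -key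
        have hs1 : P.card = 1 := by
          rcases mul_eq_zero.1 h1' with h' | h'
          · exact_mod_cast (sub_eq_zero.1 h' : (P.card : ℝ) = 1)
          · linarith
        rw [Finset.card_eq_zero.1 (by rw [Finset.card_erase_of_mem hψ₀, hs1] : (P.erase ψ₀).card = 0),
          Finset.sum_empty] at eD
        rw [hs1] at eD
        push_cast at eD
        have hd0 := hdb ψ₀
        rw [show (M.f : ℝ) - 1 - 2 * (c ψ₀ : ℝ) = 0 by linarith, zero_mul, mul_eq_zero] at hd0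
        rcases hd0 with h' | h'
        · rcases hε ψ₀ with e' | e' <;> rw [e'] at h' <;> norm_num at h'
        · exact (C.d_pos _).ne' h'
    have hvals : ∀ ψ, V x (a ψ) = 0 ∧ V x (a' ψ) = 0 ∧ V x (b ψ) = if ψ ∈ P then -ε ψ else 0 := by
      intro ψ
      by_cases hψ : ψ ∈ P
      · rw [hA', hgood ψ hψ, if_pos hψ, (hwP ψ hψ).1, hgood ψ hψ]; simp
      · rw [hA', (hN0 ψ hψ).1, if_neg hψ, (hN0 ψ hψ).2.1]; simp
    have hone' : ∑ χ ∈ Uᶜ, V x χ * V x χ = 1 := by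
      have hweq : ∀ ψ, w ψ = if ψ ∈ P then 1 else 0 := by
        intro ψ
        simp only [hw, (hvals ψ).1, (hvals ψ).2.1, (hvals ψ).2.2]
        split_ifs
        · linear_combination hεε ψ
        · ring
      rw [Finset.sum_congr rfl fun ψ _ => hweq ψ, hPsum] at hnorm
      omega
    obtain ⟨s, hs, hσ, hz⟩ := exists_single _ _ hone'
    refine ⟨s, V x s, hs, hσ, rfl, fun e => ?_, hvals, hz⟩
    rw [e, hone x x0] at hσ
    omega
  have hother' : ∀ x : R.Idx, ∃ s σ, x.1.1 ≠ R.l₀ → x.1.1 ≠ R.l₁ → x.1.1 ≠ R.l₂ →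
      s ∈ Uᶜ ∧ (σ = 1 ∨ σ = -1) ∧ V x s = σ ∧ s ≠ C.one ∧
        (∀ ψ, V x (a ψ) = 0 ∧ V x (a' ψ) = 0 ∧ V x (b ψ) = if ψ ∈ R.ext' x then -ε ψ else 0) ∧
        ∀ χ ∈ Uᶜ, χ ≠ s → V x χ = 0 := by
    intro x
    by_cases h : x.1.1 ≠ R.l₀ ∧ x.1.1 ≠ R.l₁ ∧ x.1.1 ≠ R.l₂
    · obtain ⟨s, σ, hh⟩ := hother x h.1 h.2.1 h.2.2
      exact ⟨s, σ, fun _ _ _ => hh⟩
    · exact ⟨C.one, 1, fun p q r => absurd ⟨p, q, r⟩ h⟩
  choose s σ hstar using hother'
  -- the assignment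
  have hpsi : ∀ x : R.Idx, ∃ ψ, ψ ∈ R.ext' x := fun x => Finset.card_pos.1 (by
    rw [R.card_ext']; exact Nat.pos_of_ne_zero Subgroup.index_ne_zero_of_finite)
  choose ψo hψo using hpsi
  let star : R.Idx → ι := fun x => if x.1.1 = R.l₀ then b (ψo x) else if x.1.1 = R.l₁ then a (ψo x)
    else if x.1.1 = R.l₂ then a' (ψo x) else s x
  let sgn : R.Idx → ℤ := fun x => if x.1.1 = R.l₀ ∨ x.1.1 = R.l₁ ∨ x.1.1 = R.l₂ then ε (ψo x) else σ x
  have hψb : ∀ ψ, ψo (R.bI ψ) = ψ := fun ψ => by simpa [R.ext'_bI] using hψo (R.bI ψ)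
  have hψa : ∀ ψ, ψo (R.aI ψ) = ψ := fun ψ => by simpa [R.ext'_aI] using hψo (R.aI ψ)
  have hψa' : ∀ ψ, ψo (R.aI' ψ) = ψ := fun ψ => by simpa [R.ext'_aI'] using hψo (R.aI' ψ)
  have sb : ∀ ψ, star (R.bI ψ) = b ψ ∧ sgn (R.bI ψ) = ε ψ := fun ψ => by
    simp [star, sgn, R.bI_r, hψb]
  have sa : ∀ ψ, star (R.aI ψ) = a ψ ∧ sgn (R.aI ψ) = ε ψ := fun ψ => by
    simp [star, sgn, R.aI_r, hψa, R.ne₀₁.symm]
  have sa' : ∀ ψ, star (R.aI' ψ) = a' ψ ∧ sgn (R.aI' ψ) = ε ψ := fun ψ => by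
    simp [star, sgn, R.aI'_r, hψa', R.ne₀₂.symm, R.ne₁₂.symm]
  have so : ∀ x : R.Idx, x.1.1 ≠ R.l₀ → x.1.1 ≠ R.l₁ → x.1.1 ≠ R.l₂ → star x = s x ∧ sgn x = σ x :=
    fun x h0 h1 h2 => by simp [star, sgn, h0, h1, h2]
  have hsumO : ∀ (x : R.Idx), x.1.1 ≠ R.l₀ → x.1.1 ≠ R.l₁ → x.1.1 ≠ R.l₂ → ∀ g : ι → ℝ,
      ∑ χ, (V x χ : ℝ) * g χ = (σ x : ℝ) * g (s x) - ∑ ψ ∈ R.ext' x, (ε ψ : ℝ) * g (b ψ) := by
    intro x h0 h1 h2 g
    obtain ⟨hsU, -, hVs, -, hv, hz⟩ := hstar x h0 h1 h2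
    rw [hsplit, Finset.sum_eq_single_of_mem (s x) hsU fun χ hχ hne => by
      rw [hz χ hχ hne, Int.cast_zero, zero_mul], hVs, ← Finset.sum_subset (Finset.subset_univ (R.ext' x))
      (fun ψ _ hψ => by simp [(hv ψ).1, (hv ψ).2.1, (hv ψ).2.2, hψ]), add_comm, sub_eq_add_neg,
      ← Finset.sum_neg_distrib]
    congr 1
    exact Finset.sum_congr rfl fun ψ hψ => by simp [(hv ψ).1, (hv ψ).2.1, (hv ψ).2.2, hψ]
  have hUmem : ∀ ψ, a ψ ∈ U ∧ a' ψ ∈ U ∧ b ψ ∈ U := fun ψ => by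
    simp only [hU, Finset.mem_biUnion, Finset.mem_univ, true_and]
    exact ⟨⟨ψ, by simp⟩, ⟨ψ, by simp⟩, ⟨ψ, by simp⟩⟩
  refine ⟨
    { star := star
      inj := ?_
      ne_one := ?_
      sgn := sgn
      sgn_eq := ?_
      c := c
      u_star := ?_
      d_star := ?_
      inner_b := ?_
      zero := ?_ }⟩
  · intro x y hxy
    have hnU : ∀ z : R.Idx, z.1.1 ≠ R.l₀ → z.1.1 ≠ R.l₁ → z.1.1 ≠ R.l₂ →
        ∀ p ∈ U, star z ≠ p := fun z z0 z1 z2 p hp e => by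
      rw [(so z z0 z1 z2).1] at e
      exact Finset.mem_compl.1 (hstar z z0 z1 z2).1 (e ▸ hp)
    rcases R.idx_cases x with ⟨ψ, rfl⟩ | ⟨ψ, rfl⟩ | ⟨ψ, rfl⟩ | ⟨x0, x1, x2⟩ <;>
      rcases R.idx_cases y with ⟨ψ', rfl⟩ | ⟨ψ', rfl⟩ | ⟨ψ', rfl⟩ | ⟨y0, y1, y2⟩
    all_goals try simp only [(sb _).1, (sa _).1, (sa' _).1] at hxy
    · by_cases hne : ψ = ψ'
      · rw [hne]
      · exact absurd hxy (hdis ψ ψ' hne _ (by simp) _ (by simp))
    · by_cases hne : ψ = ψ'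
      · subst hne; exact absurd hxy (hab _).symm
      · exact absurd hxy (hdis ψ ψ' hne _ (by simp) _ (by simp))
    · by_cases hne : ψ = ψ'
      · subst hne; exact absurd hxy (hab' _).symm
      · exact absurd hxy (hdis ψ ψ' hne _ (by simp) _ (by simp))
    · exact absurd hxy.symm (hnU _ y0 y1 y2 _ (hUmem ψ).2.2)
    · by_cases hne : ψ = ψ'
      · subst hne; exact absurd hxy (hab _)
      · exact absurd hxy (hdis ψ ψ' hne _ (by simp) _ (by simp))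
    · by_cases hne : ψ = ψ'
      · rw [hne]
      · exact absurd hxy (hdis ψ ψ' hne _ (by simp) _ (by simp))
    · by_cases hne : ψ = ψ'
      · subst hne; exact absurd hxy (haa' _)
      · exact absurd hxy (hdis ψ ψ' hne _ (by simp) _ (by simp))
    · exact absurd hxy.symm (hnU _ y0 y1 y2 _ (hUmem ψ).1)
    · by_cases hne : ψ = ψ'
      · subst hne; exact absurd hxy (hab' _)
      · exact absurd hxy (hdis ψ ψ' hne _ (by simp) _ (by simp))
    · by_cases hne : ψ = ψ'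
      · subst hne; exact absurd hxy (haa' _).symm
      · exact absurd hxy (hdis ψ ψ' hne _ (by simp) _ (by simp))
    · by_cases hne : ψ = ψ'
      · rw [hne]
      · exact absurd hxy (hdis ψ ψ' hne _ (by simp) _ (by simp))
    · exact absurd hxy.symm (hnU _ y0 y1 y2 _ (hUmem ψ).2.1)
    · exact absurd hxy (hnU _ x0 x1 x2 _ (hUmem ψ').2.2)
    · exact absurd hxy (hnU _ x0 x1 x2 _ (hUmem ψ').1)
    · exact absurd hxy (hnU _ x0 x1 x2 _ (hUmem ψ').2.1)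
    -- two others
    rw [(so x x0 x1 x2).1, (so y y0 y1 y2).1] at hxy
    by_contra hne
    have h := hsumO x x0 x1 x2 fun χ => (V y χ : ℝ)
    have h' : ∑ χ, (V x χ : ℝ) * (V y χ : ℝ) = ((R.ext' x ∩ R.ext' y).card : ℝ) := by
      have h3 := hinner x y x0 y0
      rw [if_neg hne, zero_add] at h3
      exact_mod_cast h3
    rw [h', hxy, (hstar y y0 y1 y2).2.2.1,
      Finset.sum_congr rfl (g := fun ψ => if ψ ∈ R.ext' y then (-1 : ℝ) else 0) (fun ψ _ => by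
        rw [((hstar y y0 y1 y2).2.2.2.2.1 ψ).2.2]
        split_ifs
        · push_cast; linear_combination -hεR ψ
        · simp),
      Finset.sum_ite_mem, Finset.sum_const, nsmul_eq_mul] at h
    rcases (hstar x x0 x1 x2).2.1 with e | e <;> rcases (hstar y y0 y1 y2).2.1 with e' | e' <;>
      rw [e, e'] at h <;> push_cast at h <;> linarith
  · intro x
    rcases R.idx_cases x with ⟨ψ, rfl⟩ | ⟨ψ, rfl⟩ | ⟨ψ, rfl⟩ | ⟨x0, x1, x2⟩
    · rw [(sb ψ).1]; intro e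
      have := hone _ (hn1 ψ)
      rw [hVa ψ, ← e] at this
      rcases hε ψ with h | h <;> simp [h, (hab ψ).symm] at this
    · rw [(sa ψ).1]; intro e
      have := hone _ (hn1 ψ)
      rw [hVa ψ, ← e] at this
      rcases hε ψ with h | h <;> simp [h, hab ψ] at this
    · rw [(sa' ψ).1]; intro e
      have := hone _ (hn2 ψ)
      rw [hVa' ψ, ← e] at this
      rcases hε ψ with h | h <;> simp [h, hab' ψ] at this
    · rw [(so x x0 x1 x2).1]; exact (hstar x x0 x1 x2).2.2.2.1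
  · intro x
    rcases R.idx_cases x with ⟨ψ, rfl⟩ | ⟨ψ, rfl⟩ | ⟨ψ, rfl⟩ | ⟨x0, x1, x2⟩
    · rw [(sb ψ).2]; exact hε ψ
    · rw [(sa ψ).2]; exact hε ψ
    · rw [(sa' ψ).2]; exact hε ψ
    · rw [(so x x0 x1 x2).2]; exact (hstar x x0 x1 x2).2.1
  · intro x
    rcases R.idx_cases x with ⟨ψ, rfl⟩ | ⟨ψ, rfl⟩ | ⟨ψ, rfl⟩ | ⟨x0, x1, x2⟩
    · rw [(sb ψ).1, (sb ψ).2, Reps.cX, R.ext'_bI, Finset.sum_singleton, R.uloc_three _ R.stab₀,
        R.bI_r, h0, hub]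
    · rw [(sa ψ).1, (sa ψ).2, Reps.cX, R.ext'_aI, Finset.sum_singleton, R.uloc_three _ R.stab₁,
        R.aI_r, h1, hua]
    · rw [(sa' ψ).1, (sa' ψ).2, Reps.cX, R.ext'_aI', Finset.sum_singleton, R.uloc_three _ R.stab₂,
        R.aI'_r, h2, hua']
    · rw [(so x x0 x1 x2).1, (so x x0 x1 x2).2]
      have h := hsumO x x0 x1 x2 fun χ => (C.u χ : ℝ)
      have h' : ∑ χ, (V x χ : ℝ) * (C.u χ : ℝ) = (R.uloc x : ℝ) - (R.ext' x).card * M.f := by
        exact_mod_cast hu x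
      rw [h', Finset.sum_congr rfl (g := fun ψ => ((M.f : ℝ) - c ψ)) (fun ψ _ => by
        rw [hub]; push_cast; linear_combination ((M.f : ℝ) - c ψ) * hεR ψ),
        Finset.sum_sub_distrib, Finset.sum_const, nsmul_eq_mul] at h
      have hσ : (σ x : ℝ) * σ x = 1 := by
        rcases (hstar x x0 x1 x2).2.1 with e | e <;> rw [e] <;> norm_num
      apply Int.cast_injective (α := ℝ)
      rw [Reps.cX]
      push_cast
      linear_combination -(σ x : ℝ) * h - (C.u (s x) : ℝ) * hσ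
  · intro x
    have hfin : ∀ z w : ℝ, z = w * κ → z * C.T = w * ((Nat.card S : ℝ) * M.e) := fun z w h => by
      rw [h, hκ, mul_assoc, div_mul_cancel₀ _ C.T_pos.ne']
    apply hfin
    rcases R.idx_cases x with ⟨ψ, rfl⟩ | ⟨ψ, rfl⟩ | ⟨ψ, rfl⟩ | ⟨x0, x1, x2⟩
    · rw [(sb ψ).1, (sb ψ).2, Reps.cX, R.ext'_bI, Finset.sum_singleton, Finset.card_singleton, hdb]
      push_cast; ring
    · rw [(sa ψ).1, (sa ψ).2, Reps.cX, R.ext'_aI, Finset.sum_singleton, Finset.card_singleton, hda, hdb]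
      push_cast; ring
    · rw [(sa' ψ).1, (sa' ψ).2, Reps.cX, R.ext'_aI', Finset.sum_singleton, Finset.card_singleton, hda', hdb]
      push_cast; ring
    · rw [(so x x0 x1 x2).1, (so x x0 x1 x2).2]
      have h := hsumO x x0 x1 x2 C.d
      rw [hdeg, Finset.sum_congr rfl (fun ψ _ => hdb ψ), ← Finset.sum_mul, Finset.sum_sub_distrib,
        Finset.sum_const, nsmul_eq_mul, ← Finset.mul_sum] at h
      rw [Reps.cX]
      push_cast
      linear_combination -h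
  · intro ψ hs
    rw [(sb ψ).1]
    rw [(sb ψ).2] at hs
    have h := C.coef_spec (R.vanish (R.aI ψ)) (b ψ)
    rw [show C.coef (R.vanish (R.aI ψ)) (b ψ) = V (R.aI ψ) (b ψ) from rfl, hVa ψ, hs, Reps.phi,
      R.ext'_aI, Finset.sum_singleton, classInner_sub_left] at h
    obtain ⟨n, hn⟩ := IsCharacter.exists_classInner_nat (isCharacter_indX _ _) (C.char (b ψ))
      (χ := R.X (R.aI ψ))
    rw [hn] at h
    intro h0'
    rw [← classInner_conj_symm (R.X (R.bI ψ)), map_eq_zero] at h0'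
    rw [h0'] at h
    simp [(hab ψ).symm] at h
    have : (0 : ℝ) ≤ n := Nat.cast_nonneg n
    have h2 := congrArg Complex.re h
    simp at h2
    linarith
  · intro x x0 χ hχ
    rw [C.coef_spec (R.vanish x)]
    have hz : V x χ = 0 := by
      rcases R.idx_cases x with ⟨ψ, rfl⟩ | ⟨ψ, rfl⟩ | ⟨ψ, rfl⟩ | ⟨_, x1, x2⟩
      · exact absurd rfl x0
      · rw [hVa]
        have e1 := hχ (R.aI ψ); have e2 := hχ (R.bI ψ)
        rw [(sa ψ).1] at e1; rw [(sb ψ).1] at e2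
        simp [Ne.symm e1, Ne.symm e2]
      · rw [hVa']
        have e1 := hχ (R.aI' ψ); have e2 := hχ (R.bI ψ)
        rw [(sa' ψ).1] at e1; rw [(sb ψ).1] at e2
        simp [Ne.symm e1, Ne.symm e2]
      · obtain ⟨-, -, -, -, hv, hz⟩ := hstar x x0 x1 x2
        by_cases hm : χ ∈ U
        · simp only [hU, Finset.mem_biUnion, Finset.mem_univ, true_and, Finset.mem_insert,
            Finset.mem_singleton] at hm
          obtain ⟨ψ, e | e | e⟩ := hm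
          · exact absurd e.symm (by rw [← (sa ψ).1]; exact hχ _)
          · exact absurd e.symm (by rw [← (sa' ψ).1]; exact hχ _)
          · exact absurd e.symm (by rw [← (sb ψ).1]; exact hχ _)
        · refine hz χ (Finset.mem_compl.2 hm) fun e => hχ x ?_
          rw [(so x x0 x1 x2).1, e]
    rw [show C.coef (R.vanish x) χ = V x χ from rfl, hz, Int.cast_zero]

end Cfsg.Agent.AbelInv
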