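import Cfsg.Agent.Lib.AbelInv.Hyp
import Mathlib.Tactic.Linarith
import Mathlib.Tactic.LinearCombination

/-!
The columns of a group on the 2-singular elements of a semidirect product.
-/

set_option autoImplicit false
set_option linter.unusedSectionVars false
set_option linter.style.haveILetI false

namespace Cfsg.Agent.AbelInv

open Cfsg Cfsg.Agent.Char
open scoped ComplexConjugate

universe u v

/-- A character takes integral values at involutions. -/
theorem exists_int_of_sq {X : Type u} [Group X] [Finite X] {χ : X → ℂ}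
    (h : Cfsg.IsCharacter X χ) {x : X} (hx : x * x = 1) : ∃ z : ℤ, χ x = z := by
  obtain ⟨n, ρ, rfl⟩ := h
  obtain ⟨L, -, hL, hk, -⟩ := exists_eigenvalues ρ x
  have h1 : ρ.character x = (L.map fun z => z).sum := by simpa using hk 1
  have hL2 : ∀ z ∈ L, z = 1 ∨ z = -1 := fun z hz => by
    obtain ⟨k, hk⟩ := orderOf_dvd_of_pow_eq_one (show x ^ 2 = 1 by rw [pow_two, hx])
    have : z ^ 2 = 1 := by rw [hk, pow_mul, hL z hz, one_pow]
    exact sq_eq_one_iff.1 this
  rw [h1]
  clear h1 hk hL
  induction L using Multiset.induction with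
  | empty => exact ⟨0, by simp⟩
  | cons z L ih =>
    obtain ⟨d, hd⟩ := ih fun y hy => hL2 y (Multiset.mem_cons_of_mem hy)
    simp only [Multiset.map_cons, Multiset.sum_cons, hd]
    rcases hL2 z (Multiset.mem_cons_self z L) with rfl | rfl
    · exact ⟨1 + d, by push_cast; ring⟩
    · exact ⟨-1 + d, by push_cast; ring⟩

/-- An integral vector of norm two orthogonal to a positive vector. -/
theorem exists_pair {ι : Type v} [Fintype ι] [DecidableEq ι] (v : ι → ℤ) (d : ι → ℝ)
    (hd : ∀ χ, 0 < d χ) (h2 : ∑ χ, v χ * v χ = 2) (h0 : ∑ χ, (v χ : ℝ) * d χ = 0) :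
    ∃ a b, a ≠ b ∧ d a = d b ∧
      v = fun χ => (if χ = a then 1 else 0) - (if χ = b then (1 : ℤ) else 0) := by
  set P := Finset.univ.filter fun χ => v χ ≠ 0 with hP
  have hsq : ∀ χ ∈ P, 1 ≤ v χ * v χ := fun χ hχ => by
    have : 0 < v χ * v χ := mul_self_pos.2 (Finset.mem_filter.1 hχ).2
    omega
  have hsum : ∑ χ ∈ P, v χ * v χ = 2 := by
    rw [← h2]
    refine Finset.sum_subset (Finset.subset_univ _) fun χ _ hχ => ?_
    have : v χ = 0 := by simpa [hP] using hχ
    rw [this, mul_zero]
  have hle : P.card ≤ 2 := by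
    have h := Finset.card_nsmul_le_sum P (fun χ => v χ * v χ) 1 hsq
    rw [hsum, nsmul_eq_mul, mul_one] at h
    exact_mod_cast h
  have h0' : ∑ χ ∈ P, (v χ : ℝ) * d χ = 0 := by
    rw [← h0]
    refine Finset.sum_subset (Finset.subset_univ _) fun χ _ hχ => ?_
    have : v χ = 0 := by simpa [hP] using hχ
    rw [this, Int.cast_zero, zero_mul]
  interval_cases hc : P.card
  · rw [Finset.card_eq_zero.1 hc] at hsum; simp at hsum
  · obtain ⟨a, ha⟩ := Finset.card_eq_one.1 hc
    rw [ha, Finset.sum_singleton] at hsum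
    have h3 : v a ≤ 2 := by nlinarith
    have h4 : -2 ≤ v a := by nlinarith
    interval_cases v a <;> omega
  · obtain ⟨a, b, hab, he⟩ := Finset.card_eq_two.1 hc
    rw [he, Finset.sum_pair hab] at hsum h0'
    have ha := hsq a (by rw [he]; simp)
    have hb := hsq b (by rw [he]; simp)
    have hva : v a = 1 ∨ v a = -1 := by
      have : v a * v a = 1 := by omega
      exact mul_self_eq_one_iff.1 this
    have hvb : v b = 1 ∨ v b = -1 := by
      have : v b * v b = 1 := by omega
      exact mul_self_eq_one_iff.1 this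
    have hout : ∀ χ, χ ≠ a → χ ≠ b → v χ = 0 := fun χ h1 h2 => by
      by_contra h
      have : χ ∈ P := Finset.mem_filter.2 ⟨Finset.mem_univ _, h⟩
      rw [he] at this
      simp [h1, h2] at this
    have fin : ∀ a b, a ≠ b → v a = 1 → v b = -1 → (∀ χ, χ ≠ a → χ ≠ b → v χ = 0) →
        v = fun χ => (if χ = a then 1 else 0) - (if χ = b then (1 : ℤ) else 0) := by
      intro a b hab ha hb hout
      funext χ
      by_cases h1 : χ = a
      · subst h1; simp [hab, ha]
      by_cases h2 : χ = b
      · subst h2; simp [h1, hb]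
      simp [h1, h2, hout χ h1 h2]
    have := hd a
    have := hd b
    rcases hva with ha' | ha' <;> rcases hvb with hb' | hb' <;>
      rw [ha', hb'] at h0' <;> push_cast at h0'
    · exfalso; linarith
    · exact ⟨a, b, hab, by linarith, fin a b hab ha' hb' hout⟩
    · exact ⟨b, a, hab.symm, by linarith, fin b a hab.symm hb' ha' fun χ h1 h2 => hout χ h2 h1⟩
    · exfalso; linarith

variable {S K : Type u} [CommGroup S] [Group K] [MulDistribMulAction K S] [Fintype S] [Fintype K]

open scoped Classical in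
/-- The facts supplied by the group. -/
structure Cols (M : Hyp S K) (ι : Type v) [Fintype ι] where
  /-- the averaged restrictions -/
  f : ι → SK S K → ℂ
  char : ∀ χ, Cfsg.IsCharacter (SK S K) (f χ)
  /-- the degrees -/
  d : ι → ℝ
  d_pos : ∀ χ, 0 < d χ
  /-- the principal character -/
  one : ι
  f_one : ∀ a, f one a = 1
  d_one : d one = 1
  gram : ∀ a b : SK S K, Even (orderOf a) → Even (orderOf b) →
    ∑ χ, f χ a * conj (f χ b) = ((Finset.univ.filter fun q => q * b * q⁻¹ = a).card : ℂ)
  deg : ∀ a : SK S K, Even (orderOf a) → ∑ χ, (d χ : ℂ) * f χ a = 0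
  /-- the class product -/
  T : ℝ
  T_pos : 0 < T
  rel : ∀ a : SK S K, Even (orderOf a) →
    ∑ χ, f χ (SemidirectProduct.inl M.t) ^ 2 / (d χ : ℂ) * f χ a =
      if IsConj (SemidirectProduct.inl M.t) a then (T : ℂ) else 0
  /-- the index -/
  n : ℕ
  n_ge : Nat.card S + 1 ≤ n
  T_le : T * n * M.f ≤ ((M.f : ℝ) - 1) * Nat.card S * M.e
  d_ge : ∀ χ, (f χ 1).re ≤ d χ
  d_le : ∀ χ (φ : SK S K → ℂ), Cfsg.IsCharacter (SK S K) φ →
    Cfsg.classInner (f χ) φ ≠ 0 → d χ ≤ n * (φ 1).re

namespace Cols

variable {M : Hyp S K} {ι : Type v} [Fintype ι] (C : Cols M ι)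

/-- The value at the involution. -/
noncomputable def u (χ : ι) : ℤ :=
  Classical.choose (exists_int_of_sq (C.char χ)
    (show (SemidirectProduct.inl M.t : SK S K) * SemidirectProduct.inl M.t = 1 by
      rw [← map_mul, M.t_sq, map_one]))

theorem u_spec (χ : ι) : C.f χ (SemidirectProduct.inl M.t) = (C.u χ : ℂ) :=
  Classical.choose_spec (exists_int_of_sq (C.char χ)
    (show (SemidirectProduct.inl M.t : SK S K) * SemidirectProduct.inl M.t = 1 by
      rw [← map_mul, M.t_sq, map_one]))

theorem even_t : Even (orderOf (SemidirectProduct.inl M.t : SK S K)) := by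
  rw [orderOf_injective _ SemidirectProduct.inl_injective,
    orderOf_eq_prime (by rw [pow_two, M.t_sq]) M.t_ne]
  exact even_two

theorem u_one : C.u C.one = 1 := by
  have h := C.u_spec C.one
  rw [C.f_one] at h
  exact_mod_cast h.symm

theorem isConj_t_iff (a : SK S K) :
    IsConj (SemidirectProduct.inl M.t) a ↔ a.right = 1 ∧ a.left ∈ Hyp.invols (S := S) := by
  refine ⟨fun h => ?_, fun ⟨hr, hl⟩ => ?_⟩
  · obtain ⟨g, rfl⟩ := isConj_iff.1 h
    simp only [SemidirectProduct.mul_right, SemidirectProduct.right_inl, mul_one,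
      SemidirectProduct.inv_right, mul_inv_cancel, true_and]
    have : (g * SemidirectProduct.inl M.t * g⁻¹).left = g.right • M.t := by
      rw [← SemidirectProduct.inl_left_mul_inr_right g, mul_inv_rev,
        show ∀ x y z : SK S K, x * y * z * (y⁻¹ * x⁻¹) = x * (y * z * y⁻¹) * x⁻¹ from
          fun x y z => by group,
        show (SemidirectProduct.inr g.right : SK S K) * SemidirectProduct.inl M.t *
          (SemidirectProduct.inr g.right)⁻¹ = SemidirectProduct.inl (g.right • M.t) from by
            rw [← map_inv]; exact (SemidirectProduct.inl_aut g.right M.t).symm,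
        ← map_mul, ← map_inv, ← map_mul, SemidirectProduct.left_inl, mul_comm g.left,
        mul_inv_cancel_right]
      simp
    simp only [SemidirectProduct.mul_left] at this ⊢
    rw [this]
    exact M.smul_t_mem _
  · obtain ⟨k, hk⟩ := M.trans a.left (Hyp.mem_invols.1 hl).1 (Hyp.mem_invols.1 hl).2
    refine isConj_iff.2 ⟨SemidirectProduct.inr k, ?_⟩
    rw [← map_inv, ← SemidirectProduct.inl_left_mul_inr_right a, hr, map_one, mul_one, ← hk]
    exact (SemidirectProduct.inl_aut k M.t).symm

/-- A virtual character vanishing off the 2-singular elements. -/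
structure Vanish (φ : SK S K → ℂ) : Prop where
  gen : Cfsg.IsGeneralizedCharacter (SK S K) φ
  inr : ∀ k : K, φ (SemidirectProduct.inr k) = 0

include M in
theorem Vanish.odd {φ : SK S K → ℂ} (hφ : Vanish φ) {a : SK S K} (ha : ¬ Even (orderOf a)) :
    φ a = 0 := by
  obtain ⟨s, hs⟩ := M.exists_conj_inr a (Nat.not_even_iff_odd.1 ha)
  have := IsGeneralizedCharacter.isClassFunction hφ.gen a (SemidirectProduct.inl s)⁻¹
  rw [inv_inv, hs, hφ.inr] at this
  exact this.symm

/-- The multiplicity in the induced virtual character. -/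
noncomputable def coef {φ : SK S K → ℂ} (hφ : Vanish φ) (χ : ι) : ℤ :=
  Classical.choose (IsGeneralizedCharacter.exists_classInner_int hφ.gen
    (IsGeneralizedCharacter.of_isCharacter (C.char χ)))

theorem coef_spec {φ : SK S K → ℂ} (hφ : Vanish φ) (χ : ι) :
    Cfsg.classInner φ (C.f χ) = (C.coef hφ χ : ℂ) :=
  Classical.choose_spec (IsGeneralizedCharacter.exists_classInner_int hφ.gen
    (IsGeneralizedCharacter.of_isCharacter (C.char χ)))

theorem coef_sum {φ : SK S K → ℂ} (hφ : Vanish φ) (w : ι → ℂ) :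
    ∑ χ, (C.coef hφ χ : ℂ) * w χ =
      (Nat.card (SK S K) : ℂ)⁻¹ * ∑ a, φ a * ∑ χ, conj (C.f χ a) * w χ := by
  simp only [← C.coef_spec hφ, classInner, Finset.mul_sum, Finset.sum_mul]
  rw [Finset.sum_comm]
  exact Finset.sum_congr rfl fun a _ => Finset.sum_congr rfl fun χ _ => by ring

theorem expand {φ : SK S K → ℂ} (hφ : Vanish φ) {b : SK S K} (hb : Even (orderOf b)) :
    ∑ χ, (C.coef hφ χ : ℂ) * C.f χ b = φ b := by
  classical
  have key : ∀ a, φ a * ∑ χ, conj (C.f χ a) * C.f χ b =
      φ a * ((Finset.univ.filter fun q : SK S K => q⁻¹ * b * q = a).card : ℂ) := by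
    intro a
    by_cases ha : Even (orderOf a)
    · rw [← show ∑ χ, C.f χ b * conj (C.f χ a) = ∑ χ, conj (C.f χ a) * C.f χ b from
        Finset.sum_congr rfl fun χ _ => mul_comm _ _, C.gram b a hb ha]
      refine congrArg (φ a * ·) (Nat.cast_inj.2 (congrArg Finset.card (Finset.filter_congr fun q _ => ?_)))
      constructor
      · rintro rfl; group
      · rintro rfl; group
    · rw [hφ.odd (M := M) ha, zero_mul, zero_mul]
  have h2 : ∑ a, φ a * ((Finset.univ.filter fun q : SK S K => q⁻¹ * b * q = a).card : ℂ) =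
      ∑ q : SK S K, φ b := by
    refine Eq.trans ?_ (Finset.sum_fiberwise Finset.univ (fun q : SK S K => q⁻¹ * b * q)
      fun _ => φ b)
    refine Finset.sum_congr rfl fun a _ => ?_
    have hval : ∀ q ∈ Finset.univ.filter (fun q : SK S K => q⁻¹ * b * q = a), φ b = φ a := by
      intro q hq
      rw [← (Finset.mem_filter.1 hq).2]
      have := IsGeneralizedCharacter.isClassFunction hφ.gen b q⁻¹
      rw [inv_inv] at this
      exact this.symm
    rw [Finset.sum_congr rfl hval, Finset.sum_const, nsmul_eq_mul, mul_comm]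
  rw [C.coef_sum hφ, Finset.sum_congr rfl fun a _ => key a, h2, Finset.sum_const, Finset.card_univ,
    ← Nat.card_eq_fintype_card, nsmul_eq_mul,
    inv_mul_cancel_left₀ (Nat.cast_ne_zero.2 Nat.card_pos.ne')]

theorem sum_u {φ : SK S K → ℂ} (hφ : Vanish φ) :
    ∑ χ, (C.coef hφ χ : ℂ) * (C.u χ : ℂ) = φ (SemidirectProduct.inl M.t) := by
  rw [← C.expand hφ (even_t (M := M))]
  exact Finset.sum_congr rfl fun χ _ => by rw [C.u_spec]

theorem orth {φ ψ : SK S K → ℂ} (hφ : Vanish φ) (hψ : Vanish ψ) :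
    ((∑ χ, C.coef hφ χ * C.coef hψ χ : ℤ) : ℂ) = Cfsg.classInner φ ψ := by
  have e : ∀ χ, (C.coef hψ χ : ℂ) = Cfsg.classInner (C.f χ) ψ := fun χ => by
    rw [← classInner_conj_symm ψ (C.f χ), C.coef_spec, map_intCast]
  push_cast
  simp only [e, classInner, Finset.mul_sum]
  rw [Finset.sum_comm]
  refine Finset.sum_congr rfl fun b _ => ?_
  by_cases hb : Even (orderOf b)
  · rw [← C.expand hφ hb, Finset.sum_mul, Finset.mul_sum]
    exact Finset.sum_congr rfl fun χ _ => by ring
  · simp [hψ.odd (M := M) hb]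

theorem sum_deg {φ : SK S K → ℂ} (hφ : Vanish φ) :
    ∑ χ, (C.coef hφ χ : ℝ) * C.d χ = 0 := by
  apply Complex.ofReal_injective
  rw [Complex.ofReal_zero, Complex.ofReal_sum]
  simp only [Complex.ofReal_mul, Complex.ofReal_intCast]
  rw [C.coef_sum hφ]
  refine mul_eq_zero_of_right _ (Finset.sum_eq_zero fun a _ => ?_)
  by_cases ha : Even (orderOf a)
  · refine mul_eq_zero_of_right _ ?_
    have := congrArg conj (C.deg a ha)
    rw [map_sum, map_zero] at this
    rw [← this]
    exact Finset.sum_congr rfl fun χ _ => by rw [map_mul, Complex.conj_ofReal, mul_comm]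
  · rw [hφ.odd (M := M) ha, zero_mul]

theorem sum_rel {φ : SK S K → ℂ} (hφ : Vanish φ) {z : ℤ}
    (hz : φ (SemidirectProduct.inl M.t) = z) :
    ∑ χ, (C.coef hφ χ : ℝ) * ((C.u χ : ℝ) ^ 2 / C.d χ) =
      z * C.T / ((Nat.card S : ℝ) * M.e) := by
  classical
  apply Complex.ofReal_injective
  rw [Complex.ofReal_sum]
  simp only [Complex.ofReal_mul, Complex.ofReal_intCast, Complex.ofReal_div, Complex.ofReal_pow,
    Complex.ofReal_natCast]
  rw [C.coef_sum hφ]
  have key : ∀ a, φ a * ∑ χ, conj (C.f χ a) * ((C.u χ : ℂ) ^ 2 / (C.d χ : ℂ)) =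
      if IsConj (SemidirectProduct.inl M.t) a then (z : ℂ) * C.T else 0 := by
    intro a
    by_cases ha : Even (orderOf a)
    · have := congrArg conj (C.rel a ha)
      rw [map_sum] at this
      rw [show ∑ χ, conj (C.f χ a) * ((C.u χ : ℂ) ^ 2 / (C.d χ : ℂ)) =
        conj (if IsConj (SemidirectProduct.inl M.t) a then (C.T : ℂ) else 0) from ?_]
      · split_ifs with hc
        · obtain ⟨g, rfl⟩ := isConj_iff.1 hc
          rw [Complex.conj_ofReal, IsGeneralizedCharacter.isClassFunction hφ.gen, hz]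
        · rw [map_zero, mul_zero]
      rw [← this]
      refine Finset.sum_congr rfl fun χ _ => ?_
      rw [C.u_spec, map_mul, map_div₀, map_pow, map_intCast, Complex.conj_ofReal, mul_comm]
    · rw [hφ.odd (M := M) ha, zero_mul, if_neg]
      intro hc
      obtain ⟨g, rfl⟩ := isConj_iff.1 hc
      rw [← MulAut.conj_apply, MulEquiv.orderOf_eq] at ha
      exact ha (even_t (M := M))
  rw [Finset.sum_congr rfl fun a _ => key a, ← Finset.sum_filter, Finset.sum_const, nsmul_eq_mul]
  have hcard : (Finset.univ.filter fun a => IsConj (SemidirectProduct.inl M.t : SK S K) a).card =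
      M.f := by
    rw [Hyp.f]
    refine Finset.card_bij (fun a _ => a.left) (fun a ha => ((isConj_t_iff a).1
      (Finset.mem_filter.1 ha).2).2) (fun a ha b hb h => ?_) fun z hz =>
        ⟨SemidirectProduct.inl z, Finset.mem_filter.2 ⟨Finset.mem_univ _,
          (isConj_t_iff _).2 ⟨rfl, by simpa using hz⟩⟩, by simp⟩
    ext
    · exact h
    · rw [((isConj_t_iff a).1 (Finset.mem_filter.1 ha).2).1,
        ((isConj_t_iff b).1 (Finset.mem_filter.1 hb).2).1]
  rw [hcard, M.card_SK]
  have h1 : (Nat.card S : ℂ) ≠ 0 := Nat.cast_ne_zero.2 Nat.card_pos.ne'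
  have h2 : (M.e : ℂ) ≠ 0 := Nat.cast_ne_zero.2 M.e_pos.ne'
  have h3 : (M.f : ℂ) ≠ 0 := Nat.cast_ne_zero.2 M.f_pos.ne'
  push_cast
  field_simp

theorem coef_one {φ : SK S K → ℂ} (hφ : Vanish φ) (h : Cfsg.classInner φ (fun _ => 1) = 0) :
    C.coef hφ C.one = 0 := by
  have := C.coef_spec hφ C.one
  rw [show C.f C.one = fun _ => 1 from funext C.f_one, h] at this
  exact_mod_cast this.symm

theorem sum_u_sq : ∑ χ, (C.u χ : ℝ) ^ 2 = (Nat.card S : ℝ) * M.e := by
  classical
  apply Complex.ofReal_injective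
  rw [Complex.ofReal_sum]
  simp only [Complex.ofReal_pow, Complex.ofReal_intCast, Complex.ofReal_mul, Complex.ofReal_natCast]
  have h := C.gram _ _ (even_t (M := M)) (even_t (M := M))
  simp only [C.u_spec, map_intCast, ← pow_two] at h
  rw [h, ← Nat.cast_mul]
  congr 1
  rw [Hyp.e, ← Nat.card_prod, ← Fintype.card_subtype, ← Nat.card_eq_fintype_card]
  refine Nat.card_congr
    { toFun := fun q => (q.1.left, ⟨q.1.right, ?_⟩)
      invFun := fun p => ⟨⟨p.1, p.2⟩, ?_⟩
      left_inv := fun q => rfl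
      right_inv := fun p => rfl }
  · have := congrArg SemidirectProduct.left (mul_inv_eq_iff_eq_mul.1 q.2)
    simp only [SemidirectProduct.mul_left, SemidirectProduct.left_inl, SemidirectProduct.right_inl,
      map_one, MulAut.one_apply, mul_comm M.t] at this
    exact mul_left_cancel this
  · refine mul_inv_eq_iff_eq_mul.2 ?_
    ext
    · simp only [SemidirectProduct.mul_left, SemidirectProduct.left_inl, SemidirectProduct.right_inl,
        map_one, MulAut.one_apply, MulDistribMulAction.toMulAut_apply]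
      show p.1 * ((p.2 : K) • M.t) = M.t * p.1
      rw [(p.2.2 : (p.2 : K) • M.t = M.t), mul_comm]
    · simp

theorem T_eq : C.T = ∑ χ, (C.u χ : ℝ) ^ 3 / C.d χ := by
  classical
  apply Complex.ofReal_injective
  rw [Complex.ofReal_sum]
  have h := C.rel _ (even_t (M := M))
  rw [if_pos (IsConj.refl _)] at h
  rw [← h]
  refine Finset.sum_congr rfl fun χ _ => ?_
  rw [C.u_spec]
  push_cast
  ring

end Cols

end Cfsg.Agent.AbelInv
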