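import Cfsg.Agent.Lib.AbelInv.BlockAvg
import Cfsg.Agent.Lib.AbelInv.Cols
import Cfsg.Agent.Lib.Char.Clifford
import Cfsg.Agent.Lib.SmallN.Props
import Cfsg.Agent.Lib.Small.ClassCount
import Cfsg.Agent.Lib.Char.GlaubermanMod

/-!
The columns supplied by the group.
-/

set_option autoImplicit false
set_option linter.unusedSectionVars false
set_option linter.style.haveILetI false

namespace Cfsg.Agent.AbelInv

open Cfsg Cfsg.Agent.Char Cfsg.Agent.Blocks
open scoped ComplexConjugate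

universe u

variable {G S K : Type u} [Group G] [Fintype G] [CommGroup S] [Group K] [MulDistribMulAction K S]
  [Fintype S] [Fintype K] (Mo : Model G S K) (M : Hyp S K)

namespace Model

theorem avg_principal (a : SK S K) : Mo.avg (Char.principal G) a = 1 := by
  rw [avg, show (∑ g ∈ Mo.fib a, (Char.principal G : G → ℂ) g) = ∑ g ∈ Mo.fib a, (1 : ℂ) from rfl,
    Finset.sum_const, Mo.card_fib, nsmul_eq_mul, mul_one, inv_mul_cancel₀ Mo.natCard_W_ne]

theorem avg_conj (χ : IrrCharacter G) (a q : SK S K) : Mo.avg χ (q * a * q⁻¹) = Mo.avg χ a := by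
  obtain ⟨c, hc, hcq⟩ := Mo.pr_surj q
  rw [avg, avg]
  congr 1
  refine Finset.sum_bij' (fun g _ => c⁻¹ * g * c) (fun g _ => c * g * c⁻¹) (fun g hg => ?_)
    (fun g hg => ?_) (fun g _ => by group) (fun g _ => by group) fun g _ => ?_
  · obtain ⟨hH, hp⟩ := Mo.mem_fib.1 hg
    refine Mo.mem_fib.2 ⟨mul_mem (mul_mem (inv_mem hc) hH) hc, ?_⟩
    rw [Mo.pr_mul (mul_mem (inv_mem hc) hH) hc, Mo.pr_mul (inv_mem hc) hH, Mo.pr_inv hc, hcq, hp]
    group
  · obtain ⟨hH, hp⟩ := Mo.mem_fib.1 hg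
    refine Mo.mem_fib.2 ⟨mul_mem (mul_mem hc hH) (inv_mem hc), ?_⟩
    rw [Mo.pr_mul (mul_mem hc hH) (inv_mem hc), Mo.pr_mul hc hH, Mo.pr_inv hc, hcq, hp]
  · have := IsCharacter.isClassFunction (irr_isCharacter χ) g c⁻¹
    rw [inv_inv] at this
    exact this.symm

theorem classInner_avg [Fintype Mo.H] [Fintype (SK S K)] (χ : IrrCharacter G) (φ : SK S K → ℂ) :
    Cfsg.classInner (fun h : Mo.H => (χ : G → ℂ) h) (fun h => φ (Mo.proj h)) =
      Cfsg.classInner (Mo.avg χ) φ := by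
  classical
  rw [classInner, classInner, Mo.card_H,
    ← Finset.sum_fiberwise Finset.univ (fun h : Mo.H => Mo.proj h), Nat.cast_mul, mul_inv,
    Finset.mul_sum, Finset.mul_sum]
  refine Finset.sum_congr rfl fun a _ => ?_
  rw [avg, Finset.sum_congr rfl (g := fun h : Mo.H => (χ : G → ℂ) h * conj (φ a)) fun h hh => by
    rw [(Finset.mem_filter.1 hh).2], ← Finset.sum_mul]
  rw [Finset.sum_bij (t := Mo.fib a) (g := fun g => (χ : G → ℂ) g) (fun (h : Mo.H) _ => (h : G))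
    (fun h hh => Mo.mem_fib.2 ⟨h.2, (Mo.pr_eq h.2).trans (Finset.mem_filter.1 hh).2⟩)
    (fun a _ b _ e => Subtype.ext e) (fun g hg => ⟨⟨g, (Mo.mem_fib.1 hg).1⟩, Finset.mem_filter.2
      ⟨Finset.mem_univ _, (Mo.pr_eq _).symm.trans (Mo.mem_fib.1 hg).2⟩, rfl⟩) fun _ _ => rfl]
  ring

theorem isCharacter_avg (χ : IrrCharacter G) : Cfsg.IsCharacter (SK S K) (Mo.avg χ) := by
  haveI : Fintype Mo.H := Fintype.ofFinite _
  refine isCharacter_of_classInner (fun a q => Mo.avg_conj χ a q) fun φ => ?_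
  rw [← Mo.classInner_avg]
  exact IsCharacter.exists_classInner_nat (IsCharacter.restrict (irr_isCharacter χ) Mo.H)
    (IsCharacter.comp (irr_isCharacter φ) Mo.proj)

theorem avg_le_degree (χ : IrrCharacter G) :
    (Mo.avg χ 1).re ≤ (charDegree (χ : G → ℂ) : ℝ) := by
  have hW : (0 : ℝ) < Nat.card Mo.W := Nat.cast_pos.2 Nat.card_pos
  refine (Complex.re_le_norm _).trans ?_
  rw [avg, norm_mul, norm_inv, Complex.norm_natCast, inv_mul_le_iff₀ hW]
  refine (norm_sum_le _ _).trans ((Finset.sum_le_card_nsmul _ _ (charDegree (χ : G → ℂ) : ℝ)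
    fun g _ => SmallN.norm_le_one (irr_isCharacter χ) (irr_one_eq_charDegree χ) g).trans ?_)
  rw [Mo.card_fib, nsmul_eq_mul]

theorem le_index_mul [Fintype (SK S K)] (χ : IrrCharacter G) {φ : SK S K → ℂ}
    (hφ : Cfsg.IsCharacter (SK S K) φ) (h : Cfsg.classInner (Mo.avg χ) φ ≠ 0) :
    (charDegree (χ : G → ℂ) : ℝ) ≤ (Mo.H.index : ℝ) * (φ 1).re := by
  haveI : Fintype Mo.H := Fintype.ofFinite _
  obtain ⟨d, hd⟩ := IsCharacter.exists_degree hφ
  set θ : Mo.H → ℂ := fun h => φ (Mo.proj h)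
  have hθ : Cfsg.IsCharacter Mo.H θ := IsCharacter.comp hφ Mo.proj
  have hne : Cfsg.classInner (Cfsg.indFun Mo.H θ) (χ : G → ℂ) ≠ 0 := by
    rw [classInner_indFun_left _ _ (IsCharacter.isClassFunction (irr_isCharacter χ)),
      ← classInner_comm_of_isCharacter (IsCharacter.restrict (irr_isCharacter χ) Mo.H) hθ,
      Mo.classInner_avg]
    exact h
  have := degree_le_of_constituent (isCharacter_indFun Mo.H hθ) χ.2 hne
    (a := Mo.H.index * d) (b := charDegree (χ : G → ℂ))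
    (by rw [indFun_one_apply, show θ 1 = φ (Mo.proj 1) from rfl, map_one, hd, Nat.cast_mul])
    (irr_one_eq_charDegree χ)
  rw [hd, Complex.natCast_re, ← Nat.cast_mul, Nat.cast_le]
  exact this

open scoped Classical in
theorem gram (a b : SK S K) (hb : Even (orderOf b)) :
    ∑ χ : IrrCharacter G, Mo.avg χ a * conj (Mo.avg χ b) =
      ((Finset.univ.filter fun q : SK S K => q * b * q⁻¹ = a).card : ℂ) := by
  set F := Finset.univ.filter fun q : SK S K => q * b * q⁻¹ = a with hF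
  have key : ∀ g' ∈ Mo.fib b, ∑ g ∈ Mo.fib a,
      ((Finset.univ.filter fun x : G => x * g' * x⁻¹ = g).card : ℂ) =
        (Nat.card Mo.W : ℂ) * (F.card : ℂ) := by
    intro g' hg'
    obtain ⟨hg'H, hg'b⟩ := Mo.mem_fib.1 hg'
    have hev : Even (orderOf g') := Mo.even_orderOf hg'H (hg'b ▸ hb)
    rw [← Nat.cast_sum, ← Nat.cast_mul, Nat.cast_inj]
    have h1 : ∑ g ∈ Mo.fib a, (Finset.univ.filter fun x : G => x * g' * x⁻¹ = g).card =
        (Finset.univ.filter fun x : G => x * g' * x⁻¹ ∈ Mo.fib a).card := by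
      refine ((Finset.card_eq_sum_card_fiberwise (f := fun x : G => x * g' * x⁻¹)
        (s := Finset.univ.filter fun x : G => x * g' * x⁻¹ ∈ Mo.fib a) (t := Mo.fib a)
        fun x hx => (Finset.mem_filter.1 hx).2).trans ?_).symm
      refine Finset.sum_congr rfl fun g hg => congrArg Finset.card ?_
      ext x
      simp only [Finset.mem_filter, Finset.mem_univ, true_and]
      constructor <;> intro h <;> simp_all
    rw [h1]
    have h2 : (Finset.univ.filter fun x : G => x * g' * x⁻¹ ∈ Mo.fib a) = F.biUnion Mo.fib := by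
      ext x
      simp only [hF, Finset.mem_filter, Finset.mem_univ, true_and, Finset.mem_biUnion, mem_fib]
      constructor
      · rintro ⟨hxH, hxp⟩
        have hx := Mo.mem_of_conj hg'H hev hxH
        refine ⟨Mo.pr x, ?_, hx, rfl⟩
        rwa [Mo.pr_mul (mul_mem hx hg'H) (inv_mem hx), Mo.pr_mul hx hg'H, Mo.pr_inv hx, hg'b] at hxp
      · rintro ⟨q, hq, hx, rfl⟩
        refine ⟨mul_mem (mul_mem hx hg'H) (inv_mem hx), ?_⟩
        rw [Mo.pr_mul (mul_mem hx hg'H) (inv_mem hx), Mo.pr_mul hx hg'H, Mo.pr_inv hx, hg'b, hq]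
    rw [h2, Finset.card_biUnion (fun q _ q' _ hne => Finset.disjoint_left.2 fun x hx hx' =>
      hne ((Mo.mem_fib.1 hx).2.symm.trans (Mo.mem_fib.1 hx').2)),
      Finset.sum_congr rfl fun q _ => Mo.card_fib q, Finset.sum_const, smul_eq_mul, mul_comm]
  have e : ∀ χ : IrrCharacter G, Mo.avg χ a * conj (Mo.avg χ b) =
      ((Nat.card Mo.W : ℂ)⁻¹) ^ 2 * ∑ g' ∈ Mo.fib b, ∑ g ∈ Mo.fib a,
        (χ : G → ℂ) g * conj ((χ : G → ℂ) g') := fun χ => by
    rw [avg, avg, map_mul, map_inv₀, map_natCast, map_sum, Finset.sum_comm, ← Finset.sum_mul_sum]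
    ring
  simp only [e]
  rw [← Finset.mul_sum, Finset.sum_comm]
  rw [Finset.sum_congr rfl fun g' hg' => Finset.sum_comm.trans
    ((Finset.sum_congr rfl fun g _ => column_orth_count g g').trans (key g' hg'))]
  rw [Finset.sum_const, Mo.card_fib, nsmul_eq_mul]
  have := Mo.natCard_W_ne
  field_simp

theorem deg_sum (a : SK S K) (ha : Even (orderOf a)) :
    ∑ χ : IrrCharacter G, ((charDegree (χ : G → ℂ) : ℝ) : ℂ) * Mo.avg χ a = 0 := by
  simp only [avg, Finset.mul_sum]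
  rw [Finset.sum_comm]
  refine Finset.sum_eq_zero fun g hg => ?_
  obtain ⟨hH, hp⟩ := Mo.mem_fib.1 hg
  have hne : g ≠ 1 := Mo.ne_one_of_even hH (hp ▸ ha)
  have h := column_orth_of_not_isConj (g := g) (h := (1 : G))
    fun hc => hne (isConj_one_left.1 hc)
  calc _ = (Nat.card Mo.W : ℂ)⁻¹ * ∑ χ : IrrCharacter G, (χ : G → ℂ) g * conj ((χ : G → ℂ) 1) := by
        rw [Finset.mul_sum]
        refine Finset.sum_congr rfl fun χ _ => ?_
        rw [conj_irr_one, irr_one_eq_charDegree, Complex.ofReal_natCast]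
        ring
    _ = 0 := by rw [h, mul_zero]

open scoped Classical in
theorem count_prod (a : SK S K) (ha : Even (orderOf a)) :
    ∑ g ∈ Mo.fib a, Nat.card {x : G // IsConj (Mo.tG M) x ∧ IsConj (Mo.tG M) (x⁻¹ * g)} =
      if IsConj (SemidirectProduct.inl M.t) a then (M.f - 1) * (Mo.invOver M.t).card ^ 2 else 0 := by
  -- both factors lie in the subgroup
  have hin : ∀ g ∈ Mo.fib a, ∀ x, IsConj (Mo.tG M) x → IsConj (Mo.tG M) (x⁻¹ * g) →
      ∃ b ∈ Hyp.invols (S := S), ∃ c ∈ Hyp.invols (S := S), x ∈ Mo.invOver b ∧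
        x⁻¹ * g ∈ Mo.invOver c ∧ a = SemidirectProduct.inl (b * c) := by
    intro g hg x hx hy
    obtain ⟨hgH, hga⟩ := Mo.mem_fib.1 hg
    have hx2 := (Mo.isConj_tG M).1 hx
    have hy2 := (Mo.isConj_tG M).1 hy
    have hev : Even (orderOf g) := Mo.even_orderOf hgH (hga ▸ ha)
    have hxx : x * x = 1 := by rw [← pow_two, ← hx2, pow_orderOf_eq_one]
    have hyy : x⁻¹ * g * (x⁻¹ * g) = 1 := by rw [← pow_two, ← hy2, pow_orderOf_eq_one]
    have hinv : x * g * x⁻¹ = g⁻¹ := by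
      refine eq_inv_of_mul_eq_one_left ?_
      calc x * g * x⁻¹ * g = x * x * (x⁻¹ * g * (x⁻¹ * g)) := by group
        _ = 1 := by rw [hxx, hyy, mul_one]
    have hxH : x ∈ Mo.H := Mo.mem_of_conj hgH hev (hinv ▸ inv_mem hgH)
    have hyH : x⁻¹ * g ∈ Mo.H := mul_mem (inv_mem hxH) hgH
    obtain ⟨b, hb, hbe⟩ := Mo.invol_image M hxH hx2
    obtain ⟨c, hc, hce⟩ := Mo.invol_image M hyH hy2
    refine ⟨b, hb, c, hc, Mo.mem_invOver.2 ⟨⟨hxH, hbe⟩, hx2⟩, Mo.mem_invOver.2 ⟨⟨hyH, hce⟩, hy2⟩, ?_⟩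
    rw [map_mul, ← hbe, ← hce, ← Mo.pr_mul hxH hyH, mul_inv_cancel_left, hga]
  split_ifs with hconj
  swap
  · refine Finset.sum_eq_zero fun g hg => ?_
    rw [Nat.card_eq_zero]
    refine Or.inl ⟨fun ⟨x, hx, hy⟩ => hconj ?_⟩
    obtain ⟨b, hb, c, hc, -, -, he⟩ := hin g hg x hx hy
    have hbc : b * c ≠ 1 := fun h => by
      rw [he, h, map_one, orderOf_one] at ha
      exact Nat.not_even_one ha
    refine (Cols.isConj_t_iff a).2 ⟨by rw [he, SemidirectProduct.right_inl], ?_⟩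
    rw [he, SemidirectProduct.left_inl, Hyp.mem_invols]
    exact ⟨by rw [mul_mul_mul_comm, (Hyp.mem_invols.1 hb).1, (Hyp.mem_invols.1 hc).1, mul_one], hbc⟩
  obtain ⟨har, haz⟩ := (Cols.isConj_t_iff a).1 hconj
  set z := a.left with hz
  have hza : a = SemidirectProduct.inl z := by
    conv_lhs => rw [← SemidirectProduct.inl_left_mul_inr_right a, har, map_one, mul_one]
  have hzz := (Hyp.mem_invols.1 haz).1
  let P := (Mo.fib a).sigma fun g =>
    Finset.univ.filter fun x => IsConj (Mo.tG M) x ∧ IsConj (Mo.tG M) (x⁻¹ * g)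
  let Q := ((Hyp.invols (S := S)).erase z).sigma fun b => Mo.invOver b ×ˢ Mo.invOver (b * z)
  have hP : ∑ g ∈ Mo.fib a, Nat.card {x : G // IsConj (Mo.tG M) x ∧ IsConj (Mo.tG M) (x⁻¹ * g)} =
      P.card := by
    rw [Finset.card_sigma]
    exact Finset.sum_congr rfl fun g _ => by rw [Nat.card_eq_fintype_card, Fintype.card_subtype]
  have hQ : Q.card = (M.f - 1) * (Mo.invOver M.t).card ^ 2 := by
    rw [Finset.card_sigma, Finset.sum_congr rfl (g := fun _ => (Mo.invOver M.t).card ^ 2)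
      fun b hb => ?_, Finset.sum_const, Finset.card_erase_of_mem haz, smul_eq_mul, Hyp.f]
    obtain ⟨hbz, hb'⟩ := Finset.mem_erase.1 hb
    rw [Finset.card_product, Mo.card_invOver M hb', Mo.card_invOver M (b := b * z), pow_two]
    rw [Hyp.mem_invols]
    refine ⟨by rw [mul_mul_mul_comm, (Hyp.mem_invols.1 hb').1, hzz, mul_one], fun h => hbz ?_⟩
    exact mul_right_cancel (h.trans hzz.symm)
  rw [hP, ← hQ]
  refine Finset.card_bij (fun p _ => ⟨(Mo.pr p.2).left, (p.2, p.2⁻¹ * p.1)⟩) ?_ ?_ ?_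
  · rintro ⟨g, x⟩ hp
    obtain ⟨hg, hp'⟩ := Finset.mem_sigma.1 hp
    obtain ⟨hx, hy⟩ := (Finset.mem_filter.1 hp').2
    obtain ⟨b, hb, c, hc, hxb, hyc, he⟩ := hin g hg x hx hy
    have hbl : (Mo.pr x).left = b := by
      rw [(Mo.mem_invOver.1 hxb).1.2, SemidirectProduct.left_inl]
    have hzbc : z = b * c := by rw [hz, he, SemidirectProduct.left_inl]
    have hcz : c = b * z := by rw [hzbc, ← mul_assoc, (Hyp.mem_invols.1 hb).1, one_mul]
    refine Finset.mem_sigma.2 ⟨Finset.mem_erase.2 ⟨?_, hbl ▸ hb⟩, Finset.mem_product.2 ⟨hbl ▸ hxb, ?_⟩⟩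
    · show (Mo.pr x).left ≠ z
      intro e
      rw [hbl] at e
      refine (Hyp.mem_invols.1 hc).2 ?_
      rw [hcz, e, hzz]
    · show x⁻¹ * g ∈ Mo.invOver ((Mo.pr x).left * z)
      rw [hbl, ← hcz]
      exact hyc
  · rintro ⟨g, x⟩ _ ⟨g', x'⟩ _ h
    have h2 := (Sigma.mk.inj h).2
    simp only [heq_eq_eq, Prod.mk.injEq] at h2
    obtain ⟨rfl, h3⟩ := h2
    rw [mul_left_cancel h3]
  · rintro ⟨b, x, y⟩ hq
    obtain ⟨hb, hxy⟩ := Finset.mem_sigma.1 hq
    obtain ⟨hx, hy⟩ := Finset.mem_product.1 hxy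
    obtain ⟨⟨hxH, hxp⟩, hx2⟩ := Mo.mem_invOver.1 hx
    obtain ⟨⟨hyH, hyp⟩, hy2⟩ := Mo.mem_invOver.1 hy
    refine ⟨⟨x * y, x⟩, Finset.mem_sigma.2 ⟨Mo.mem_fib.2 ⟨mul_mem hxH hyH, ?_⟩, Finset.mem_filter.2
      ⟨Finset.mem_univ _, (Mo.isConj_tG M).2 hx2, by
        show IsConj (Mo.tG M) (x⁻¹ * (x * y))
        rw [inv_mul_cancel_left]; exact (Mo.isConj_tG M).2 hy2⟩⟩, ?_⟩
    · show Mo.pr (x * y) = a
      dsimp only at hxp hyp ⊢
      rw [Mo.pr_mul hxH hyH, hxp, hyp, ← map_mul, ← mul_assoc,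
        (Hyp.mem_invols.1 (Finset.mem_of_mem_erase hb)).1, one_mul, hza]
    · dsimp only at hxp ⊢
      rw [hxp, SemidirectProduct.left_inl, inv_mul_cancel_left]

theorem conj_tG (χ : IrrCharacter G) : conj ((χ : G → ℂ) (Mo.tG M)) = (χ : G → ℂ) (Mo.tG M) := by
  obtain ⟨z, hz⟩ := exists_int_of_sq (irr_isCharacter χ) (x := Mo.tG M)
    (by rw [← pow_two, ← Mo.orderOf_tG M, pow_orderOf_eq_one])
  rw [hz, map_intCast]

open scoped Classical in
theorem rel (hfaith : ∀ k : K, (∀ s : S, k • s = s) → k = 1) (hf : 2 ≤ M.f) (a : SK S K)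
    (ha : Even (orderOf a)) :
    ∑ χ : IrrCharacter G, Mo.avg χ (SemidirectProduct.inl M.t) ^ 2 /
        ((charDegree (χ : G → ℂ) : ℝ) : ℂ) * Mo.avg χ a =
      if IsConj (SemidirectProduct.inl M.t) a then
        (((((M.f : ℝ) - 1) * Nat.card S * M.e) / ((Mo.H.index : ℝ) * M.f) : ℝ) : ℂ) else 0 := by
  haveI : Fact (Nat.Prime 2) := ⟨Nat.prime_two⟩
  obtain ⟨J, hJ⟩ := GlaubermanMod.exists_isPModular 2
  haveI := hJ.2.1.isPrime
  set t := Mo.tG M with ht
  have hterm : ∀ χ : IrrCharacter G, Mo.avg χ (SemidirectProduct.inl M.t) ^ 2 /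
      ((charDegree (χ : G → ℂ) : ℝ) : ℂ) * Mo.avg χ a =
      conj ((χ : G → ℂ) t * (χ : G → ℂ) t * conj (Mo.avg χ a) / (χ : G → ℂ) 1) := by
    intro χ
    rw [map_div₀, map_mul, map_mul, Complex.conj_conj, Mo.conj_tG M, conj_irr_one,
      irr_one_eq_charDegree, Complex.ofReal_natCast]
    by_cases hχ : χ ∈ principalBlock J G
    · rw [Mo.avg_eq_value M hJ hχ]; ring
    · rw [Mo.avg_eq_zero M hfaith hJ hχ ha]; ring
  rw [Finset.sum_congr rfl fun χ _ => hterm χ, ← map_sum]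
  have hCc := Mo.invOver_mul_centralizer M
  set c := Nat.card (Subgroup.centralizer ({t} : Set G)) with hc
  have hW : (Nat.card Mo.W : ℂ) ≠ 0 := Mo.natCard_W_ne
  have hG : (Nat.card G : ℂ) ≠ 0 := Nat.cast_ne_zero.2 Nat.card_pos.ne'
  have hsum : ∑ χ : IrrCharacter G, (χ : G → ℂ) t * (χ : G → ℂ) t * conj (Mo.avg χ a) / (χ : G → ℂ) 1 =
      (Nat.card Mo.W : ℂ)⁻¹ * ((Nat.card G : ℂ)⁻¹ * ((c : ℂ) * (c : ℂ) *
        ((∑ g ∈ Mo.fib a, Nat.card {x : G // IsConj t x ∧ IsConj t (x⁻¹ * g)} : ℕ) : ℂ))) := by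
    simp only [avg, map_mul, map_inv₀, map_natCast, map_sum, Finset.mul_sum, Finset.sum_div]
    rw [Finset.sum_comm, Nat.cast_sum, Finset.mul_sum, Finset.mul_sum, Finset.mul_sum]
    refine Finset.sum_congr rfl fun g _ => ?_
    have h := ClassCount.pair_count t t g
    rw [← hc] at h
    rw [show (c : ℂ) * (c : ℂ) * (Nat.card {x : G // IsConj t x ∧ IsConj t (x⁻¹ * g)} : ℂ) =
      (Nat.card G : ℂ) * ∑ ξ : IrrCharacter G, (ξ : G → ℂ) t * (ξ : G → ℂ) t *
        conj ((ξ : G → ℂ) g) / (ξ : G → ℂ) 1 by rw [← h]; ring,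
      inv_mul_cancel_left₀ hG, Finset.mul_sum]
    exact Finset.sum_congr rfl fun χ _ => by ring
  rw [hsum, Mo.count_prod M a ha]
  split_ifs with hconj
  · rw [show ∀ X : ℂ, conj ((Nat.card Mo.W : ℂ)⁻¹ * ((Nat.card G : ℂ)⁻¹ * ((c : ℂ) * (c : ℂ) * X))) =
      (Nat.card Mo.W : ℂ)⁻¹ * ((Nat.card G : ℂ)⁻¹ * ((c : ℂ) * (c : ℂ) * conj X)) from
      fun X => by simp only [map_mul, map_inv₀, map_natCast], map_natCast]
    rw [Mo.card_G, M.card_SK]
    have hcm : ((Mo.invOver M.t).card : ℂ) * (c : ℂ) =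
        (Nat.card Mo.W : ℂ) * ((Nat.card S : ℂ) * (M.e : ℂ)) := by exact_mod_cast hCc
    have h1 : (Nat.card S : ℂ) ≠ 0 := Nat.cast_ne_zero.2 Nat.card_pos.ne'
    have h2 : (M.e : ℂ) ≠ 0 := Nat.cast_ne_zero.2 M.e_pos.ne'
    have h3 : (M.f : ℂ) ≠ 0 := Nat.cast_ne_zero.2 M.f_pos.ne'
    have h4 : (Mo.H.index : ℂ) ≠ 0 := Nat.cast_ne_zero.2 Subgroup.index_ne_zero_of_finite
    push_cast [Nat.cast_sub (show 1 ≤ M.f by omega)]
    field_simp
    linear_combination ((M.f : ℂ) - 1) * ((Mo.invOver M.t).card * (c : ℂ) +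
      (Nat.card Mo.W : ℂ) * ((Nat.card S : ℂ) * (M.e : ℂ))) * hcm
  · simp

open scoped Classical in
/-- The columns. -/
noncomputable def cols (hfaith : ∀ k : K, (∀ s : S, k • s = s) → k = 1) (hf : 2 ≤ M.f) :
    Cols M (IrrCharacter G) where
  f := Mo.avg
  char := Mo.isCharacter_avg
  d χ := (charDegree (χ : G → ℂ) : ℝ)
  d_pos χ := Nat.cast_pos.2 (charDegree_pos χ)
  one := Char.principal G
  f_one := Mo.avg_principal
  d_one := by
    have h : (Char.principal G : G → ℂ) 1 = 1 := rfl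
    rw [irr_one_eq_charDegree, Nat.cast_eq_one] at h
    rw [h, Nat.cast_one]
  gram a b _ hb := Mo.gram a b hb
  deg := Mo.deg_sum
  T := (((M.f : ℝ) - 1) * Nat.card S * M.e) / ((Mo.H.index : ℝ) * M.f)
  T_pos := by
    have h2 : (2 : ℝ) ≤ M.f := by exact_mod_cast hf
    refine div_pos (mul_pos (mul_pos (by linarith) (Nat.cast_pos.2 Nat.card_pos))
      (Nat.cast_pos.2 M.e_pos)) (mul_pos (Nat.cast_pos.2 ?_) (by linarith))
    exact Nat.pos_of_ne_zero Subgroup.index_ne_zero_of_finite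
  rel := Mo.rel M hfaith hf
  n := Mo.H.index
  n_ge := Mo.index_ge ⟨M.t, M.t_ne⟩
  T_le := by
    have h1 : (Mo.H.index : ℝ) ≠ 0 := Nat.cast_ne_zero.2 Subgroup.index_ne_zero_of_finite
    have h2 : (M.f : ℝ) ≠ 0 := Nat.cast_ne_zero.2 M.f_pos.ne'
    rw [mul_assoc _ (Mo.H.index : ℝ), div_mul_cancel₀ _ (mul_ne_zero h1 h2)]
  d_ge := Mo.avg_le_degree
  d_le χ φ hφ h := Mo.le_index_mul χ hφ h

end Model

end Cfsg.Agent.AbelInv
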