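import Cfsg.Agent.Lib.AbelInv.ElemCases

/-!
All cases of an elementary 2-group with nontrivial core.
-/

set_option autoImplicit false
set_option linter.unusedSectionVars false
set_option linter.style.haveILetI false

namespace Cfsg.Agent.AbelInv

open Cfsg Cfsg.Agent.Char

universe u v

/-- The least admissible multiplicity. -/
def kmin (q Pn Pd u : ℤ) : ℤ := if 0 < u then max 1 (-((Pn * u - Pd * u ^ 3) / (Pn * q))) else 1 - u

/-- The test at one point. -/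
def testPt (den A L Mu q e Pn Pd u y : ℤ) : Bool :=
  u == 0 || !((y + u) % e == 0) ||
    (decide (den * u ^ 2 * |y| - L * u ^ 3 ≤ (u + q * kmin q Pn Pd u) * (A * y ^ 2 + Mu * u ^ 2)))

/-- The test on a box. -/
def testBox (den A L Mu q e Pn Pd : ℤ) (v Y : ℕ) : Bool :=
  (List.range (2 * v + 1)).all fun i => (List.range (2 * Y + 1)).all fun j =>
    testPt den A L Mu q e Pn Pd ((i : ℤ) - v) ((j : ℤ) - Y)

theorem mem_box {v : ℕ} {x : ℤ} {N : ℝ} (h : (x : ℝ) ^ 2 ≤ N) (hN : N < ((v : ℝ) + 1) ^ 2) :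
    -(v : ℤ) ≤ x ∧ x ≤ v := by
  have h1 : |(x : ℝ)| < (v : ℝ) + 1 := abs_lt_of_sq_lt_sq (lt_of_le_of_lt h hN) (by positivity)
  obtain ⟨h2, h3⟩ := abs_lt.1 h1
  have h2' : -((v : ℤ) + 1) < x := by exact_mod_cast h2
  have h3' : x < (v : ℤ) + 1 := by exact_mod_cast h3
  omega

variable {S K : Type u} [CommGroup S] [Group K] [MulDistribMulAction K S] [Fintype S] [Fintype K]
  {M : Hyp S K} {ι : Type v} [Fintype ι] {C : Cols M ι}

namespace Degs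

variable (D : Degs C) {r : ℕ} (hSh : Shape S K M.t r) (hE : ∀ s : S, s * s = 1)

include D hSh hE

theorem false_small (hr : 3 ≤ r) {e : ℕ} (he : M.e = e) {R : ℕ} (hRc : Rc r e = R)
    {den A L Mu Pn Pd : ℤ} (hden : 0 < den) (hA : 0 ≤ A) (hL : 0 ≤ L) (hMu : 0 ≤ Mu) (hPn : 0 < Pn)
    (hPd : 0 < Pd) {v Y : ℕ}
    (hv : (2 : ℝ) ^ r * e - 1 < ((v : ℝ) + 1) ^ 2) (hY : (R : ℝ) - ((e : ℝ) - 1) ^ 2 < ((Y : ℝ) + 1) ^ 2)
    (hP : (Tm r e - 1 + (v : ℝ) / ((2 : ℝ) ^ r + ((2 : ℝ) ^ r - 1) * v) * ((2 : ℝ) ^ r * e - 1)) * (Pd : ℝ) ≤ Pn)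
    (htot : (A : ℝ) * ((R : ℝ) - ((e : ℝ) - 1) ^ 2) + (Mu : ℝ) * ((2 : ℝ) ^ r * e - 1) +
      (L : ℝ) * (Tm r e - 1) < (den : ℝ) * ((e : ℝ) - 1))
    (htest : testBox den A L Mu ((2 : ℤ) ^ r) e Pn Pd v Y = true) : False := by
  classical
  subst he hRc
  have hden' : (0 : ℝ) < den := Int.cast_pos.2 hden
  have hq : (Nat.card S : ℝ) = (2 : ℝ) ^ r := by exact_mod_cast card_S M hSh hE
  have hU : ∀ χ, χ ≠ C.one → (C.u χ : ℝ) ^ 2 ≤ (2 : ℝ) ^ r * M.e - 1 := by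
    intro χ hne
    have h := Finset.single_le_sum (f := fun χ => (C.u χ : ℝ) ^ 2) (fun _ _ => sq_nonneg _)
      (Finset.mem_erase.2 ⟨hne, Finset.mem_univ χ⟩)
    rw [Finset.sum_erase_eq_sub (Finset.mem_univ _), C.sum_u_sq, C.u_one, hq] at h
    simpa using h
  have hy : ∀ χ, χ ≠ C.one → (C.y χ : ℝ) ^ 2 ≤ (Rc r M.e : ℝ) - ((M.e : ℝ) - 1) ^ 2 := by
    intro χ hne
    rw [← C.sum_y_sq hSh hE]
    exact Finset.single_le_sum (f := fun χ => (C.y χ : ℝ) ^ 2) (fun _ _ => sq_nonneg _)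
      (Finset.mem_erase.2 ⟨hne, Finset.mem_univ χ⟩)
  set β : ℝ := (v : ℝ) / ((2 : ℝ) ^ r + ((2 : ℝ) ^ r - 1) * v) with hβ
  have h1q : (1 : ℝ) ≤ 2 ^ r := one_le_pow₀ one_le_two
  have hden0 : (0 : ℝ) < (2 : ℝ) ^ r + ((2 : ℝ) ^ r - 1) * v := by
    have : 0 ≤ ((2 : ℝ) ^ r - 1) * (v : ℝ) := mul_nonneg (by linarith) (Nat.cast_nonneg v)
    linarith
  have hβ0 : 0 ≤ β := div_nonneg (Nat.cast_nonneg v) hden0.le
  have hβd : ∀ χ, χ ≠ C.one → C.u χ < 0 → -(C.u χ : ℝ) ≤ β * C.d χ := by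
    intro χ hne h
    have hvu : -(C.u χ : ℝ) ≤ v := by
      have h2 : -(v : ℤ) ≤ C.u χ := (mem_box (hU χ hne) hv).1
      have h2' : -(v : ℝ) ≤ (C.u χ : ℝ) := by exact_mod_cast h2
      linarith
    have h3 := D.neg_bound hSh hE hne h
    rw [hβ, div_mul_eq_mul_div, le_div_iff₀ hden0]
    have h4 := mul_le_mul_of_nonneg_left h3 (Nat.cast_nonneg v : (0 : ℝ) ≤ v)
    have h5 := mul_le_mul_of_nonneg_left hvu (show (0 : ℝ) ≤ 2 ^ r by linarith)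
    linarith
  refine D.false_of_weights hSh hE hr (a := (A : ℝ) / den) (lam := (L : ℝ) / den) (mu := (Mu : ℝ) / den)
    (div_nonneg (Int.cast_nonneg hL) hden'.le) (div_nonneg (Int.cast_nonneg hA) hden'.le) ?_ ?_
  · rw [div_mul_eq_mul_div, div_mul_eq_mul_div, div_mul_eq_mul_div, ← add_div, ← add_div,
      div_lt_iff₀ hden', mul_comm _ (den : ℝ)]
    exact htot
  intro χ hne hu0
  obtain ⟨k, hk1, hkneg, hdk⟩ := D.deg χ hne hu0
  rw [hq] at hdk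
  set q : ℤ := (2 : ℤ) ^ r with hqdef
  have hqR : (q : ℝ) = (2 : ℝ) ^ r := by rw [hqdef]; push_cast; rfl
  have hq0 : 0 < q := by rw [hqdef]; positivity
  have hdd : C.d χ = ((C.u χ + q * k : ℤ) : ℝ) := by rw [hdk]; push_cast; rw [hqR]
  have hk : kmin q Pn Pd (C.u χ) ≤ k := by
    unfold kmin
    split_ifs with hpos
    · refine max_le hk1 (neg_le.1 ((Int.le_ediv_iff_mul_le (mul_pos hPn hq0)).2 ?_))
      have h3 := D.cube_le hSh hE hr hβd hβ0 hne hpos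
      rw [div_le_iff₀ (C.d_pos χ)] at h3
      have h4 : (Pd : ℝ) * (C.u χ : ℝ) ^ 3 ≤ (Pn : ℝ) * C.d χ := by
        calc (Pd : ℝ) * (C.u χ : ℝ) ^ 3 ≤ (Pd : ℝ) * ((Tm r M.e - 1 +
              β * ((2 : ℝ) ^ r * M.e - 1)) * C.d χ) :=
            mul_le_mul_of_nonneg_left h3 (Int.cast_nonneg hPd.le)
          _ = ((Tm r M.e - 1 + β * ((2 : ℝ) ^ r * M.e - 1)) * Pd) * C.d χ := by ring
          _ ≤ _ := mul_le_mul_of_nonneg_right hP (C.d_pos χ).le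
      rw [hdd] at h4
      have h5 : Pd * C.u χ ^ 3 ≤ Pn * (C.u χ + q * k) := by exact_mod_cast h4
      linarith
    · exact hkneg (lt_of_le_of_ne (not_lt.1 hpos) hu0)
  obtain ⟨hu1, hu2⟩ := mem_box (hU χ hne) hv
  obtain ⟨hy1, hy2⟩ := mem_box (hy χ hne) hY
  have ht := htest
  simp only [testBox, List.all_eq_true, List.mem_range] at ht
  have hpt := ht (C.u χ + v).toNat (by omega) (C.y χ + Y).toNat (by omega)
  rw [show (((C.u χ + v).toNat : ℕ) : ℤ) - v = C.u χ by omega,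
    show (((C.y χ + Y).toNat : ℕ) : ℤ) - Y = C.y χ by omega] at hpt
  simp only [testPt, Bool.or_eq_true, beq_iff_eq, hu0, false_or, Bool.not_eq_true', beq_eq_false_iff_ne,
    ne_eq, decide_eq_true_eq] at hpt
  have hfin : den * C.u χ ^ 2 * |C.y χ| - L * C.u χ ^ 3 ≤
      (C.u χ + q * kmin q Pn Pd (C.u χ)) * (A * C.y χ ^ 2 + Mu * C.u χ ^ 2) :=
    hpt.resolve_left fun h => h (Int.emod_eq_zero_of_dvd (C.y_dvd χ))
  have hfin2 : den * C.u χ ^ 2 * |C.y χ| - L * C.u χ ^ 3 ≤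
      (C.u χ + q * k) * (A * C.y χ ^ 2 + Mu * C.u χ ^ 2) := by
    refine hfin.trans (mul_le_mul_of_nonneg_right ?_ (add_nonneg (mul_nonneg hA (sq_nonneg _))
      (mul_nonneg hMu (sq_nonneg _))))
    have := mul_le_mul_of_nonneg_left hk hq0.le
    linarith
  have hR2 : (den : ℝ) * (C.u χ : ℝ) ^ 2 * |(C.y χ : ℝ)| - (L : ℝ) * (C.u χ : ℝ) ^ 3 ≤
      C.d χ * ((A : ℝ) * (C.y χ : ℝ) ^ 2 + (Mu : ℝ) * (C.u χ : ℝ) ^ 2) := by
    rw [hdd]
    exact_mod_cast hfin2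
  rw [div_le_iff₀ (C.d_pos χ)]
  have hd0 := (C.d_pos χ).ne'
  have hdn := hden'.ne'
  have e2 : ((A : ℝ) / den * (C.y χ : ℝ) ^ 2 + (Mu : ℝ) / den * (C.u χ : ℝ) ^ 2 +
      (L : ℝ) / den * ((C.u χ : ℝ) ^ 3 / C.d χ)) * C.d χ =
      (C.d χ * ((A : ℝ) * (C.y χ : ℝ) ^ 2 + (Mu : ℝ) * (C.u χ : ℝ) ^ 2) + (L : ℝ) * (C.u χ : ℝ) ^ 3) / den := by
    field_simp
  rw [e2, le_div_iff₀ hden']
  linarith

/-- No elementary 2-group with nontrivial stabiliser and nontrivial core. -/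
theorem false (hr : 3 ≤ r) (he3 : 3 ≤ M.e) : False := by
  have hde : M.e ∣ r := hSh.dvd
  have her := Nat.le_of_dvd (by omega) hde
  obtain ⟨j, hj⟩ := M.e_odd
  by_cases hlarge : 21 ≤ r
  · exact D.false_large hSh hE hlarge he3
  obtain ⟨e, he⟩ : ∃ e, M.e = e := ⟨_, rfl⟩
  have h33 : r = 3 → e = 3 → False := fun a b => by
    subst a b
    refine D.false_small hSh hE hr he (R := 12) (by decide +kernel) (den := 100) (A := 13) (L := 15) (Mu := 4)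
      (Pn := 23785) (Pd := 10000) (v := 4) (Y := 2) (by norm_num) (by norm_num) (by norm_num) (by norm_num)
      (by norm_num) (by norm_num) ?_ ?_ ?_ ?_ (by decide +kernel) <;> norm_num [Tm]
  have h55 : r = 5 → e = 5 → False := fun a b => by
    subst a b
    refine D.false_small hSh hE hr he (R := 40) (by decide +kernel) (den := 100000000) (A := 8000000)
      (L := 20000000) (Mu := 888889) (Pn := 53191) (Pd := 10000) (v := 12) (Y := 4) (by norm_num) (by norm_num)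
      (by norm_num) (by norm_num) (by norm_num) (by norm_num) ?_ ?_ ?_ ?_ (by decide +kernel) <;> norm_num [Tm]
  have h63 : r = 6 → e = 3 → False := fun a b => by
    subst a b
    refine D.false_small hSh hE hr he (R := 24) (by decide +kernel) (den := 100000000) (A := 6000000)
      (L := 22000000) (Mu := 408385) (Pn := 27911) (Pd := 10000) (v := 13) (Y := 4) (by norm_num) (by norm_num)
      (by norm_num) (by norm_num) (by norm_num) (by norm_num) ?_ ?_ ?_ ?_ (by decide +kernel) <;> norm_num [Tm]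
  have h99 : r = 9 → e = 9 → False := fun a b => by
    subst a b
    refine D.false_small hSh hE hr he (R := 252) (by decide +kernel) (den := 100000000) (A := 1600000)
      (L := 41000000) (Mu := 86057) (Pn := 108750) (Pd := 10000) (v := 67) (Y := 13) (by norm_num) (by norm_num)
      (by norm_num) (by norm_num) (by norm_num) (by norm_num) ?_ ?_ ?_ ?_ (by decide +kernel) <;> norm_num [Tm]
  have med : ∀ (a b R : ℕ) (ρ : ℝ), Rc a b = R → (r = a → e = b →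
      1 / ((2 : ℝ) ^ a - 1) ≤ ρ → ρ < 1 → 0 < (R : ℝ) - ((b : ℝ) - 1) ^ 2 →
      (ρ * (((2 : ℝ) ^ a * b - 1) / ((2 : ℝ) ^ a - 1) + (Tm a b - 1)) -
        (Tm a b - 1) / ((2 : ℝ) ^ a - 1)) * ((R : ℝ) - ((b : ℝ) - 1) ^ 2) < ((b : ℝ) - 1) ^ 2 →
      (Tm a b - 1 + ((2 : ℝ) ^ a * b - 1) / ((2 : ℝ) ^ a - 1)) * (1 - ρ) ^ 2 ≤
        ρ ^ 3 * ((2 : ℝ) ^ a) ^ 2 → False) := by
    intro a b R ρ hR ha hb h1 h2 h3 h4 h5
    subst ha hb he
    exact D.false_medium hSh hE hr hR he3 h1 h2 h3 h4 h5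
  have hodd : e % 2 = 1 := by omega
  have her' : e ≤ r := by omega
  have hdvd : r % e = 0 := by rw [← he]; exact Nat.mod_eq_zero_of_dvd hde
  have he3' : 3 ≤ e := by omega
  have hcases : (r = 3 ∧ e = 3) ∨ (r = 5 ∧ e = 5) ∨ (r = 6 ∧ e = 3) ∨ (r = 7 ∧ e = 7) ∨ (r = 9 ∧ e = 3) ∨
      (r = 9 ∧ e = 9) ∨ (r = 10 ∧ e = 5) ∨ (r = 11 ∧ e = 11) ∨ (r = 12 ∧ e = 3) ∨ (r = 13 ∧ e = 13) ∨
      (r = 14 ∧ e = 7) ∨ (r = 15 ∧ e = 3) ∨ (r = 15 ∧ e = 5) ∨ (r = 15 ∧ e = 15) ∨ (r = 17 ∧ e = 17) ∨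
      (r = 18 ∧ e = 3) ∨ (r = 18 ∧ e = 9) ∨ (r = 19 ∧ e = 19) ∨ (r = 20 ∧ e = 5) := by
    have : r ≤ 20 := by omega
    interval_cases r <;> interval_cases e <;> simp_all
  rcases hcases with ⟨a, b⟩ | ⟨a, b⟩ | ⟨a, b⟩ | ⟨a, b⟩ | ⟨a, b⟩ | ⟨a, b⟩ | ⟨a, b⟩ | ⟨a, b⟩ | ⟨a, b⟩ |
    ⟨a, b⟩ | ⟨a, b⟩ | ⟨a, b⟩ | ⟨a, b⟩ | ⟨a, b⟩ | ⟨a, b⟩ | ⟨a, b⟩ | ⟨a, b⟩ | ⟨a, b⟩ | ⟨a, b⟩
  · exact h33 a b
  · exact h55 a b
  · exact h63 a b
  · refine med 7 7 84 (9 / 100) (by decide +kernel) a b ?_ ?_ ?_ ?_ ?_ <;> norm_num [Tm]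
  · refine med 9 3 48 (3 / 100) (by decide +kernel) a b ?_ ?_ ?_ ?_ ?_ <;> norm_num [Tm]
  · exact h99 a b
  · refine med 10 5 80 (7 / 10 * 16 / (5 * 64)) (by decide +kernel) a b ?_ ?_ ?_ ?_ ?_ <;> norm_num [Tm]
  · refine med 11 11 220 (7 / 10 * 100 / (11 * 120)) (by decide +kernel) a b ?_ ?_ ?_ ?_ ?_ <;> norm_num [Tm]
  · refine med 12 3 96 (7 / 10 * 4 / (3 * 92)) (by decide +kernel) a b ?_ ?_ ?_ ?_ ?_ <;> norm_num [Tm]
  · refine med 13 13 312 (7 / 10 * 144 / (13 * 168)) (by decide +kernel) a b ?_ ?_ ?_ ?_ ?_ <;> norm_num [Tm]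
  · refine med 14 7 168 (7 / 10 * 36 / (7 * 132)) (by decide +kernel) a b ?_ ?_ ?_ ?_ ?_ <;> norm_num [Tm]
  · refine med 15 3 192 (7 / 10 * 4 / (3 * 188)) (by decide +kernel) a b ?_ ?_ ?_ ?_ ?_ <;> norm_num [Tm]
  · refine med 15 5 160 (7 / 10 * 16 / (5 * 144)) (by decide +kernel) a b ?_ ?_ ?_ ?_ ?_ <;> norm_num [Tm]
  · refine med 15 15 1680 (7 / 10 * 196 / (15 * 1484)) (by decide +kernel) a b ?_ ?_ ?_ ?_ ?_ <;> norm_num [Tm]
  · refine med 17 17 544 (7 / 10 * 256 / (17 * 288)) (by decide +kernel) a b ?_ ?_ ?_ ?_ ?_ <;> norm_num [Tm]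
  · refine med 18 3 384 (7 / 10 * 4 / (3 * 380)) (by decide +kernel) a b ?_ ?_ ?_ ?_ ?_ <;> norm_num [Tm]
  · refine med 18 9 1368 (7 / 10 * 64 / (9 * 1304)) (by decide +kernel) a b ?_ ?_ ?_ ?_ ?_ <;> norm_num [Tm]
  · refine med 19 19 684 (7 / 10 * 324 / (19 * 360)) (by decide +kernel) a b ?_ ?_ ?_ ?_ ?_ <;> norm_num [Tm]
  · refine med 20 5 320 (7 / 10 * 16 / (5 * 304)) (by decide +kernel) a b ?_ ?_ ?_ ?_ ?_ <;> norm_num [Tm]

end Degs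

end Cfsg.Agent.AbelInv
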