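import Cfsg.Agent.Lib.AbelInv.Sums

/-!
The 2-group is elementary: the characters of a non-elementary one cannot exist.
-/

set_option autoImplicit false
set_option linter.unusedSectionVars false
set_option linter.style.haveILetI false

namespace Cfsg.Agent.AbelInv

open Cfsg Cfsg.Agent.Char
open scoped ComplexConjugate

universe u v

variable {S K : Type u} [CommGroup S] [Group K] [MulDistribMulAction K S] [Fintype S] [Fintype K]
  {M : Hyp S K} {ι : Type v} [Fintype ι] {C : Cols M ι} {R : Reps M}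

/-- The lower bound of a term over a character trivial on the involutions. -/
theorem cubic_triv {f t : ℝ} (hf : 7 ≤ f) (ht : 0 ≤ t) (h : 2 * t < f - 1) :
    f ^ 3 / (f - 1) - t * (f ^ 2 * (f - 3) / (f - 1) ^ 2) ≤ (f - t) ^ 3 / (f - 1 - 2 * t) := by
  have h1 : (0 : ℝ) < f - 1 := by linarith
  have h2 : (0 : ℝ) < f - 1 - 2 * t := by linarith
  have hD : f ^ 2 * (f - 3) / (f - 1) ^ 2 ≤ f := by
    rw [div_le_iff₀ (by positivity)]
    nlinarith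
  rw [le_div_iff₀ h2]
  set D := f ^ 2 * (f - 3) / (f - 1) ^ 2 with hDdef
  have key : (f - t) ^ 3 - (f ^ 3 / (f - 1) - t * D) * (f - 1 - 2 * t) =
      t ^ 2 * (3 * f - 2 * D - t) := by
    rw [hDdef]
    field_simp
    ring
  have : 0 ≤ t ^ 2 * (3 * f - 2 * D - t) := mul_nonneg (sq_nonneg t) (by linarith)
  linarith

/-- The bound of a term over a character nontrivial on the involutions. -/
theorem cubic_not {h t γ : ℝ} (ht : 0 ≤ t) (htγ : t ≤ γ) (hh : 2 * γ < h) :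
    (1 + t) ^ 3 / (h - 2 * t) ≤
      1 / h + t * (((3 + 3 * γ + γ ^ 2) * h + 2) / (h * (h - 2 * γ))) := by
  have h0 : 0 < h := by linarith
  have h2 : (0 : ℝ) < h - 2 * t := by linarith
  have h3 : (0 : ℝ) < h - 2 * γ := by linarith
  have e : (1 + t) ^ 3 / (h - 2 * t) =
      1 / h + t * (((3 + 3 * t + t ^ 2) * h + 2) / (h * (h - 2 * t))) := by
    rw [mul_div_assoc', div_add_div _ _ h0.ne' (mul_ne_zero h0.ne' h2.ne'),
      div_eq_div_iff h2.ne' (mul_ne_zero h0.ne' (mul_ne_zero h0.ne' h2.ne'))]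
    ring
  rw [e]
  gcongr
  nlinarith

/-- The numerical bound for many involutions. -/
theorem bound {f e C s w : ℝ} (hf : 31 ≤ f) (he : 1 ≤ e) (hef : 5 * e ≤ f) (he3 : e ^ 3 ≤ 5 * f)
    (hC : 0 ≤ C) (hCe : C ≤ e - 1) (hs : 0 ≤ s) (hw : 0 ≤ w) :
    (2 * e * f - 1 - 2 * C - 3 * s - w) / (f ^ 2 + 2 * f) +
      C * ((f - 1) / (f * (f + 1)) * (f * (f - 3) / (f - 1) ^ 2 +
        ((3 + 3 * (e - 1) + (e - 1) ^ 2) * (f - 1) + 2) /
          ((f - 1) * (f - 1 - 2 * (e - 1))))) < 1 := by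
  have hh : 0 < f - 1 := by linarith
  have hf0 : 0 < f := by linarith
  have hg : 3 / 5 * f + 1 ≤ f - 1 - 2 * (e - 1) := by linarith
  have h1 : (2 * e * f - 1 - 2 * C - 3 * s - w) / (f ^ 2 + 2 * f) ≤ 2 / 5 := by
    rw [div_le_iff₀ (by positivity)]
    nlinarith
  have h2 : C * ((f - 1) / (f * (f + 1)) * (f * (f - 3) / (f - 1) ^ 2)) ≤ 1 / 5 := by
    rw [show (f - 1) / (f * (f + 1)) * (f * (f - 3) / (f - 1) ^ 2) = (f - 3) / ((f + 1) * (f - 1)) by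
      field_simp, mul_div_assoc', div_le_iff₀ (by positivity)]
    nlinarith [mul_le_mul hCe (le_refl (f - 3)) (by linarith) (by linarith)]
  have h3 : C * ((f - 1) / (f * (f + 1)) * (((3 + 3 * (e - 1) + (e - 1) ^ 2) * (f - 1) + 2) /
      ((f - 1) * (f - 1 - 2 * (e - 1))))) ≤ 3 / 10 := by
    have hpos : 0 < f - 1 - 2 * (e - 1) := by linarith
    rw [show (f - 1) / (f * (f + 1)) * (((3 + 3 * (e - 1) + (e - 1) ^ 2) * (f - 1) + 2) /
      ((f - 1) * (f - 1 - 2 * (e - 1)))) = ((e ^ 2 + e + 1) * (f - 1) + 2) /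
        ((f * (f + 1)) * (f - 1 - 2 * (e - 1))) by field_simp; ring,
      mul_div_assoc', div_le_iff₀ (by positivity)]
    have h5 : C * ((e ^ 2 + e + 1) * (f - 1) + 2) ≤ (e ^ 3 - 1) * (f - 1) + 2 * (e - 1) := by
      nlinarith [mul_le_mul_of_nonneg_right hCe (show 0 ≤ (e ^ 2 + e + 1) * (f - 1) + 2 by positivity)]
    have h6 : (f * (f + 1)) * (3 / 5 * f + 1) ≤ (f * (f + 1)) * (f - 1 - 2 * (e - 1)) :=
      mul_le_mul_of_nonneg_left hg (by positivity)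
    have h7 : (e ^ 3 - 1) * (f - 1) + 2 * (e - 1) ≤ 5 * f * (f - 1) + 2 / 5 * f := by
      nlinarith [mul_le_mul_of_nonneg_right he3 hh.le]
    nlinarith [mul_le_mul_of_nonneg_left hf (mul_pos hf0 hf0).le]
  rw [mul_add, mul_add]
  linarith

namespace Fam

variable (F : Fam C R)

/-- The sum of the shifts. -/
noncomputable def Csum : ℤ := ∑ ψ, F.c ψ

open scoped Classical in
/-- The other nonprincipal characters. -/
noncomputable def rest : Finset ι := (insert C.one (Finset.univ.image F.star))ᶜ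

theorem sum_split (g : ι → ℝ) :
    ∑ χ, g χ = g C.one + ∑ x, g (F.star x) + ∑ χ ∈ F.rest, g χ := by
  classical
  rw [← Finset.sum_add_sum_compl (insert C.one (Finset.univ.image F.star)),
    Finset.sum_insert (by simp [F.ne_one]), Finset.sum_image F.inj.injOn, rest]

theorem uloc_cast (x : R.Idx) : (R.uloc x : ℝ) = ((R.ext' x).card : ℝ) * (M.esum x.1.1 : ℝ) := by
  rw [Reps.uloc, R.card_ext']
  push_cast
  rfl

theorem sum_uloc_sq : ∑ x : R.Idx, (R.uloc x : ℝ) ^ 2 =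
    (Nat.card S : ℝ) * M.e - (M.f : ℝ) * M.e := by
  classical
  have hf : (M.f : ℝ) ≠ 0 := Nat.cast_ne_zero.2 M.f_pos.ne'
  have h := R.sum_s_sq ((M.f : ℝ) ^ 2) 1
  rw [Finset.sum_congr rfl fun x _ => show (R.uloc x : ℝ) ^ 2 =
      ((R.ext' x).card : ℝ) ^ 2 * (if M.Triv x.1.1 then (M.f : ℝ) ^ 2 else 1) from ?_, h, M.card_S]
  · push_cast
    field_simp
    ring
  · rw [uloc_cast, mul_pow]
    split_ifs with ht
    · rw [M.esum_triv ht, Int.cast_natCast]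
    · rw [M.esum_not ht]; norm_num

theorem sum_uloc_c : ∑ x : R.Idx, (R.uloc x : ℝ) * (R.cX F.c x : ℝ) = -(F.Csum : ℝ) := by
  classical
  have hf : (M.f : ℝ) ≠ 0 := Nat.cast_ne_zero.2 M.f_pos.ne'
  have h := R.sum_s_c F.c (M.f : ℝ) (-1)
  rw [Finset.sum_congr rfl fun x _ => show (R.uloc x : ℝ) * (R.cX F.c x : ℝ) =
      ((R.ext' x).card : ℝ) * (R.cX F.c x : ℝ) * (if M.Triv x.1.1 then (M.f : ℝ) else -1) from ?_, h,
    Csum]
  · field_simp
    ring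
  · rw [uloc_cast]
    split_ifs with ht
    · rw [M.esum_triv ht, Int.cast_natCast]; ring
    · rw [M.esum_not ht]; push_cast; ring

theorem star_sq (x : R.Idx) :
    (C.u (F.star x) : ℝ) ^ 2 = ((R.uloc x : ℝ) - (R.cX F.c x : ℝ)) ^ 2 := by
  rcases F.sgn_eq x with e | e <;> rw [F.u_star, e] <;> push_cast <;> ring

theorem budget : ∑ χ ∈ F.rest, (C.u χ : ℝ) ^ 2 =
    (M.f : ℝ) * M.e - 1 - 2 * F.Csum - ∑ x : R.Idx, (R.cX F.c x : ℝ) ^ 2 := by
  have h := C.sum_u_sq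
  rw [F.sum_split, C.u_one, Finset.sum_congr rfl fun x _ => F.star_sq x] at h
  simp only [sub_sq, Finset.sum_add_distrib, Finset.sum_sub_distrib, mul_assoc, ← Finset.mul_sum,
    sum_uloc_sq, F.sum_uloc_c] at h
  push_cast at h
  linarith

theorem cX_eq (x : R.Idx) : (R.cX F.c x : ℝ) = ∑ ψ ∈ R.ext' x, (F.c ψ : ℝ) := by
  rw [Reps.cX, Int.cast_sum]

theorem Csum_eq : (F.Csum : ℝ) = ∑ ψ, (F.c ψ : ℝ) := by rw [Csum, Int.cast_sum]

theorem rest_sq_nonneg : 0 ≤ ∑ χ ∈ F.rest, (C.u χ : ℝ) ^ 2 :=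
  Finset.sum_nonneg fun _ _ => sq_nonneg _

theorem _root_.Cfsg.Agent.AbelInv.Hyp.q_ge (M : Hyp S K) (h4 : ∃ s : S, s * s ≠ 1) : ((M.f : ℝ) + 1) ^ 2 ≤ (Nat.card S : ℝ) := by
  have h := M.m_ge h4
  have : ((M.f : ℝ) + 1) ≤ M.m := by exact_mod_cast h
  rw [M.card_S, pow_two, Nat.cast_mul, Nat.cast_add, Nat.cast_one]
  exact mul_le_mul_of_nonneg_left this (by positivity)

theorem c_sq_lower (h4 : ∃ s : S, s * s ≠ 1) (hf : 7 ≤ M.f) :
    3 * (∑ ψ, (F.c ψ : ℝ) ^ 2) + 6 * (F.Csum : ℝ) ^ 2 / M.e ≤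
      ∑ x : R.Idx, (R.cX F.c x : ℝ) ^ 2 := by
  have h := R.sum_c_sq_ge F.c
  have he : (0 : ℝ) < M.e := Nat.cast_pos.2 M.e_pos
  have hf0 : (7 : ℝ) ≤ M.f := by exact_mod_cast hf
  have h6 : (6 : ℝ) ≤ ((Nat.card S : ℝ) - 1) / M.f - 3 := by
    rw [le_sub_iff_add_le, le_div_iff₀ (by linarith)]
    nlinarith [M.q_ge h4]
  refine le_trans ?_ h
  rw [mul_comm 6 ((F.Csum : ℝ) ^ 2), mul_div_assoc, Csum]
  gcongr

theorem small (h4 : ∃ s : S, s * s ≠ 1) (hf : 7 ≤ M.f) (he : 7 * M.e ≤ 3 * M.f) (ψ : MulAction.stabilizer K M.t →* ℂˣ) :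
    2 * (F.c ψ : ℝ) < (M.f : ℝ) - 1 := by
  have h1 := F.budget
  have h2 := F.c_sq_lower h4 hf
  have h3 := F.rest_sq_nonneg
  have he0 : (0 : ℝ) < M.e := Nat.cast_pos.2 M.e_pos
  have hf0 : (7 : ℝ) ≤ M.f := by exact_mod_cast hf
  have he1 : 7 * (M.e : ℝ) ≤ 3 * M.f := by exact_mod_cast he
  have h4' : -(M.e : ℝ) / 6 ≤ 2 * (F.Csum : ℝ) + 6 * (F.Csum : ℝ) ^ 2 / M.e := by
    rw [show 2 * (F.Csum : ℝ) + 6 * (F.Csum : ℝ) ^ 2 / M.e =
      (2 * (F.Csum : ℝ) * M.e + 6 * (F.Csum : ℝ) ^ 2) / M.e by field_simp, le_div_iff₀ he0]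
    nlinarith [sq_nonneg ((F.Csum : ℝ) + M.e / 6)]
  have h5 : (F.c ψ : ℝ) ^ 2 ≤ ∑ ψ, (F.c ψ : ℝ) ^ 2 :=
    Finset.single_le_sum (f := fun ψ => (F.c ψ : ℝ) ^ 2) (fun _ _ => sq_nonneg _) (Finset.mem_univ ψ)
  nlinarith [sq_nonneg ((F.c ψ : ℝ) * 2 + ((M.f : ℝ) - 1))]

theorem sgn_one (hs : ∀ ψ, 2 * (F.c ψ : ℝ) < (M.f : ℝ) - 1) (x : R.Idx) : F.sgn x = 1 := by
  rcases F.sgn_eq x with h | h
  · exact h
  exfalso
  have h1 := F.d_star x
  rw [h, F.cX_eq] at h1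
  have h2 : 0 < ∑ ψ ∈ R.ext' x, (((M.f : ℝ) - 1) - 2 * (F.c ψ : ℝ)) :=
    Finset.sum_pos (fun ψ _ => by linarith [hs ψ]) (Finset.card_pos.1 (by
      rw [R.card_ext']; exact Nat.pos_of_ne_zero Subgroup.index_ne_zero_of_finite))
  rw [Finset.sum_sub_distrib, Finset.sum_const, nsmul_eq_mul, ← Finset.mul_sum] at h2
  have h3 : (0 : ℝ) < (Nat.card S : ℝ) * M.e :=
    mul_pos (Nat.cast_pos.2 Nat.card_pos) (Nat.cast_pos.2 M.e_pos)
  have h5 := mul_pos (C.d_pos (F.star x)) C.T_pos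
  push_cast at h1
  nlinarith [mul_pos h2 h3]

theorem c_nonneg (hs : ∀ x, F.sgn x = 1) (ψ : MulAction.stabilizer K M.t →* ℂˣ) :
    0 ≤ (F.c ψ : ℝ) := by
  classical
  have h1 := F.d_star (R.bI ψ)
  rw [hs, R.ext'_bI, Finset.card_singleton, Reps.cX, R.ext'_bI, Finset.sum_singleton] at h1
  have h2 := C.d_le (F.star (R.bI ψ)) (R.X (R.bI ψ)) (isCharacter_indX _ _) (F.inner_b ψ (hs _))
  have hX : (R.X (R.bI ψ) 1).re = M.f := by
    rw [Reps.X, indX_one, R.bI_r, R.stab₀, show Nat.card (MulAction.stabilizer K M.t) = M.e from rfl,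
      M.card_K, Nat.cast_mul, mul_comm (M.f : ℂ), inv_mul_cancel_left₀
      (Nat.cast_ne_zero.2 M.e_pos.ne'), Complex.natCast_re]
  rw [hX] at h2
  have h3 : (0 : ℝ) < (Nat.card S : ℝ) * M.e :=
    mul_pos (Nat.cast_pos.2 Nat.card_pos) (Nat.cast_pos.2 M.e_pos)
  have h4 := mul_le_mul_of_nonneg_right h2 C.T_pos.le
  have h5 := C.T_le
  push_cast at h1
  nlinarith [mul_comm (C.n : ℝ) C.T]

theorem Csum_nonneg (hc : ∀ ψ, 0 ≤ (F.c ψ : ℝ)) : 0 ≤ (F.Csum : ℝ) := by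
  rw [F.Csum_eq]
  exact Finset.sum_nonneg fun ψ _ => hc ψ

theorem cX_nonneg (hc : ∀ ψ, 0 ≤ (F.c ψ : ℝ)) (x : R.Idx) : 0 ≤ (R.cX F.c x : ℝ) := by
  rw [F.cX_eq]
  exact Finset.sum_nonneg fun ψ _ => hc ψ

theorem Csum_le (h4 : ∃ s : S, s * s ≠ 1) (hc : ∀ ψ, 0 ≤ (F.c ψ : ℝ)) : F.Csum + 1 ≤ M.e := by
  classical
  have h1 := F.budget
  have h2 := R.sum_c_sq_ge F.c
  have h3 := F.rest_sq_nonneg
  have hC := F.Csum_nonneg hc
  have he : (0 : ℝ) < M.e := Nat.cast_pos.2 M.e_pos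
  have hf : (1 : ℝ) ≤ M.f := by exact_mod_cast M.f_pos
  have hcs := sq_sum_le_card_mul_sum_sq (s := (Finset.univ : Finset (MulAction.stabilizer K M.t →* ℂˣ)))
    (f := fun ψ => (F.c ψ : ℝ))
  rw [← F.Csum_eq, Finset.card_univ, ← Nat.card_eq_fintype_card,
    CommGroup.card_monoidHom_of_hasEnoughRootsOfUnity, ← Hyp.e] at hcs
  rw [show ∑ ψ, F.c ψ = F.Csum from rfl] at h2
  have h5 : (F.Csum : ℝ) ^ 2 * (((Nat.card S : ℝ) - 1) / M.f) ≤ M.e * ((M.f : ℝ) * M.e - 1) := by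
    have h6 := mul_le_mul_of_nonneg_left (show 3 * (∑ ψ, (F.c ψ : ℝ) ^ 2) + (F.Csum : ℝ) ^ 2 *
      ((((Nat.card S : ℝ) - 1) / M.f - 3) / M.e) ≤ (M.f : ℝ) * M.e - 1 by linarith) he.le
    rw [mul_add, show (M.e : ℝ) * ((F.Csum : ℝ) ^ 2 * ((((Nat.card S : ℝ) - 1) / M.f - 3) / M.e)) =
      (F.Csum : ℝ) ^ 2 * (((Nat.card S : ℝ) - 1) / M.f - 3) by field_simp] at h6
    linarith
  rw [mul_div_assoc', div_le_iff₀ (by linarith)] at h5
  have h7 := M.q_ge h4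
  suffices (F.Csum : ℝ) < M.e by
    have : F.Csum < (M.e : ℤ) := by exact_mod_cast this
    omega
  by_contra hle
  have h8 : (M.e : ℝ) ^ 2 ≤ (F.Csum : ℝ) ^ 2 := pow_le_pow_left₀ he.le (not_lt.1 hle) 2
  nlinarith [mul_le_mul h8 (show (M.f : ℝ) ^ 2 + 2 * M.f ≤ (Nat.card S : ℝ) - 1 by linarith)
    (by positivity) (sq_nonneg _), mul_pos he he]

/-- The multiplicity of a linear character in a restriction. -/
noncomputable def mult (_F : Fam C R) (χ : ι) (l : S →* ℂˣ) : ℂ :=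
  (Nat.card S : ℂ)⁻¹ * ∑ s : S, (l s : ℂ) * conj (C.f χ (SemidirectProduct.inl s))

theorem mult_smul (χ : ι) (x : K) (l : S →* ℂˣ) : F.mult χ (x • l) = F.mult χ l := by
  unfold mult
  congr 1
  refine Fintype.sum_equiv (MulAction.toPerm x⁻¹) _ _ fun s => ?_
  rw [MulAction.toPerm_apply, dual_apply]
  congr 2
  rw [show (SemidirectProduct.inl (x⁻¹ • s) : SK S K) =
    SemidirectProduct.inr x⁻¹ * SemidirectProduct.inl s * (SemidirectProduct.inr x⁻¹)⁻¹ from by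
      rw [← map_inv]; exact SemidirectProduct.inl_aut x⁻¹ s]
  exact (IsCharacter.isClassFunction (C.char χ) _ _).symm

open scoped Classical in
theorem sum_eta (r : {r // r ∈ R.reps}) (c : K) :
    ∑ η : R.sub r.1 →* ℂˣ, ext0 r.1 (R.eta ⟨r, η⟩) c =
      if c = 1 then (Nat.card (MulAction.stabilizer K r.1) : ℂ) else 0 := by
  by_cases hc : c ∈ MulAction.stabilizer K M.t
  · by_cases h : (⟨c, hc⟩ : MulAction.stabilizer K M.t) ∈ R.sub r.1
    · rw [Finset.sum_congr rfl (g := fun η : R.sub r.1 →* ℂˣ => (η ⟨⟨c, hc⟩, h⟩ : ℂ)) fun η _ =>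
        (R.ext0_eta ⟨r, η⟩ c).trans ((dif_pos hc).trans (dif_pos h)),
        dual_sum,
        Nat.card_congr (show R.sub r.1 ≃ MulAction.stabilizer K r.1 from
          (Subgroup.subgroupOfEquivOfLe (R.stab_le r.2)).toEquiv)]
      by_cases hc1 : c = 1
      · subst hc1
        rw [if_pos (show (⟨⟨1, hc⟩, h⟩ : R.sub r.1) = 1 from rfl)]; simp
      · rw [if_neg hc1, if_neg fun e => hc1
          (congrArg (fun a : R.sub r.1 => ((a : MulAction.stabilizer K M.t) : K)) e)]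
    · rw [Finset.sum_eq_zero fun η _ => (R.ext0_eta ⟨r, η⟩ c).trans ((dif_pos hc).trans (dif_neg h)), if_neg]
      rintro rfl
      exact h (one_mem _)
  · rw [Finset.sum_eq_zero fun η _ => (R.ext0_eta ⟨r, η⟩ c).trans (dif_neg hc), if_neg]
    rintro rfl
    exact hc (one_mem _)

open scoped Classical in
theorem sum_X (r : {r // r ∈ R.reps}) (a : SK S K) :
    ∑ η : R.sub r.1 →* ℂˣ, R.X ⟨r, η⟩ a =
      if a.right = 1 then ∑ x : K, ((x • r.1) a.left : ℂ) else 0 := by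
  simp only [Reps.X, indX]
  rw [← Finset.mul_sum, Finset.sum_comm]
  simp only [← Finset.sum_mul, sum_eta]
  have hne : (Nat.card (MulAction.stabilizer K r.1) : ℂ) ≠ 0 := Nat.cast_ne_zero.2 Nat.card_pos.ne'
  by_cases ha : a.right = 1
  · rw [if_pos ha, Finset.mul_sum]
    exact Finset.sum_congr rfl fun x _ => by
      rw [ha, mul_one, inv_mul_cancel, if_pos rfl, inv_mul_cancel_left₀ hne]
  · rw [if_neg ha, Finset.sum_eq_zero fun x _ => ?_, mul_zero]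
    rw [if_neg, zero_mul]
    intro e
    refine ha ?_
    rw [show a.right = x * (x⁻¹ * a.right * x) * x⁻¹ by group, e, mul_one, mul_inv_cancel]

theorem sum_inner (χ : ι) (r : {r // r ∈ R.reps}) :
    ∑ η : R.sub r.1 →* ℂˣ, Cfsg.classInner (R.X ⟨r, η⟩) (C.f χ) = F.mult χ r.1 := by
  classical
  simp only [classInner]
  rw [← Finset.mul_sum, Finset.sum_comm]
  simp only [← Finset.sum_mul, sum_X]
  rw [sum_SK, Finset.sum_eq_single (1 : K)]
  · simp only [if_true, Finset.sum_mul]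
    rw [Finset.sum_comm, SemidirectProduct.card, Nat.cast_mul, mul_inv, Finset.mul_sum,
      Finset.sum_congr rfl (g := fun _ : K => (Nat.card K : ℂ)⁻¹ * F.mult χ r.1) fun x _ => ?_,
      Finset.sum_const, Finset.card_univ, ← Nat.card_eq_fintype_card, nsmul_eq_mul,
      mul_inv_cancel_left₀ (Nat.cast_ne_zero.2 Nat.card_pos.ne')]
    rw [← F.mult_smul χ x r.1, mult, mul_comm (Nat.card S : ℂ)⁻¹, mul_assoc]
    rfl
  · intro k _ hk
    simp [hk]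
  · simp

theorem mult_const {χ : ι} (hχ : χ ∈ F.rest) {l : S →* ℂˣ} (hl : l ≠ 1) :
    F.mult χ l = ∑ ψ, Cfsg.classInner (R.X (R.bI ψ)) (C.f χ) := by
  classical
  have hne : ∀ y, F.star y ≠ χ := fun y e => by
    rw [rest, Finset.mem_compl] at hχ
    exact hχ (Finset.mem_insert_of_mem (Finset.mem_image.2 ⟨y, Finset.mem_univ _, e⟩))
  have hx : ∀ x : R.Idx, Cfsg.classInner (R.X x) (C.f χ) =
      ∑ ψ ∈ R.ext' x, Cfsg.classInner (R.X (R.bI ψ)) (C.f χ) := by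
    intro x
    by_cases h : x.1.1 = R.l₀
    · obtain ⟨ψ, hψ⟩ := R.exists_of_stab (x := x) (h ▸ R.stab₀)
      rw [show x = R.bI ψ from hψ.trans (by
        obtain ⟨⟨r, hr⟩, η⟩ := x
        subst h
        rfl), R.ext'_bI, Finset.sum_singleton]
    · have := F.zero x h χ hne
      rwa [Reps.phi, classInner_sub_left, classInner_sum_left, sub_eq_zero] at this
  obtain ⟨k, hk⟩ := R.rep_mem l
  rw [← F.mult_smul χ k l, hk,
    ← F.sum_inner χ ⟨R.rep l, R.mem_reps.2 ⟨R.rep_ne_one hl, R.rep_rep l⟩⟩,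
    Finset.sum_congr rfl fun η _ => hx _,
    ← Finset.sum_fiberwise Finset.univ (fun ψ : MulAction.stabilizer K M.t →* ℂˣ =>
      ψ.domRestrict (R.sub (R.rep l)))]
  exact Finset.sum_congr rfl fun η _ => rfl

theorem mult_inv (χ : ι) (z : S) :
    ∑ l : S →* ℂˣ, F.mult χ l * conj (l z : ℂ) = conj (C.f χ (SemidirectProduct.inl z)) := by
  classical
  simp only [mult, Finset.mul_sum, Finset.sum_mul]
  rw [Finset.sum_comm, Finset.sum_eq_single z]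
  · rw [Finset.sum_congr rfl (g := fun _ => (Nat.card S : ℂ)⁻¹ *
      conj (C.f χ (SemidirectProduct.inl z))) fun l _ => ?_, Finset.sum_const, Finset.card_univ,
      ← Nat.card_eq_fintype_card, CommGroup.card_monoidHom_of_hasEnoughRootsOfUnity, nsmul_eq_mul,
      mul_inv_cancel_left₀ (Nat.cast_ne_zero.2 Nat.card_pos.ne')]
    have h1 : (l z : ℂ) * conj (l z : ℂ) = 1 := by
      rw [conj_hom, ← Units.val_mul, MonoidHom.inv_apply, mul_inv_cancel, Units.val_one]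
    linear_combination (Nat.card S : ℂ)⁻¹ * conj (C.f χ (SemidirectProduct.inl z)) * h1
  · intro s _ hs
    rw [Finset.sum_congr rfl (g := fun l : S →* ℂˣ => ((Nat.card S : ℂ)⁻¹ *
      conj (C.f χ (SemidirectProduct.inl s))) * (l (s * z⁻¹) : ℂ)) fun l _ => ?_,
      ← Finset.mul_sum, dual_sum, if_neg (fun e => hs (mul_inv_eq_one.1 e)), mul_zero]
    rw [map_mul, Units.val_mul, map_inv, conj_hom, MonoidHom.inv_apply]
    ring
  · simp

theorem rest_cube (hq : (1 : ℝ) < Nat.card S) {χ : ι} (hχ : χ ∈ F.rest) :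
    -((C.u χ : ℝ) ^ 2 / ((Nat.card S : ℝ) - 1)) ≤ (C.u χ : ℝ) ^ 3 / C.d χ := by
  classical
  obtain ⟨g, hg⟩ := IsCharacter.exists_classInner_nat (isCharacter_one (G := S))
    (IsCharacter.comp (C.char χ) SemidirectProduct.inl)
  have hg1 : F.mult χ 1 = g := by
    rw [← hg, mult, classInner]
    simp
  obtain ⟨n, hn⟩ := IsCharacter.exists_degree (C.char χ)
  set a := ∑ ψ, Cfsg.classInner (R.X (R.bI ψ)) (C.f χ)
  have hinv : ∀ z : S, (g : ℂ) + a * ((if z = 1 then (Nat.card S : ℂ) else 0) - 1) =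
      conj (C.f χ (SemidirectProduct.inl z)) := by
    intro z
    rw [← F.mult_inv χ z, ← Finset.add_sum_erase _ _ (Finset.mem_univ (1 : S →* ℂˣ)), hg1,
      Finset.sum_congr rfl fun l hl => by rw [F.mult_const hχ (Finset.ne_of_mem_erase hl)],
      ← Finset.mul_sum, Finset.sum_erase_eq_sub (Finset.mem_univ _), ← map_sum, dual_sum]
    simp only [apply_ite (starRingEnd ℂ), map_zero, map_natCast, map_one, MonoidHom.one_apply,
      Units.val_one, mul_one]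
    rfl
  have ht := hinv M.t
  rw [if_neg M.t_ne, C.u_spec, map_intCast] at ht
  have h1 := hinv 1
  rw [if_pos rfl, map_one, hn, map_natCast] at h1
  have hn' : (n : ℝ) = g + ((g : ℝ) - C.u χ) * ((Nat.card S : ℝ) - 1) := by
    apply Complex.ofReal_injective
    push_cast
    linear_combination -h1 - ((Nat.card S : ℂ) - 1) * ht
  have hd := C.d_ge χ
  rw [hn, Complex.natCast_re, hn'] at hd
  have hd0 := C.d_pos χ
  have hg0 : (0 : ℝ) ≤ g := Nat.cast_nonneg _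
  set u : ℝ := (C.u χ : ℝ) with hu
  by_cases hu0 : 0 ≤ u
  · have : 0 ≤ u ^ 3 / C.d χ := div_nonneg (pow_nonneg hu0 3) hd0.le
    have : 0 ≤ u ^ 2 / ((Nat.card S : ℝ) - 1) := div_nonneg (sq_nonneg u) (by linarith)
    linarith
  · have hle : -u * ((Nat.card S : ℝ) - 1) ≤ C.d χ := by nlinarith
    rw [neg_le, neg_div', div_le_div_iff₀ hd0 (by linarith)]
    nlinarith [mul_le_mul_of_nonneg_left hle (sq_nonneg u)]

open scoped Classical in
theorem exc_cube (hs : ∀ x, F.sgn x = 1) (hc : ∀ ψ, 0 ≤ (F.c ψ : ℝ)) (hf : 7 ≤ M.f) {γ : ℝ}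
    (hγ : ∀ x, (R.cX F.c x : ℝ) ≤ γ * ((R.ext' x).card : ℝ)) (hγh : 2 * γ < (M.f : ℝ) - 1)
    (x : R.Idx) :
    C.T / ((Nat.card S : ℝ) * M.e) *
      (((R.ext' x).card : ℝ) ^ 2 * (if M.Triv x.1.1 then (M.f : ℝ) ^ 3 / ((M.f : ℝ) - 1)
        else -(1 / ((M.f : ℝ) - 1))) -
       ((R.ext' x).card : ℝ) * (R.cX F.c x : ℝ) * (if M.Triv x.1.1 then
          (M.f : ℝ) ^ 2 * ((M.f : ℝ) - 3) / ((M.f : ℝ) - 1) ^ 2
        else ((3 + 3 * γ + γ ^ 2) * ((M.f : ℝ) - 1) + 2) /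
          (((M.f : ℝ) - 1) * ((M.f : ℝ) - 1 - 2 * γ)))) ≤
    (C.u (F.star x) : ℝ) ^ 3 / C.d (F.star x) := by
  have hf0 : (7 : ℝ) ≤ M.f := by exact_mod_cast hf
  set s : ℝ := ((R.ext' x).card : ℝ) with hsdef
  have hs0 : 0 < s := by
    rw [hsdef, Nat.cast_pos, R.card_ext']
    exact Nat.pos_of_ne_zero Subgroup.index_ne_zero_of_finite
  set t : ℝ := (R.cX F.c x : ℝ) / s with htdef
  have ht0 : 0 ≤ t := div_nonneg (F.cX_nonneg hc x) hs0.le
  have htγ : t ≤ γ := (div_le_iff₀ hs0).2 (hγ x)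
  have hX : (R.cX F.c x : ℝ) = s * t := by rw [htdef, mul_div_cancel₀ _ hs0.ne']
  have hu : (C.u (F.star x) : ℝ) = s * (M.esum x.1.1 : ℝ) - s * t := by
    rw [F.u_star, hs, one_mul, Int.cast_sub, uloc_cast, hX]
  have hqe : (0 : ℝ) < (Nat.card S : ℝ) * M.e :=
    mul_pos (Nat.cast_pos.2 Nat.card_pos) (Nat.cast_pos.2 M.e_pos)
  have hh : (0 : ℝ) < (M.f : ℝ) - 1 - 2 * t := by linarith
  have hd : C.d (F.star x) = s * ((M.f : ℝ) - 1 - 2 * t) * ((Nat.card S : ℝ) * M.e) / C.T := by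
    rw [eq_div_iff C.T_pos.ne']
    have := F.d_star x
    rw [hs, Int.cast_one, one_mul, ← hsdef, hX] at this
    rw [this]; ring
  have key : (C.u (F.star x) : ℝ) ^ 3 / C.d (F.star x) = C.T / ((Nat.card S : ℝ) * M.e) *
      (s ^ 2 * (((M.esum x.1.1 : ℝ) - t) ^ 3 / ((M.f : ℝ) - 1 - 2 * t))) := by
    rw [hu, hd]
    have := hs0.ne'
    have := hh.ne'
    have := hqe.ne'
    have := C.T_pos.ne'
    field_simp
  rw [key, hX]
  refine mul_le_mul_of_nonneg_left ?_ (div_nonneg C.T_pos.le hqe.le)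
  split_ifs with h
  · rw [M.esum_triv h, Int.cast_natCast]
    have := mul_le_mul_of_nonneg_left (cubic_triv hf0 ht0 (by linarith)) (sq_nonneg s)
    refine le_trans (le_of_eq ?_) this
    ring
  · rw [M.esum_not h]
    have := mul_le_mul_of_nonneg_left (cubic_not ht0 htγ hγh) (sq_nonneg s)
    rw [show ((( -1 : ℤ) : ℝ) - t) ^ 3 = -((1 + t) ^ 3) by push_cast; ring, neg_div]
    linarith

open scoped Classical in
theorem main_ineq (h4 : ∃ s : S, s * s ≠ 1) (hs : ∀ x, F.sgn x = 1) (hc : ∀ ψ, 0 ≤ (F.c ψ : ℝ))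
    (hf : 7 ≤ M.f) {γ : ℝ} (hγ0 : 0 ≤ γ)
    (hγ : ∀ x, (R.cX F.c x : ℝ) ≤ γ * ((R.ext' x).card : ℝ)) (hγh : 2 * γ < (M.f : ℝ) - 1) :
    1 ≤ (2 * (M.e : ℝ) * M.f - 1 - 2 * F.Csum - 3 * (∑ ψ, (F.c ψ : ℝ) ^ 2) -
        6 * (F.Csum : ℝ) ^ 2 / M.e) / ((M.f : ℝ) ^ 2 + 2 * M.f) +
      F.Csum * (((M.f : ℝ) - 1) / ((M.f : ℝ) * ((M.f : ℝ) + 1)) *
        ((M.f : ℝ) * ((M.f : ℝ) - 3) / ((M.f : ℝ) - 1) ^ 2 +
          ((3 + 3 * γ + γ ^ 2) * ((M.f : ℝ) - 1) + 2) /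
            (((M.f : ℝ) - 1) * ((M.f : ℝ) - 1 - 2 * γ)))) := by
  have hb := F.budget
  have hlow := F.c_sq_lower h4 hf
  have hR0 := F.rest_sq_nonneg
  have hC := F.Csum_nonneg hc
  have hq2 := M.q_ge h4
  have hT := C.T_eq
  rw [F.sum_split, C.u_one, C.d_one] at hT
  have hexc := Finset.sum_le_sum (s := Finset.univ) fun x _ => F.exc_cube hs hc hf hγ hγh x
  rw [← Finset.mul_sum, Finset.sum_sub_distrib, R.sum_s_sq, R.sum_s_c,
    show ∑ ψ, F.c ψ = F.Csum from rfl] at hexc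
  have hf0 : (7 : ℝ) ≤ M.f := by exact_mod_cast hf
  have hrest := Finset.sum_le_sum (s := F.rest) fun χ hχ =>
    F.rest_cube (show (1 : ℝ) < Nat.card S by nlinarith) hχ
  rw [Finset.sum_neg_distrib, ← Finset.sum_div] at hrest
  set σ := ((3 + 3 * γ + γ ^ 2) * ((M.f : ℝ) - 1) + 2) /
    (((M.f : ℝ) - 1) * ((M.f : ℝ) - 1 - 2 * γ)) with hσdef
  have hσ : 0 ≤ σ := by
    refine div_nonneg ?_ (mul_nonneg (by linarith) (by linarith))
    have : 0 ≤ (3 + 3 * γ + γ ^ 2) * ((M.f : ℝ) - 1) := mul_nonneg (by positivity) (by linarith)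
    linarith
  set D := (M.f : ℝ) * ((M.f : ℝ) - 3) / ((M.f : ℝ) - 1) ^ 2 with hDdef
  have hD : 0 ≤ D := div_nonneg (mul_nonneg (by linarith) (by linarith)) (sq_nonneg _)
  have hD' : (M.f : ℝ) ^ 2 * ((M.f : ℝ) - 3) / ((M.f : ℝ) - 1) ^ 2 = M.f * D := by
    rw [hDdef]; ring
  rw [hD'] at hexc
  set m : ℝ := (M.m : ℝ)
  have hq : (Nat.card S : ℝ) = ((M.f : ℝ) + 1) * m := by
    rw [M.card_S]; push_cast; ring
  have he : (0 : ℝ) < M.e := Nat.cast_pos.2 M.e_pos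
  have hm : 0 ≤ m := Nat.cast_nonneg _
  set R₀ := ∑ χ ∈ F.rest, (C.u χ : ℝ) ^ 2
  set P := C.T / ((Nat.card S : ℝ) * M.e) with hP
  have hq0 : (0 : ℝ) < Nat.card S := Nat.cast_pos.2 Nat.card_pos
  have hP1 : P * ((Nat.card S : ℝ) * M.e) = C.T := by
    rw [hP, div_mul_cancel₀ _ (mul_pos hq0 he).ne']
  have hP2 : P ≤ ((M.f : ℝ) - 1) / ((Nat.card S : ℝ) * M.f) := by
    rw [hP, div_le_div_iff₀ (mul_pos hq0 he) (mul_pos hq0 (by linarith))]
    have hn : (Nat.card S : ℝ) ≤ C.n := by exact_mod_cast (Nat.le_succ _).trans C.n_ge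
    have := C.T_le
    nlinarith [mul_le_mul_of_nonneg_left (mul_le_mul_of_nonneg_right hn (by linarith : (0 : ℝ) ≤ M.f))
      C.T_pos.le]
  have e1 : (M.e : ℝ) / M.f * ((m - 1) * ((M.f : ℝ) ^ 3 / ((M.f : ℝ) - 1)) +
      m * M.f * -(1 / ((M.f : ℝ) - 1))) - (F.Csum : ℝ) / M.f * ((m - 1) * (M.f * D) + m * M.f * σ) =
      (Nat.card S : ℝ) * M.e - ((M.e : ℝ) * (M.f : ℝ) ^ 2 / ((M.f : ℝ) - 1) +
        F.Csum * ((m - 1) * D + m * σ)) := by
    have h1 : ((M.f : ℝ) - 1) ≠ 0 := by linarith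
    have h2 : (M.f : ℝ) ≠ 0 := by linarith
    rw [hq]
    field_simp
    ring
  rw [e1, mul_sub, hP1] at hexc
  have h1 : 1 ≤ P * ((M.e : ℝ) * (M.f : ℝ) ^ 2 / ((M.f : ℝ) - 1) +
      F.Csum * ((m - 1) * D + m * σ)) + R₀ / ((Nat.card S : ℝ) - 1) := by
    norm_num at hT
    linarith
  refine h1.trans ?_
  have hh : (0 : ℝ) < (M.f : ℝ) - 1 := by linarith
  have hf1 : (0 : ℝ) < M.f := by linarith
  have hden : (0 : ℝ) < (M.f : ℝ) ^ 2 + 2 * M.f := by positivity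
  have hA : (M.e : ℝ) * (M.f : ℝ) ^ 2 / ((M.f : ℝ) - 1) + F.Csum * ((m - 1) * D + m * σ) ≤
      (M.e : ℝ) * (M.f : ℝ) ^ 2 / ((M.f : ℝ) - 1) + F.Csum * (m * (D + σ)) := by
    gcongr
    linarith
  have hA0 : 0 ≤ (M.e : ℝ) * (M.f : ℝ) ^ 2 / ((M.f : ℝ) - 1) + F.Csum * (m * (D + σ)) := by
    positivity
  have hP0 : 0 ≤ P := div_nonneg C.T_pos.le (mul_pos hq0 he).le
  have h2 := (mul_le_mul_of_nonneg_left hA hP0).trans (mul_le_mul_of_nonneg_right hP2 hA0)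
  have e2 : ((M.f : ℝ) - 1) / ((Nat.card S : ℝ) * M.f) *
      ((M.e : ℝ) * (M.f : ℝ) ^ 2 / ((M.f : ℝ) - 1) + F.Csum * (m * (D + σ))) =
      (M.e : ℝ) * M.f / (Nat.card S : ℝ) +
        F.Csum * (((M.f : ℝ) - 1) / ((M.f : ℝ) * ((M.f : ℝ) + 1)) * (D + σ)) := by
    have hm0 : m ≠ 0 := fun h => by rw [h, mul_zero] at hq; linarith
    have : (M.f : ℝ) + 1 ≠ 0 := by linarith
    rw [hq]
    field_simp
  have h3 : (M.e : ℝ) * M.f / (Nat.card S : ℝ) ≤ (M.e : ℝ) * M.f / ((M.f : ℝ) ^ 2 + 2 * M.f) := by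
    gcongr
    nlinarith
  have h5 : R₀ / ((Nat.card S : ℝ) - 1) ≤ ((M.e : ℝ) * M.f - 1 - 2 * F.Csum -
      3 * (∑ ψ, (F.c ψ : ℝ) ^ 2) - 6 * (F.Csum : ℝ) ^ 2 / M.e) / ((M.f : ℝ) ^ 2 + 2 * M.f) :=
    div_le_div₀ (by linarith) (by linarith) hden (by nlinarith)
  have e3 : (2 * (M.e : ℝ) * M.f - 1 - 2 * F.Csum - 3 * (∑ ψ, (F.c ψ : ℝ) ^ 2) -
      6 * (F.Csum : ℝ) ^ 2 / M.e) / ((M.f : ℝ) ^ 2 + 2 * M.f) =
      (M.e : ℝ) * M.f / ((M.f : ℝ) ^ 2 + 2 * M.f) + ((M.e : ℝ) * M.f - 1 - 2 * F.Csum -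
      3 * (∑ ψ, (F.c ψ : ℝ) ^ 2) - 6 * (F.Csum : ℝ) ^ 2 / M.e) / ((M.f : ℝ) ^ 2 + 2 * M.f) := by
    rw [← add_div]; ring_nf
  linarith

theorem cX_le_Csum (hc : ∀ ψ, 0 ≤ (F.c ψ : ℝ)) (x : R.Idx) :
    (R.cX F.c x : ℝ) ≤ (F.Csum : ℝ) := by
  rw [F.cX_eq, F.Csum_eq]
  exact Finset.sum_le_sum_of_subset_of_nonneg (Finset.subset_univ _) fun ψ _ _ => hc ψ

include F in
theorem false_of (h4 : ∃ s : S, s * s ≠ 1)
    (hcond : (M.f = 7 ∧ M.e ≤ 3) ∨ (M.f = 15 ∧ M.e ≤ 3) ∨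
      (31 ≤ M.f ∧ 5 * M.e ≤ M.f ∧ M.e ^ 3 ≤ 5 * M.f)) : False := by
  classical
  have hf : 7 ≤ M.f := by omega
  have he7 : 7 * M.e ≤ 3 * M.f := by omega
  have hs := F.sgn_one (F.small h4 hf he7)
  have hc := F.c_nonneg hs
  have hC := F.Csum_nonneg hc
  have hCe := F.Csum_le h4 hc
  have hC0 : 0 ≤ F.Csum := by exact_mod_cast hC
  have he1 : (1 : ℝ) ≤ M.e := by exact_mod_cast M.e_pos
  have hcard : ∀ x, (1 : ℝ) ≤ ((R.ext' x).card : ℝ) := fun x => by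
    rw [R.card_ext', Nat.one_le_cast]
    exact Nat.pos_of_ne_zero Subgroup.index_ne_zero_of_finite
  have hΓ : ∀ x, (R.cX F.c x : ℝ) ≤ ((M.e : ℝ) - 1) * ((R.ext' x).card : ℝ) := fun x => by
    have h1 : (F.Csum : ℝ) + 1 ≤ M.e := by exact_mod_cast hCe
    nlinarith [F.cX_le_Csum hc x, mul_le_mul_of_nonneg_left (hcard x) (sub_nonneg.2 he1)]
  have hsq : (F.Csum : ℝ) ≤ ∑ ψ, (F.c ψ : ℝ) ^ 2 := by
    rw [F.Csum_eq]
    refine Finset.sum_le_sum fun ψ _ => ?_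
    have : F.c ψ ≤ F.c ψ ^ 2 := Int.le_self_sq _
    exact_mod_cast this
  have heodd := M.e_odd
  rcases hcond with ⟨hf', he⟩ | ⟨hf', he⟩ | ⟨hf', he, he3⟩
  · -- seven involutions
    have he13 : M.e = 1 ∨ M.e = 3 := by obtain ⟨k, hk⟩ := heodd; omega
    rcases he13 with he' | he'
    · have h := F.main_ineq h4 hs hc hf le_rfl (fun x => by
        have h1 := F.cX_le_Csum hc x
        have : F.Csum = 0 := by omega
        rw [this, Int.cast_zero] at h1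
        linarith) (by rw [hf']; norm_num)
      rw [show F.Csum = 0 by omega, hf', he'] at h
      norm_num at h
      linarith
    · have hb := F.budget
      have hlow := F.c_sq_lower h4 hf
      have hR0 := F.rest_sq_nonneg
      have hc1 : ∀ ψ, (F.c ψ : ℝ) ≤ 1 := by
        intro ψ
        by_contra hlt
        have h2 : (2 : ℤ) ≤ F.c ψ := by
          have h0 : (1 : ℝ) < F.c ψ := not_le.1 hlt
          have : (1 : ℤ) < F.c ψ := by exact_mod_cast h0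
          omega
        have h2' : (2 : ℝ) ≤ F.c ψ := by exact_mod_cast h2
        have h3 : (F.c ψ : ℝ) ^ 2 ≤ ∑ ψ, (F.c ψ : ℝ) ^ 2 := Finset.single_le_sum
          (f := fun ψ => (F.c ψ : ℝ) ^ 2) (fun _ _ => sq_nonneg _) (Finset.mem_univ ψ)
        have h4' : (F.c ψ : ℝ) ≤ F.Csum := by
          rw [F.Csum_eq]
          exact Finset.single_le_sum (f := fun ψ => (F.c ψ : ℝ)) (fun i _ => hc i) (Finset.mem_univ ψ)
        rw [hf', he'] at hb
        rw [he'] at hlow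
        norm_num at hb hlow
        nlinarith
      have h := F.main_ineq h4 hs hc hf zero_le_one (fun x => by
        rw [one_mul, F.cX_eq]
        exact (Finset.sum_le_card_nsmul _ _ 1 fun ψ _ => hc1 ψ).trans (le_of_eq (nsmul_one _)))
        (by rw [hf']; norm_num)
      rw [hf', he'] at h
      have hC3 : F.Csum ≤ 2 := by omega
      interval_cases hCs : F.Csum <;> norm_num at h hsq <;> linarith
  · have he13 : M.e = 1 ∨ M.e = 3 := by obtain ⟨k, hk⟩ := heodd; omega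
    have h := F.main_ineq h4 hs hc hf (sub_nonneg.2 he1) hΓ (by
      rw [hf']; rcases he13 with he' | he' <;> rw [he'] <;> norm_num)
    have hsum0 : 0 ≤ ∑ ψ, (F.c ψ : ℝ) ^ 2 := Finset.sum_nonneg fun _ _ => sq_nonneg _
    rcases he13 with he' | he' <;> rw [hf', he'] at h
    · rw [show F.Csum = 0 by omega] at h
      norm_num at h
      linarith
    · have hC3 : F.Csum ≤ 2 := by omega
      interval_cases hCs : F.Csum <;> norm_num at h <;> linarith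
  · have hfR : (31 : ℝ) ≤ M.f := by exact_mod_cast hf'
    have heR : 5 * (M.e : ℝ) ≤ M.f := by exact_mod_cast he
    have he3R : (M.e : ℝ) ^ 3 ≤ 5 * M.f := by exact_mod_cast he3
    have h := F.main_ineq h4 hs hc hf (sub_nonneg.2 he1) hΓ (by linarith)
    have hCR : (F.Csum : ℝ) ≤ (M.e : ℝ) - 1 := by
      have : (F.Csum : ℝ) + 1 ≤ M.e := by exact_mod_cast hCe
      linarith
    have hsum0 : 0 ≤ ∑ ψ, (F.c ψ : ℝ) ^ 2 := Finset.sum_nonneg fun _ _ => sq_nonneg _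
    have h6 : 0 ≤ 6 * (F.Csum : ℝ) ^ 2 / M.e := by positivity
    exact absurd h (not_le.2 (bound hfR he1 heR he3R hC hCR hsum0 h6))

end Fam

theorem no_homocyclic (C : Cols M ι)
    (hcond : (M.f = 7 ∧ M.e ≤ 3) ∨ (M.f = 15 ∧ M.e ≤ 3) ∨
      (31 ≤ M.f ∧ 5 * M.e ≤ M.f ∧ M.e ^ 3 ≤ 5 * M.f)) : ∀ s : S, s * s = 1 := by
  by_contra! h4
  obtain ⟨R, h0, h1, h2⟩ := exists_reps (M := M) h4
  obtain ⟨F⟩ := exists_fam C R h0 h1 h2
  exact F.false_of h4 hcond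

end Cfsg.Agent.AbelInv
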