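import Cfsg.Agent.Lib.Suzuki.Structure
import Cfsg.Agent.Lib.Suzuki.Minor
import Mathlib.GroupTheory.SpecificGroups.Alternating
import Mathlib.LinearAlgebra.Matrix.ProjectiveSpecialLinearGroup

/-!
Elements of order four in the other groups of the list.
-/

set_option autoImplicit false
set_option linter.style.haveILetI false

namespace Cfsg.Agent.AbelInv

universe u

/-- No element of order four. -/
def NoFour (G : Type u) [Group G] : Prop := ∀ x : G, x ^ 4 = 1 → x ^ 2 = 1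

theorem NoFour.not_equiv {G : Type u} [Group G] {H : Type*} [Group H] (h : NoFour G) (e : G ≃* H)
    {x : H} (h4 : x ^ 4 = 1) (h2 : x ^ 2 ≠ 1) : False :=
  h2 (e.symm.injective (by
    rw [map_pow, map_one]
    exact h _ (by rw [← map_pow, h4, map_one])))

theorem not_noFour_alt7 {G : Type u} [Group G] (h : NoFour G) (e : G ≃* ↥(alternatingGroup (Fin 7))) :
    False := by
  have hmem : (c[(0 : Fin 7), 1, 2, 3] * c[(4 : Fin 7), 5] : Equiv.Perm (Fin 7)) ∈ alternatingGroup (Fin 7) := by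
    rw [Equiv.Perm.mem_alternatingGroup]
    decide
  refine h.not_equiv e (x := ⟨_, hmem⟩) (Subtype.ext ?_) fun hc => ?_
  · show (c[(0 : Fin 7), 1, 2, 3] * c[(4 : Fin 7), 5] : Equiv.Perm (Fin 7)) ^ 4 = 1
    decide +kernel
  · have : (c[(0 : Fin 7), 1, 2, 3] * c[(4 : Fin 7), 5] : Equiv.Perm (Fin 7)) ^ 2 = 1 := congrArg Subtype.val hc
    clear hc
    revert this
    decide +kernel

theorem not_noFour_suzuki {G : Type u} [Group G] (h : NoFour G) (hG : Cfsg.Lie.IsoSuzuki G) : False := by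
  obtain ⟨F, iF, iFt, m, hm, hc, ⟨e⟩⟩ := hG
  have hS : Suzuki.SzField F m := ⟨hm, hc⟩
  have hsq : Suzuki.T hS (1 : F) 0 * Suzuki.T hS 1 0 = Suzuki.T hS 0 1 := by
    rw [Suzuki.T_sq, Suzuki.θ_one, mul_one]
  refine h.not_equiv (e.trans (Suzuki.minorEquiv hS).symm) (x := Suzuki.T hS (1 : F) 0) ?_ fun hc => ?_
  · rw [pow_succ, pow_succ, pow_two, hsq, mul_assoc, ← pow_two (Suzuki.T hS (1 : F) 0), pow_two (Suzuki.T hS (1 : F) 0), hsq, Suzuki.T_sq,
      mul_zero, Suzuki.T_zero]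
  · rw [pow_two, hsq] at hc
    exact one_ne_zero ((Suzuki.eq_one_iff_T hS).1 hc).2

theorem not_noFour_psl3 {G : Type u} [Group G] (h : NoFour G) {F : Type} [Field F] [Fintype F]
    (hF : Fintype.card F = 4)
    (e : G ≃* Matrix.ProjectiveSpecialLinearGroup (Fin 3) F) : False := by
  have h2 : (2 : F) = 0 := by
    have h4 : (4 : F) = 0 := by
      have := FiniteField.cast_card_eq_zero F
      rwa [hF, Nat.cast_ofNat] at this
    rw [show (4 : F) = 2 * 2 by norm_num] at h4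
    exact mul_self_eq_zero.1 h4
  let A : Matrix.SpecialLinearGroup (Fin 3) F :=
    ⟨!![1, 1, 0; 0, 1, 1; 0, 0, 1], by simp [Matrix.det_fin_three]⟩
  have hsq : ((A ^ 2 : Matrix.SpecialLinearGroup (Fin 3) F) : Matrix (Fin 3) (Fin 3) F) =
      !![1, 0, 1; 0, 1, 0; 0, 0, 1] := by
    rw [pow_two, Matrix.SpecialLinearGroup.coe_mul]
    show (!![1, 1, 0; 0, 1, 1; 0, 0, 1] : Matrix (Fin 3) (Fin 3) F) * !![1, 1, 0; 0, 1, 1; 0, 0, 1] = _
    simp [Matrix.mul_fin_three, one_add_one_eq_two, h2]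
  have h4 : A ^ 4 = 1 := by
    refine Subtype.ext ?_
    rw [show 4 = 2 * 2 from rfl, pow_mul, pow_two (A ^ 2), Matrix.SpecialLinearGroup.coe_mul, hsq,
      Matrix.SpecialLinearGroup.coe_one, Matrix.mul_fin_three, Matrix.one_fin_three]
    simp [one_add_one_eq_two, h2]
  refine h.not_equiv e (x := (QuotientGroup.mk A : Matrix.ProjectiveSpecialLinearGroup (Fin 3) F)) ?_
    fun hc => ?_
  · rw [← QuotientGroup.mk_pow, h4]
    rfl
  · rw [← QuotientGroup.mk_pow, QuotientGroup.eq_one_iff,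
      Matrix.SpecialLinearGroup.mem_center_iff] at hc
    obtain ⟨r, -, hr⟩ := hc
    have h02 := congrArg (fun M : Matrix (Fin 3) (Fin 3) F => M 0 2) hr
    simp [hsq] at h02

end Cfsg.Agent.AbelInv
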