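import Cfsg.Agent.Lib.AbelInv.ElemOne
import Cfsg.Agent.Lib.AbelInv.ElemFinal
import Cfsg.Agent.Lib.AbelInv.Homocyclic
import Cfsg.Agent.Lib.CenNilp.Basic
import Cfsg.Agent.Lib.AbelInv.Order4

/-!
A simple group with an abelian Sylow 2-subgroup of rank at least three and solvable centralisers of
involutions: the centralisers have normal 2-complements.
-/

set_option autoImplicit false
set_option linter.unusedSectionVars false
set_option linter.style.haveILetI false

namespace Cfsg.Agent.AbelInv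

open Subgroup

universe u

theorem five_le_two_pow {r : ℕ} (hr : 5 ≤ r) : 5 * r + 1 ≤ 2 ^ r ∧ r ^ 3 + 5 ≤ 5 * 2 ^ r := by
  induction r, hr using Nat.le_induction with
  | base => norm_num
  | succ n hn ih =>
    obtain ⟨h1, h2⟩ := ih
    refine ⟨by rw [pow_succ]; omega, ?_⟩
    have h3 : 3 * n ^ 2 + 3 * n + 1 ≤ n ^ 3 + 5 := by nlinarith [Nat.mul_le_mul hn (le_refl n)]
    rw [pow_succ 2 n]
    nlinarith

variable {G S K : Type u} [Group G] [Fintype G] [CommGroup S] [Group K] [MulDistribMulAction K S]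
  [Fintype S] [Fintype K]

/-- A trivial stabiliser: the centraliser of an involution has a normal 2-complement. -/
theorem npc_tG (Mo : Model G S K) (M : Hyp S K) (he : M.e = 1) :
    Cfsg.HasNormalPComplement 2 ↥(centralizer ({Mo.tG M} : Set G)) := by
  classical
  haveI : Fact (Nat.Prime 2) := ⟨Nat.prime_two⟩
  set C := centralizer ({Mo.tG M} : Set G) with hC
  have hCH : C ≤ Mo.H := Mo.centralizer_le (Mo.tG_mem M) ⟨1, by rw [Mo.orderOf_tG M, pow_one]⟩
    fun h => by simpa [h] using Mo.orderOf_tG M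
  have hPC : (Mo.P : Subgroup G) ≤ C := fun x hx => by
    obtain ⟨s, hs⟩ := Mo.emb.surjective ⟨x, hx⟩
    rw [hC, mem_centralizer_singleton_iff, show x = (Mo.emb s : G) from (congrArg Subtype.val hs).symm,
      show Mo.tG M = (Mo.emb M.t : G) from rfl, ← Subgroup.coe_mul, ← Subgroup.coe_mul, ← map_mul,
      ← map_mul, mul_comm]
  refine ⟨Mo.P.subtype hPC, Mo.W.subgroupOf C, Mo.W_normal_in hCH, ?_⟩
  refine isComplement'_of_disjoint_and_mul_eq_univ ?_ ?_
  · rw [disjoint_iff, eq_bot_iff]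
    rintro x ⟨hxW, hxP⟩
    refine Subtype.ext ?_
    exact CenNilp.eq_one_of_two_odd Mo.P.2 Mo.W_odd (y := (x : G)) hxP hxW
  · refine Set.eq_univ_of_forall fun x => ?_
    have hxH : (x : G) ∈ Mo.H := hCH x.2
    have hcomm : Mo.pr (x : G) * SemidirectProduct.inl M.t = SemidirectProduct.inl M.t * Mo.pr (x : G) := by
      rw [← Mo.pr_emb M.t, ← Mo.pr_mul hxH (Mo.emb_mem _), ← Mo.pr_mul (Mo.emb_mem _) hxH]
      exact congrArg Mo.pr (mem_centralizer_singleton_iff.1 x.2)
    set a := Mo.pr (x : G) with ha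
    have hfix : a.right • M.t = M.t := by
      have h1 := congrArg SemidirectProduct.left hcomm
      simp only [SemidirectProduct.mul_left, SemidirectProduct.left_inl, SemidirectProduct.right_inl,
        map_one, MulAut.one_apply] at h1
      rw [mul_comm M.t] at h1
      exact mul_left_cancel h1
    have hr1 : a.right = 1 := by
      have hb : MulAction.stabilizer K M.t = ⊥ := Subgroup.card_eq_one.1 he
      exact mem_bot.1 (hb.le (MulAction.mem_stabilizer_iff.2 hfix))
    have ha' : a = SemidirectProduct.inl a.left := by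
      conv_lhs => rw [← SemidirectProduct.inl_left_mul_inr_right a, hr1, map_one, mul_one]
    have hw : (x : G) * (Mo.emb a.left : G)⁻¹ ∈ Mo.W := by
      refine (Mo.pr_eq_one (mul_mem hxH (inv_mem (Mo.emb_mem _)))).1 ?_
      rw [Mo.pr_mul hxH (inv_mem (Mo.emb_mem _)), Mo.pr_inv (Mo.emb_mem _), Mo.pr_emb, ← ha, ← ha',
        mul_inv_cancel]
    refine ⟨⟨(x : G) * (Mo.emb a.left : G)⁻¹, mul_mem x.2 (inv_mem (hPC (Mo.emb a.left).2))⟩, hw,
      ⟨(Mo.emb a.left : G), hPC (Mo.emb a.left).2⟩, (Mo.emb a.left).2, Subtype.ext ?_⟩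
    show (x : G) * (Mo.emb a.left : G)⁻¹ * (Mo.emb a.left : G) = x
    rw [inv_mul_cancel_right]

/-- The stabiliser of an involution is trivial and the 2-group is elementary. -/
theorem stab_trivial [IsSimpleGroup G] (Mo : Model G S K) (M : Hyp S K)
    (hfaith : ∀ k : K, (∀ s : S, k • s = s) → k = 1) {r : ℕ} (hr : 3 ≤ r)
    (hcard : Nat.card {z : S // z * z = 1} = 2 ^ r) : M.e = 1 ∧ ∀ s : S, s * s = 1 := by
  classical
  have hSh : Shape S K M.t r := shape M.two M.odd hfaith M.t_sq M.t_ne M.trans hr hcard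
  have hf : M.f = 2 ^ r - 1 := by
    have h1 : (Hyp.invols (S := S)) = (Finset.univ.filter fun z : S => z * z = 1).erase 1 := by
      ext z
      simp only [Hyp.mem_invols, Finset.mem_erase, Finset.mem_filter, Finset.mem_univ, true_and]
      tauto
    rw [Hyp.f, h1, Finset.card_erase_of_mem (by simp), ← hcard, Nat.card_eq_fintype_card,
      Fintype.card_subtype]
  have hde : M.e ∣ r := hSh.dvd
  have her : M.e ≤ r := Nat.le_of_dvd (by omega) hde
  obtain ⟨j, hj⟩ := M.e_odd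
  have h8 : 8 ≤ 2 ^ r := Nat.pow_le_pow_right (n := 2) (by norm_num) hr
  have hf2 : 2 ≤ M.f := by omega
  let C := Mo.cols M hfaith hf2
  have hE : ∀ s : S, s * s = 1 := by
    refine no_homocyclic C ?_
    rcases (show r = 3 ∨ r = 4 ∨ 5 ≤ r by omega) with rfl | rfl | h5
    · exact Or.inl ⟨by rw [hf]; rfl, her⟩
    · refine Or.inr (Or.inl ⟨by rw [hf]; rfl, ?_⟩)
      obtain ⟨i, hi⟩ := hde
      by_contra hcon
      push Not at hcon
      omega
    · obtain ⟨h1, h2⟩ := five_le_two_pow h5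
      have h3 : M.e ^ 3 ≤ r ^ 3 := Nat.pow_le_pow_left her 3
      refine Or.inr (Or.inr ⟨?_, ?_, ?_⟩)
      · have : 32 ≤ 2 ^ r := Nat.pow_le_pow_right (n := 2) (by norm_num) h5
        omega
      · omega
      · omega
  refine ⟨?_, hE⟩
  by_contra hne
  have he3 : 3 ≤ M.e := by omega
  by_cases hW : Mo.W = ⊥
  · obtain ⟨l, L, hl, hrl, hlf, hLn, hLc, hLp, hLi, hfree, hcent⟩ := hSh.torus
    have hq : Nat.card S = 2 ^ r := by
      rw [← hcard, Nat.card_congr (Equiv.subtypeUnivEquiv hE)]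
    have hLne : L ≠ ⊥ := by
      intro h
      refine hLi ?_
      rw [h, Subgroup.index_bot, M.card_K, hf]
      exact hlf.mul_right _
    have hlq : ¬ l ∣ Nat.card S * M.e := by
      rw [hq]
      intro h
      rcases hl.dvd_mul.1 h with h' | h'
      · have := (Nat.prime_dvd_prime_iff_eq hl Nat.prime_two).1 (hl.dvd_of_dvd_pow h')
        omega
      · have := Nat.le_of_dvd (by omega) h'
        omega
    have O : OneHyp Mo M L l := ⟨hW, hE, hl, hlq, by omega, he3, hLn, hLc, hLp, hLi, hLne⟩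
    refine O.false ?_
    obtain ⟨b, hb, hb1⟩ := (Subgroup.bot_or_exists_ne_one L).resolve_left hLne
    obtain ⟨x, hx, hx1⟩ := (Subgroup.bot_or_exists_ne_one (MulAction.stabilizer K M.t)).resolve_left
      fun h => hne (Subgroup.card_eq_one.2 h)
    exact ⟨x, b, hb, fun h => hb1 (hcent x hx hx1 b hb h)⟩
  · exact Degs.false (Mo.degs M hfaith hf2 hE hW) hSh hE hr he3

omit [Fintype G] [Fintype S] [Fintype K] in
/-- The centralisers have normal 2-complements and the Sylow 2-subgroups are elementary abelian. -/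
theorem cenTwoNilp [Finite G] [IsSimpleGroup G] (hG : ¬ IsMulCommutative G) (P : Sylow 2 G)
    (hP : IsMulCommutative (P : Subgroup G)) (h3 : ¬ Cfsg.PRankLE 2 2 (P : Subgroup G))
    (hsol : ∀ t : G, orderOf t = 2 → Group.IsSolvable ↥(centralizer ({t} : Set G))) :
    CenNilp.CenTwoNilp G ∧ NoFour G := by
  classical
  haveI : Fact (Nat.Prime 2) := ⟨Nat.prime_two⟩
  haveI := Fintype.ofFinite G
  obtain ⟨K, iK, iF, iA, hodd, hfaith, htrans, ⟨Mo⟩⟩ := exists_model hG P hP h3 hsol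
  letI := commOf (P : Subgroup G) hP
  haveI := Fintype.ofFinite K
  let E : Subgroup (P : Subgroup G) := (powMonoidHom 2 : (P : Subgroup G) →* (P : Subgroup G)).ker
  have hE : ∀ z : (P : Subgroup G), z ∈ E ↔ z * z = 1 := fun z => by
    rw [MonoidHom.mem_ker, powMonoidHom_apply, pow_two]
  obtain ⟨r, hr⟩ := IsPGroup.iff_card.1 (P.2.to_subgroup E)
  simp only [Cfsg.PRankLE, not_forall, not_le] at h3
  obtain ⟨A, -, hA2, hA⟩ := h3
  have h4 : 2 ^ 2 < 2 ^ r := by
    rw [← hr]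
    exact lt_of_lt_of_le hA (Subgroup.card_le_of_le fun a ha => (hE a).2 (by rw [← pow_two]; exact hA2 a ha))
  have hr3 : 3 ≤ r := (Nat.pow_lt_pow_iff_right (by norm_num)).1 h4
  obtain ⟨t, ht, ht1⟩ := (Subgroup.bot_or_exists_ne_one E).resolve_left fun h => by
    rw [h, Subgroup.card_bot] at hr
    omega
  rw [hE] at ht
  have hcard : Nat.card {z : (P : Subgroup G) // z * z = 1} = 2 ^ r :=
    (Nat.card_congr (Equiv.subtypeEquivRight fun z => (hE z).symm)).trans hr
  have htr : ∀ z : (P : Subgroup G), z * z = 1 → z ≠ 1 → ∃ k : K, k • t = z :=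
    fun z hz hz1 => htrans t z ht ht1 hz hz1
  have hSh := shape P.2 hodd hfaith ht ht1 htr hr3 hcard
  obtain ⟨g, hg⟩ := hSh.cyclic.exists_generator
  let M : Hyp (P : Subgroup G) K := ⟨t, ht, ht1, P.2, hodd, htr, fun a b => by
    obtain ⟨i, rfl⟩ := mem_zpowers_iff.1 (hg a)
    obtain ⟨j, rfl⟩ := mem_zpowers_iff.1 (hg b)
    exact zpow_mul_comm g i j⟩
  obtain ⟨he, hsq⟩ := stab_trivial Mo M hfaith hr3 hcard
  refine ⟨fun u hu => ?_, fun x hx => ?_⟩
  swap
  · have h2 : IsPGroup 2 (zpowers x) := by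
      rintro ⟨y, hy⟩
      obtain ⟨i, rfl⟩ := mem_zpowers_iff.1 hy
      refine ⟨2, Subtype.ext ?_⟩
      rw [Subgroup.coe_pow, OneMemClass.coe_one, ← zpow_natCast, zpow_comm, show ((2 ^ 2 : ℕ) : ℤ) = ((4 : ℕ) : ℤ) from rfl,
        zpow_natCast, hx, one_zpow]
    obtain ⟨Q, hQ⟩ := h2.exists_le_sylow
    obtain ⟨g, hg⟩ := MulAction.exists_smul_eq G Q P
    have hmem : g * x * g⁻¹ ∈ (P : Subgroup G) := by
      rw [← hg, Sylow.coe_subgroup_smul]
      exact ⟨x, hQ (mem_zpowers x), rfl⟩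
    have h3 : g * x * g⁻¹ * (g * x * g⁻¹) = 1 := congrArg Subtype.val (hsq ⟨_, hmem⟩)
    rw [← pow_two, conj_pow, conj_eq_one_iff] at h3
    exact h3
  obtain ⟨c, hc⟩ := isConj_iff.1 ((Mo.isConj_tG M).2 hu)
  refine (PBasic.hasNormalPComplement_congr ?_).1 (npc_tG Mo M he)
  refine ((MulAut.conj c).subgroupMap _).trans (MulEquiv.subgroupCongr ?_)
  ext x
  rw [mem_map, mem_centralizer_singleton_iff, ← hc]
  constructor
  · rintro ⟨y, hy, rfl⟩
    rw [mem_centralizer_singleton_iff] at hy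
    show c * y * c⁻¹ * (c * Mo.tG M * c⁻¹) = c * Mo.tG M * c⁻¹ * (c * y * c⁻¹)
    calc c * y * c⁻¹ * (c * Mo.tG M * c⁻¹) = c * (y * Mo.tG M) * c⁻¹ := by group
      _ = c * (Mo.tG M * y) * c⁻¹ := by rw [hy]
      _ = _ := by group
  · intro hx
    refine ⟨c⁻¹ * x * c, mem_centralizer_singleton_iff.2 ?_, ?_⟩
    · calc c⁻¹ * x * c * Mo.tG M = c⁻¹ * (x * (c * Mo.tG M * c⁻¹)) * c := by group
        _ = c⁻¹ * (c * Mo.tG M * c⁻¹ * x) * c := by rw [hx]
        _ = _ := by group
    · show c * (c⁻¹ * x * c) * c⁻¹ = x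
      group

end Cfsg.Agent.AbelInv
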