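import Cfsg.Agent.Lib.AbelInv.TXCols
import Mathlib.Tactic.IntervalCases
import Mathlib.Tactic.Positivity

/-!
An elementary 2-group: the stabiliser of an involution is trivial when the core is not.
-/

set_option autoImplicit false
set_option linter.unusedSectionVars false
set_option linter.style.haveILetI false

namespace Cfsg.Agent.AbelInv

open Cfsg Cfsg.Agent.Char

universe u v

variable {S K : Type u} [CommGroup S] [Group K] [MulDistribMulAction K S] [Fintype S] [Fintype K]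
  {M : Hyp S K} {ι : Type v} [Fintype ι]

/-- The facts about the degrees. -/
structure Degs (C : Cols M ι) : Prop where
  deg : ∀ χ, χ ≠ C.one → C.u χ ≠ 0 → ∃ k : ℤ, 1 ≤ k ∧ (C.u χ < 0 → 1 - C.u χ ≤ k) ∧
    C.d χ = (C.u χ : ℝ) + (Nat.card S : ℝ) * k
  n_big : 3 * Nat.card S + 1 ≤ C.n

/-- The bound of the class product. -/
noncomputable def Tm (r e : ℕ) : ℝ :=
  ((2 : ℝ) ^ r - 2) * 2 ^ r * e / ((3 * (2 : ℝ) ^ r + 1) * ((2 : ℝ) ^ r - 1))

namespace Degs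

variable {C : Cols M ι} (D : Degs C) {r : ℕ} (hSh : Shape S K M.t r) (hE : ∀ s : S, s * s = 1)

theorem card_S (M : Hyp S K) {r : ℕ} (hSh : Shape S K M.t r) (hE : ∀ s : S, s * s = 1) :
    Nat.card S = 2 ^ r := by
  rw [← hSh.card_invols, Nat.card_congr (Equiv.subtypeUnivEquiv hE)]

theorem f_eq (M : Hyp S K) {r : ℕ} (hSh : Shape S K M.t r) (hE : ∀ s : S, s * s = 1) :
    (M.f : ℝ) = (2 : ℝ) ^ r - 1 := by
  classical
  have h : M.f + 1 = Nat.card S := by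
    rw [Hyp.f, Nat.card_eq_fintype_card, ← Finset.card_univ,
      ← Finset.card_erase_add_one (Finset.mem_univ (1 : S))]
    congr 1
    refine congrArg Finset.card ?_
    ext z
    simp [Hyp.mem_invols, hE z]
  rw [card_S M hSh hE] at h
  have h' : (M.f : ℝ) + 1 = (2 : ℝ) ^ r := by exact_mod_cast h
  linarith

include D hSh hE in
/-- The test with given weights. -/
theorem false_of_weights (hr : 3 ≤ r) {a lam mu : ℝ} (hlam : 0 ≤ lam) (ha : 0 ≤ a)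
    (htot : a * ((Rc r M.e : ℝ) - ((M.e : ℝ) - 1) ^ 2) + mu * ((2 : ℝ) ^ r * M.e - 1) +
      lam * (Tm r M.e - 1) < (M.e : ℝ) - 1)
    (hper : ∀ χ, χ ≠ C.one → C.u χ ≠ 0 → |(C.y χ : ℝ)| * (C.u χ : ℝ) ^ 2 / C.d χ ≤
      a * (C.y χ : ℝ) ^ 2 + mu * (C.u χ : ℝ) ^ 2 + lam * ((C.u χ : ℝ) ^ 3 / C.d χ)) : False := by
  classical
  have hq : (Nat.card S : ℝ) = (2 : ℝ) ^ r := by exact_mod_cast card_S M hSh hE
  have hf := f_eq M hSh hE
  have h8 : (8 : ℝ) ≤ 2 ^ r := by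
    calc (8 : ℝ) = 2 ^ 3 := by norm_num
      _ ≤ 2 ^ r := pow_le_pow_right₀ one_le_two hr
  have hn : 3 * (2 : ℝ) ^ r + 1 ≤ C.n := by
    rw [← hq]
    exact_mod_cast D.n_big
  have hT : C.T ≤ Tm r M.e := by
    rw [Tm, le_div_iff₀ (by nlinarith)]
    have h := C.T_le
    rw [hq, hf] at h
    nlinarith [mul_le_mul_of_nonneg_left hn
      (mul_nonneg C.T_pos.le (show (0 : ℝ) ≤ 2 ^ r - 1 by linarith))]
  have hu2 : ∑ χ ∈ Finset.univ.erase C.one, (C.u χ : ℝ) ^ 2 = (2 : ℝ) ^ r * M.e - 1 := by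
    rw [Finset.sum_erase_eq_sub (Finset.mem_univ _), C.sum_u_sq, C.u_one, hq]
    norm_num
  have hu3 : ∑ χ ∈ Finset.univ.erase C.one, (C.u χ : ℝ) ^ 3 / C.d χ = C.T - 1 := by
    rw [Finset.sum_erase_eq_sub (Finset.mem_univ _), ← C.T_eq, C.u_one, C.d_one]
    norm_num
  have hterm : ∀ χ ∈ Finset.univ.erase C.one, -((C.u χ : ℝ) ^ 2 * (C.y χ : ℝ) / C.d χ) ≤
      a * (C.y χ : ℝ) ^ 2 + mu * (C.u χ : ℝ) ^ 2 + lam * ((C.u χ : ℝ) ^ 3 / C.d χ) := by
    intro χ hχ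
    by_cases h0 : C.u χ = 0
    · rw [h0]
      simp
      positivity
    refine le_trans ?_ (hper χ (Finset.ne_of_mem_erase hχ) h0)
    rw [← neg_div, div_le_div_iff_of_pos_right (C.d_pos χ), ← mul_neg, mul_comm]
    exact mul_le_mul_of_nonneg_right (neg_le_abs _) (sq_nonneg _)
  have h := Finset.sum_le_sum hterm
  rw [Finset.sum_neg_distrib, C.sum_u_y, Finset.sum_add_distrib, Finset.sum_add_distrib,
    ← Finset.mul_sum, ← Finset.mul_sum, ← Finset.mul_sum, C.sum_y_sq hSh hE, hu2, hu3, neg_neg] at h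
  have := mul_le_mul_of_nonneg_left hT hlam
  linarith

include D hSh hE in
theorem neg_bound {χ : ι} (hne : χ ≠ C.one) (h : C.u χ < 0) :
    (2 : ℝ) ^ r + ((2 : ℝ) ^ r - 1) * -(C.u χ : ℝ) ≤ C.d χ := by
  obtain ⟨k, -, hk, hd⟩ := D.deg χ hne (ne_of_lt h)
  have hk' : 1 - (C.u χ : ℝ) ≤ (k : ℝ) := by exact_mod_cast hk h
  have hq : (Nat.card S : ℝ) = (2 : ℝ) ^ r := by exact_mod_cast card_S M hSh hE
  rw [hd, hq]
  have := mul_le_mul_of_nonneg_left hk' (pow_nonneg zero_le_two r : (0 : ℝ) ≤ 2 ^ r)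
  linarith

include D hSh hE in
theorem cube_le (hr : 3 ≤ r) {β : ℝ} (hβ : ∀ χ, χ ≠ C.one → C.u χ < 0 → -(C.u χ : ℝ) ≤ β * C.d χ)
    (hβ0 : 0 ≤ β) {χ : ι} (hne : χ ≠ C.one) (h : 0 < C.u χ) :
    (C.u χ : ℝ) ^ 3 / C.d χ ≤ Tm r M.e - 1 + β * ((2 : ℝ) ^ r * M.e - 1) := by
  classical
  have hq : (Nat.card S : ℝ) = (2 : ℝ) ^ r := by exact_mod_cast card_S M hSh hE
  have hf := f_eq M hSh hE
  have h8 : (8 : ℝ) ≤ 2 ^ r := by
    calc (8 : ℝ) = 2 ^ 3 := by norm_num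
      _ ≤ 2 ^ r := pow_le_pow_right₀ one_le_two hr
  have hn : 3 * (2 : ℝ) ^ r + 1 ≤ C.n := by
    rw [← hq]
    exact_mod_cast D.n_big
  have hT : C.T ≤ Tm r M.e := by
    rw [Tm, le_div_iff₀ (by nlinarith)]
    have h := C.T_le
    rw [hq, hf] at h
    nlinarith [mul_le_mul_of_nonneg_left hn
      (mul_nonneg C.T_pos.le (show (0 : ℝ) ≤ 2 ^ r - 1 by linarith))]
  have hsum : ∀ ψ ∈ Finset.univ.erase C.one, (0 : ℝ) ≤ (C.u ψ : ℝ) ^ 3 / C.d ψ + β * (C.u ψ : ℝ) ^ 2 := by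
    intro ψ hψ
    rcases lt_or_ge (C.u ψ) 0 with h0 | h0
    · have h1 := hβ ψ (Finset.ne_of_mem_erase hψ) h0
      rw [div_add' _ _ _ (C.d_pos ψ).ne']
      refine div_nonneg ?_ (C.d_pos ψ).le
      have := mul_le_mul_of_nonneg_left h1 (sq_nonneg (C.u ψ : ℝ))
      linarith
    · have : (0 : ℝ) ≤ (C.u ψ : ℝ) := by exact_mod_cast h0
      exact add_nonneg (div_nonneg (pow_nonneg this 3) (C.d_pos ψ).le) (mul_nonneg hβ0 (sq_nonneg _))
  have h1 := Finset.single_le_sum hsum (Finset.mem_erase.2 ⟨hne, Finset.mem_univ χ⟩)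
  rw [Finset.sum_add_distrib, ← Finset.mul_sum, Finset.sum_erase_eq_sub (Finset.mem_univ _), ← C.T_eq,
    Finset.sum_erase_eq_sub (Finset.mem_univ _), C.sum_u_sq, C.u_one, C.d_one, hq] at h1
  norm_num at h1
  have : 0 ≤ β * (C.u χ : ℝ) ^ 2 := mul_nonneg hβ0 (sq_nonneg _)
  linarith

include D hSh hE in
/-- The crude test. -/
theorem false_crude (hr : 3 ≤ r) {ρ : ℝ} (hρ : 1 / ((2 : ℝ) ^ r - 1) ≤ ρ) (hρ1 : ρ < 1)
    (hR : 0 < (Rc r M.e : ℝ) - ((M.e : ℝ) - 1) ^ 2) (he : 3 ≤ M.e)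
    (h1 : (ρ * (((2 : ℝ) ^ r * M.e - 1) / ((2 : ℝ) ^ r - 1) + (Tm r M.e - 1)) -
      (Tm r M.e - 1) / ((2 : ℝ) ^ r - 1)) * ((Rc r M.e : ℝ) - ((M.e : ℝ) - 1) ^ 2) < ((M.e : ℝ) - 1) ^ 2)
    (h2 : (Tm r M.e - 1 + ((2 : ℝ) ^ r * M.e - 1) / ((2 : ℝ) ^ r - 1)) * (1 - ρ) ^ 2 ≤
      ρ ^ 3 * ((2 : ℝ) ^ r) ^ 2) : False := by
  have h8 : (8 : ℝ) ≤ 2 ^ r := by
    calc (8 : ℝ) = 2 ^ 3 := by norm_num
      _ ≤ 2 ^ r := pow_le_pow_right₀ one_le_two hr
  set q : ℝ := (2 : ℝ) ^ r with hqdef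
  set R : ℝ := (Rc r M.e : ℝ) - ((M.e : ℝ) - 1) ^ 2 with hRdef
  set β : ℝ := 1 / (q - 1) with hβdef
  have hβ0 : 0 < β := by rw [hβdef]; exact one_div_pos.2 (by linarith)
  have he' : (3 : ℝ) ≤ M.e := by exact_mod_cast he
  set a : ℝ := ((M.e : ℝ) - 1) / (2 * R) with hadef
  have ha : 0 < a := div_pos (by linarith) (by linarith)
  have hβd : ∀ χ, χ ≠ C.one → C.u χ < 0 → -(C.u χ : ℝ) ≤ β * C.d χ := by
    intro χ hne h
    have h' := D.neg_bound hSh hE hne h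
    rw [hβdef, div_mul_eq_mul_div, one_mul, le_div_iff₀ (by linarith)]
    rw [← hqdef] at h'
    linarith
  refine D.false_of_weights hSh hE hr (a := a) (lam := (ρ - β) / (4 * a)) (mu := ρ * β / (4 * a))
    (div_nonneg (by linarith) (by linarith)) ha.le ?_ ?_
  · have e1 : a * R + ρ * β / (4 * a) * (q * M.e - 1) + (ρ - β) / (4 * a) * (Tm r M.e - 1) =
        ((M.e : ℝ) - 1) / 2 + (ρ * ((q * M.e - 1) / (q - 1) + (Tm r M.e - 1)) -
          (Tm r M.e - 1) / (q - 1)) * R / (2 * ((M.e : ℝ) - 1)) := by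
      have : (M.e : ℝ) - 1 ≠ 0 := by linarith
      have : q - 1 ≠ 0 := by linarith
      rw [hadef, hβdef]
      field_simp
      ring
    rw [e1]
    have e2 : (ρ * ((q * M.e - 1) / (q - 1) + (Tm r M.e - 1)) - (Tm r M.e - 1) / (q - 1)) * R /
        (2 * ((M.e : ℝ) - 1)) < ((M.e : ℝ) - 1) / 2 := by
      rw [div_lt_iff₀ (by linarith)]
      calc _ < ((M.e : ℝ) - 1) ^ 2 := h1
        _ = _ := by ring
    linarith
  · intro χ hne hu0
    have hd := C.d_pos χ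
    set u : ℝ := (C.u χ : ℝ) with hudef
    set x : ℝ := u / C.d χ with hxdef
    have hx : x * C.d χ = u := div_mul_cancel₀ _ hd.ne'
    have hlow : -β ≤ x := by
      rcases lt_or_ge (C.u χ) 0 with h | h
      · rw [hxdef, le_div_iff₀ hd]
        have := hβd χ hne h
        linarith
      · have : 0 ≤ x := div_nonneg (by rw [hudef]; exact_mod_cast h) hd.le
        linarith
    have hup : x ≤ ρ := by
      by_contra hlt
      push Not at hlt
      have hxpos : 0 < x := lt_of_le_of_lt (le_trans hβ0.le hρ) hlt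
      have hupos : 0 < u := by rw [← hx]; exact mul_pos hxpos hd
      have hui : 0 < C.u χ := by rw [hudef] at hupos; exact_mod_cast hupos
      obtain ⟨k, hk1, -, hdk⟩ := D.deg χ hne hu0
      have hq : (Nat.card S : ℝ) = q := by rw [hqdef]; exact_mod_cast card_S M hSh hE
      have hk1' : (1 : ℝ) ≤ k := by exact_mod_cast hk1
      rw [hq] at hdk
      have h3 := D.cube_le hSh hE hr hβd hβ0.le hne hui
      rw [← hqdef, ← hudef, hβdef, one_div_mul_eq_div] at h3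
      set P : ℝ := Tm r M.e - 1 + (q * M.e - 1) / (q - 1) with hPdef
      have h4 : u ^ 3 / C.d χ = u ^ 2 * x := by rw [hxdef]; ring
      rw [h4] at h3
      have hq0 : (0 : ℝ) < q := by linarith
      have hρ0 : 0 < ρ := lt_of_lt_of_le hβ0 hρ
      have h5 : q * ρ ≤ u * (1 - ρ) := by
        have hqd : u + q ≤ C.d χ := by
          rw [hdk, ← hudef]
          have := mul_le_mul_of_nonneg_left hk1' hq0.le
          linarith
        have h6 : ρ * C.d χ ≤ u := by rw [← hx]; exact mul_le_mul_of_nonneg_right hlt.le hd.le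
        have h7 := mul_le_mul_of_nonneg_left hqd hρ0.le
        linarith
      have h8' : ρ ^ 3 * q ^ 2 ≤ ρ * (u * (1 - ρ)) ^ 2 := by
        have := pow_le_pow_left₀ (mul_nonneg hq0.le hρ0.le) h5 2
        calc ρ ^ 3 * q ^ 2 = ρ * (q * ρ) ^ 2 := by ring
          _ ≤ _ := mul_le_mul_of_nonneg_left this hρ0.le
      have h9 : ρ * (u * (1 - ρ)) ^ 2 < P * (1 - ρ) ^ 2 := by
        calc ρ * (u * (1 - ρ)) ^ 2 = ρ * u ^ 2 * (1 - ρ) ^ 2 := by ring
          _ < x * u ^ 2 * (1 - ρ) ^ 2 := by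
            refine mul_lt_mul_of_pos_right (mul_lt_mul_of_pos_right hlt (by positivity)) ?_
            have : 0 < 1 - ρ := by linarith
            positivity
          _ ≤ P * (1 - ρ) ^ 2 := mul_le_mul_of_nonneg_right (by linarith) (sq_nonneg _)
      linarith
    have key : x ^ 2 ≤ (ρ - β) * x + ρ * β := by
      nlinarith [mul_nonneg (sub_nonneg.2 hup) (sub_nonneg.2 hlow)]
    set y : ℝ := |(C.y χ : ℝ)| with hydef
    have hy2 : (C.y χ : ℝ) ^ 2 = y ^ 2 := (sq_abs _).symm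
    rw [hy2, show y * u ^ 2 / C.d χ = y * (u * x) by rw [hxdef]; ring,
      show u ^ 3 / C.d χ = u ^ 2 * x by rw [hxdef]; ring]
    have h4a : (0 : ℝ) < 4 * a := by linarith
    have : y * (u * x) ≤ a * y ^ 2 + (u * x) ^ 2 / (4 * a) := by
      rw [← sub_nonneg, show a * y ^ 2 + (u * x) ^ 2 / (4 * a) - y * (u * x) =
        (2 * a * y - u * x) ^ 2 / (4 * a) by field_simp; ring]
      positivity
    refine this.trans ?_
    rw [show a * y ^ 2 + ρ * β / (4 * a) * u ^ 2 + (ρ - β) / (4 * a) * (u ^ 2 * x) =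
      a * y ^ 2 + u ^ 2 * ((ρ - β) * x + ρ * β) / (4 * a) by ring, mul_pow]
    gcongr

end Degs

end Cfsg.Agent.AbelInv
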