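import Cfsg.Agent.Lib.AbelInv.Columns
import Cfsg.Agent.Lib.AbelInv.ElemBig
import Cfsg.Agent.Lib.Blocks.ExceptionalInvolution

/-!
The degrees of the characters in the case of an elementary 2-group.
-/

set_option autoImplicit false
set_option linter.unusedSectionVars false
set_option linter.style.haveILetI false

namespace Cfsg.Agent.AbelInv

open Cfsg Cfsg.Agent.Char Cfsg.Agent.Blocks
open scoped ComplexConjugate

universe u

/-- A character of an abelian group with one value off the identity. -/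
theorem exists_mult {S : Type u} [CommGroup S] [Fintype S] {f : S → ℂ} (hf : Cfsg.IsCharacter S f)
    {s₀ : S} (hs₀ : s₀ ≠ 1) {u : ℂ} (hu : ∀ s : S, s ≠ 1 → f s = u) :
    ∃ k : ℕ, f 1 = u + (Nat.card S : ℂ) * k := by
  classical
  obtain ⟨l, hl⟩ := CommGroup.exists_apply_ne_one_of_hasEnoughRootsOfUnity S ℂ hs₀
  obtain ⟨k, hk⟩ := IsCharacter.exists_classInner_nat hf
    (IsIrrCharacter.isCharacter (isIrrCharacter_linear l))
  refine ⟨k, ?_⟩
  rw [classInner, ← Finset.add_sum_erase _ _ (Finset.mem_univ (1 : S)), map_one, Units.val_one, map_one,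
    mul_one, Finset.sum_congr rfl fun s hs => by rw [hu s (Finset.ne_of_mem_erase hs)],
    ← Finset.mul_sum, Finset.sum_erase_eq_sub (Finset.mem_univ _)] at hk
  have h0 : ∑ s : S, conj (l s : ℂ) = 0 := by
    rw [← map_sum, hom_sum, if_neg (fun h => hl (by rw [h]; rfl)), map_zero]
  rw [h0, map_one, Units.val_one, map_one] at hk
  have hq : (Nat.card S : ℂ) ≠ 0 := Nat.cast_ne_zero.2 Nat.card_pos.ne'
  rw [← hk, mul_inv_cancel_left₀ hq]
  ring

variable {G S K : Type u} [Group G] [Fintype G] [CommGroup S] [Group K] [MulDistribMulAction K S]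
  [Fintype S] [Fintype K] (Mo : Model G S K) (M : Hyp S K)

namespace Model

theorem value_emb (hE : ∀ s : S, s * s = 1) (χ : IrrCharacter G) {s : S} (hs : s ≠ 1) :
    (χ : G → ℂ) (Mo.emb s : G) = (χ : G → ℂ) (Mo.tG M) := by
  have h2 : orderOf (Mo.emb s : G) = 2 := by
    rw [Subgroup.orderOf_coe, MulEquiv.orderOf_eq, orderOf_eq_prime (by rw [pow_two, hE]) hs]
  obtain ⟨c, hc⟩ := isConj_iff.1 ((Mo.isConj_tG M).2 h2)
  rw [← hc]
  exact IsCharacter.isClassFunction (irr_isCharacter χ) _ c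

include M in
theorem exists_deg_mult (hE : ∀ s : S, s * s = 1) (χ : IrrCharacter G) :
    ∃ k : ℕ, (charDegree (χ : G → ℂ) : ℂ) = (χ : G → ℂ) (Mo.tG M) + (Nat.card S : ℂ) * k := by
  obtain ⟨k, hk⟩ := exists_mult (IsCharacter.comp (irr_isCharacter χ)
    ((Mo.P : Subgroup G).subtype.comp Mo.emb.toMonoidHom)) M.t_ne (fun s hs => Mo.value_emb M hE χ hs)
  refine ⟨k, ?_⟩
  rw [← hk, map_one, irr_one_eq_charDegree]

theorem gen_t [IsSimpleGroup G] {t : G} (ht : t ≠ 1) :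
    ∀ N : Subgroup G, N.Normal → t ∈ N → N = ⊤ := fun N hN htN =>
  hN.eq_bot_or_eq_top.resolve_left fun h => ht (Subgroup.mem_bot.1 (h ▸ htN))

theorem tG_ne : Mo.tG M ≠ 1 := fun h => by
  have := Mo.orderOf_tG M
  rw [h, orderOf_one] at this
  norm_num at this

theorem irr_ne_deg [IsSimpleGroup G] {χ : IrrCharacter G} (hne : χ ≠ Char.principal G) {g : G}
    (hg : g ≠ 1) : (χ : G → ℂ) g ≠ (χ : G → ℂ) 1 := fun h =>
  hne (ExPrincipal.eq_principal_of_kernel (gen_t hg) h)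

theorem mult_pos [IsSimpleGroup G] (hE : ∀ s : S, s * s = 1) {χ : IrrCharacter G}
    (hne : χ ≠ Char.principal G) :
    ∃ k : ℕ, 1 ≤ k ∧ (charDegree (χ : G → ℂ) : ℂ) = (χ : G → ℂ) (Mo.tG M) + (Nat.card S : ℂ) * k := by
  obtain ⟨k, hk⟩ := Mo.exists_deg_mult M hE χ
  refine ⟨k, Nat.one_le_iff_ne_zero.2 fun h0 => irr_ne_deg hne (Mo.tG_ne M) ?_, hk⟩
  rw [irr_one_eq_charDegree, hk, h0, Nat.cast_zero, mul_zero, add_zero]

open scoped Classical in
theorem value_W_of_avg_eq (χ : IrrCharacter G) (h : (Mo.avg χ 1).re = (charDegree (χ : G → ℂ) : ℝ))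
    {w : G} (hw : w ∈ Mo.W) : (χ : G → ℂ) w = (χ : G → ℂ) 1 := by
  have hwf : w ∈ Mo.fib 1 := Mo.mem_fib.2 ⟨Mo.W_le hw, (Mo.pr_eq_one (Mo.W_le hw)).2 hw⟩
  set d : ℝ := (charDegree (χ : G → ℂ) : ℝ) with hd
  have hnorm : ∀ g, ‖(χ : G → ℂ) g‖ ≤ d := fun g =>
    SmallN.norm_le_one (irr_isCharacter χ) (irr_one_eq_charDegree χ) g
  have hW : (0 : ℝ) < Nat.card Mo.W := Nat.cast_pos.2 Nat.card_pos
  have h1 : ∑ g ∈ Mo.fib 1, (d - ((χ : G → ℂ) g).re) = 0 := by
    rw [avg, ← Complex.ofReal_natCast, ← Complex.ofReal_inv, Complex.re_ofReal_mul, Complex.re_sum,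
      inv_mul_eq_iff_eq_mul₀ hW.ne'] at h
    rw [Finset.sum_sub_distrib, Finset.sum_const, Mo.card_fib, nsmul_eq_mul, h, sub_self]
  have h2 := (Finset.sum_eq_zero_iff_of_nonneg fun g _ =>
    sub_nonneg.2 ((Complex.re_le_norm _).trans (hnorm g))).1 h1 w hwf
  have hre : ((χ : G → ℂ) w).re = d := by linarith
  have him : ((χ : G → ℂ) w).im = 0 := by
    have h3 := pow_le_pow_left₀ (norm_nonneg _) (hnorm w) 2
    rw [Complex.sq_norm, Complex.normSq_apply, hre] at h3
    nlinarith [mul_self_nonneg ((χ : G → ℂ) w).im]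
  rw [irr_one_eq_charDegree]
  refine Complex.ext ?_ ?_
  · rw [Complex.natCast_re, hre]
  · rw [Complex.natCast_im, him]

/-- The W-orbits and the orbit of the 2-group. -/
theorem n_big [IsSimpleGroup G] (hE : ∀ s : S, s * s = 1) (hW : Mo.W ≠ ⊥) :
    3 * Nat.card S + 1 ≤ Mo.H.index := by
  classical
  let b₀ : G ⧸ Mo.H := ((1 : G) : G ⧸ Mo.H)
  have hb : ∀ g : G, g • b₀ = b₀ ↔ g ∈ Mo.H := fun g => by
    simp only [b₀, MulAction.Quotient.smul_mk, smul_eq_mul, mul_one, QuotientGroup.eq, inv_mem_iff]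
  obtain ⟨y, hy, w₀, hw₀, hmove⟩ : ∃ y : G ⧸ Mo.H, y ≠ b₀ ∧ ∃ w ∈ Mo.W, w • y ≠ y := by
    by_contra! h
    refine hW (le_bot_iff.1 (le_trans (show Mo.W ≤ Mo.H.normalCore from fun w hw => ?_) ?_))
    · intro g
      have h1 : w • ((g⁻¹ : G) : G ⧸ Mo.H) = ((g⁻¹ : G) : G ⧸ Mo.H) := by
        by_cases he : ((g⁻¹ : G) : G ⧸ Mo.H) = b₀
        · rw [he]
          exact (hb w).2 (Mo.W_le hw)
        · exact h _ he w hw
      rw [MulAction.Quotient.smul_mk, smul_eq_mul, QuotientGroup.eq] at h1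
      have := inv_mem h1
      simpa [mul_assoc] using this
    · rcases (Subgroup.normalCore_normal Mo.H).eq_bot_or_eq_top with h' | h'
      · exact h'.le
      · exact absurd (top_le_iff.1 (h' ▸ Subgroup.normalCore_le Mo.H)) Mo.se.1
  -- the orbit of W
  let O := MulAction.orbit Mo.W y
  have hy_mem : y ∈ O := MulAction.mem_orbit_self y
  have hne : ∀ z ∈ O, z ≠ b₀ := by
    rintro z ⟨w, rfl⟩ h
    refine hy ?_
    have h' : (w : G) • y = b₀ := h
    rw [← inv_smul_smul (w : G) y, h']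
    exact (hb _).2 (inv_mem (Mo.W_le w.2))
  have hodd : Odd (Nat.card O) := by
    refine Mo.W_odd.of_dvd_nat ⟨Nat.card (MulAction.stabilizer Mo.W y), ?_⟩
    rw [← Nat.card_prod]
    exact (Nat.card_congr (MulAction.orbitProdStabilizerEquivGroup Mo.W y)).symm
  have hO3 : 3 ≤ Nat.card O := by
    have h2 : 1 < Nat.card O := by
      rw [Finite.one_lt_card_iff_nontrivial]
      exact ⟨⟨⟨y, hy_mem⟩, ⟨w₀ • y, ⟨⟨w₀, hw₀⟩, rfl⟩⟩, fun e => hmove (congrArg Subtype.val e).symm⟩⟩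
    obtain ⟨j, hj⟩ := hodd
    omega
  let F : Option (S × O) → G ⧸ Mo.H := fun o => o.elim b₀ fun p => (Mo.emb p.1 : G) • (p.2 : G ⧸ Mo.H)
  have hinv : ∀ s : S, ∀ z ∈ O, ((Mo.emb s : G) • z ∈ O) → s = 1 := by
    intro s z hz hsz
    by_contra hs
    -- the 2-element permutes the orbit
    have hperm : ∀ v ∈ O, (Mo.emb s : G) • v ∈ O := by
      intro v hv
      obtain ⟨w, hw⟩ := hz
      obtain ⟨w', hw'⟩ := hv
      obtain ⟨w'', hw''⟩ := hsz
      have e1 : (w : G) • y = z := hw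
      have e2 : (w' : G) • y = v := hw'
      have e3 : (w'' : G) • y = (Mo.emb s : G) • z := hw''
      have hmem : (Mo.emb s : G) * ((w' : G) * (w : G)⁻¹) * (Mo.emb s : G)⁻¹ ∈ Mo.W :=
        (Subgroup.mem_normalizer_iff.1 (Mo.W_norm (Mo.emb_mem s)) _).1 (mul_mem w'.2 (inv_mem w.2))
      refine ⟨⟨_, mul_mem hmem w''.2⟩, ?_⟩
      show ((Mo.emb s : G) * ((w' : G) * (w : G)⁻¹) * (Mo.emb s : G)⁻¹ * (w'' : G)) • y = _
      rw [mul_smul, e3, mul_smul, mul_smul, inv_smul_smul, mul_smul, ← e1, inv_smul_smul, e2]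
    have h2 : orderOf (Mo.emb s : G) = 2 := by
      rw [Subgroup.orderOf_coe, MulEquiv.orderOf_eq, orderOf_eq_prime (by rw [pow_two, hE]) hs]
    haveI : Fintype O := Fintype.ofFinite _
    let σ : Equiv.Perm O :=
      { toFun := fun v => ⟨(Mo.emb s : G) • (v : G ⧸ Mo.H), hperm _ v.2⟩
        invFun := fun v => ⟨(Mo.emb s : G) • (v : G ⧸ Mo.H), hperm _ v.2⟩
        left_inv := fun v => Subtype.ext (by
          show (Mo.emb s : G) • (Mo.emb s : G) • (v : G ⧸ Mo.H) = _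
          rw [← mul_smul, show (Mo.emb s : G) * (Mo.emb s : G) = 1 from by
            rw [← Subgroup.coe_mul, ← map_mul, hE, map_one, OneMemClass.coe_one], one_smul])
        right_inv := fun v => Subtype.ext (by
          show (Mo.emb s : G) • (Mo.emb s : G) • (v : G ⧸ Mo.H) = _
          rw [← mul_smul, show (Mo.emb s : G) * (Mo.emb s : G) = 1 from by
            rw [← Subgroup.coe_mul, ← map_mul, hE, map_one, OneMemClass.coe_one], one_smul]) }
    have hσ2 : σ ^ 2 ^ 1 = 1 := by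
      rw [pow_one, pow_two]
      exact Equiv.ext fun v => σ.left_inv v
    obtain ⟨v, hv⟩ := Equiv.Perm.exists_fixed_point_of_prime (p := 2) (n := 1)
      (by rw [← Nat.card_eq_fintype_card]; obtain ⟨j, hj⟩ := hodd; omega) hσ2
    exact hne v v.2 (Invol.se_fix_unique Mo.se h2 (congrArg Subtype.val hv) ((hb _).2 (Mo.emb_mem s)))
  have hF : Function.Injective F := by
    have hnb : ∀ p : S × O, (Mo.emb p.1 : G) • (p.2 : G ⧸ Mo.H) ≠ b₀ := fun p h => by
      refine hne _ p.2.2 ?_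
      rw [← inv_smul_smul (Mo.emb p.1 : G) (p.2 : G ⧸ Mo.H), h]
      exact (hb _).2 (inv_mem (Mo.emb_mem p.1))
    rintro (_ | p) (_ | p') h
    · rfl
    · exact absurd h.symm (hnb p')
    · exact absurd h (hnb p)
    · have h' : (Mo.emb p.1 : G) • (p.2 : G ⧸ Mo.H) = (Mo.emb p'.1 : G) • (p'.2 : G ⧸ Mo.H) := h
      have e : (Mo.emb (p'.1⁻¹ * p.1) : G) • (p.2 : G ⧸ Mo.H) = p'.2 := by
        rw [map_mul, map_inv, Subgroup.coe_mul, Subgroup.coe_inv, mul_smul, h', inv_smul_smul]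
      have hs := hinv _ _ p.2.2 (by rw [e]; exact p'.2.2)
      rw [hs, map_one, OneMemClass.coe_one, one_smul] at e
      exact congrArg some (Prod.ext (inv_mul_eq_one.1 hs).symm (Subtype.ext e))
  have hcard := Nat.card_le_card_of_injective F hF
  rw [Finite.card_option, Nat.card_prod] at hcard
  have := Nat.mul_le_mul_left (Nat.card S) hO3
  rw [Subgroup.index]
  linarith

theorem degs [IsSimpleGroup G] (hfaith : ∀ k : K, (∀ s : S, k • s = s) → k = 1) (hf : 2 ≤ M.f)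
    (hE : ∀ s : S, s * s = 1) (hW : Mo.W ≠ ⊥) : Degs (Mo.cols M hfaith hf) := by
  classical
  haveI : Fact (Nat.Prime 2) := ⟨Nat.prime_two⟩
  obtain ⟨J, hJ⟩ := GlaubermanMod.exists_isPModular 2
  haveI := hJ.2.1.isPrime
  refine ⟨fun χ hne hu0 => ?_, Mo.n_big hE hW⟩
  set C := Mo.cols M hfaith hf with hC
  have hne' : χ ≠ Char.principal G := hne
  have hu : Mo.avg χ (SemidirectProduct.inl M.t) = (C.u χ : ℂ) := C.u_spec χ
  have hχ : χ ∈ principalBlock J G := by
    by_contra h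
    rw [Mo.avg_eq_zero M hfaith hJ h (Cols.even_t (M := M))] at hu
    exact hu0 (by exact_mod_cast hu.symm)
  rw [Mo.avg_eq_value M hJ hχ] at hu
  obtain ⟨k, hk1, hk⟩ := Mo.mult_pos M hE hne'
  rw [hu] at hk
  have hd : (charDegree (χ : G → ℂ) : ℝ) = (C.u χ : ℝ) + (Nat.card S : ℝ) * (k : ℤ) := by
    apply Complex.ofReal_injective
    push_cast
    exact hk
  refine ⟨k, by exact_mod_cast hk1, fun hneg => ?_, hd⟩
  -- the fixed space of the core
  have hconj : ∀ s : S, s ≠ 1 → Mo.avg χ (SemidirectProduct.inl s) = (C.u χ : ℂ) := by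
    intro s hs
    obtain ⟨c, hc⟩ := M.trans s (hE s) hs
    rw [← hc, show (SemidirectProduct.inl (c • M.t) : SK S K) =
      SemidirectProduct.inr c * SemidirectProduct.inl M.t * (SemidirectProduct.inr c)⁻¹ from by
        rw [← map_inv]; exact SemidirectProduct.inl_aut c M.t, Mo.avg_conj]
    exact C.u_spec χ
  obtain ⟨a, ha⟩ := exists_mult (IsCharacter.comp (Mo.isCharacter_avg χ)
    (SemidirectProduct.inl : S →* SK S K)) M.t_ne (fun s hs => hconj s hs)
  rw [map_one] at ha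
  obtain ⟨g, hg⟩ := IsCharacter.exists_degree (Mo.isCharacter_avg χ)
  have hga : (g : ℝ) = (C.u χ : ℝ) + (Nat.card S : ℝ) * a := by
    apply Complex.ofReal_injective
    push_cast
    rw [← hg, ha]
  have hlt : (Mo.avg χ 1).re < (charDegree (χ : G → ℂ) : ℝ) := by
    refine lt_of_le_of_ne (Mo.avg_le_degree χ) fun heq => ?_
    obtain ⟨w, hw, hw1⟩ := (Subgroup.bot_or_exists_ne_one Mo.W).resolve_left hW
    exact irr_ne_deg hne' hw1 (Mo.value_W_of_avg_eq χ heq hw)
  rw [hg, Complex.natCast_re, hga, hd] at hlt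
  push_cast at hlt
  have hq : (1 : ℝ) ≤ Nat.card S := by exact_mod_cast Nat.card_pos
  have hka : (a : ℝ) < k := lt_of_mul_lt_mul_left (by linarith) (le_trans zero_le_one hq)
  have hka' : a + 1 ≤ k := by exact_mod_cast hka
  have h0 : (0 : ℝ) ≤ (g : ℝ) := Nat.cast_nonneg g
  -- the multiplicity of the trivial character
  obtain ⟨m, hm⟩ := IsCharacter.exists_classInner_nat (IsCharacter.comp (Mo.isCharacter_avg χ)
    (SemidirectProduct.inl : S →* SK S K)) (isCharacter_one (G := S))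
  rw [classInner, ← Finset.add_sum_erase _ _ (Finset.mem_univ (1 : S)), map_one, ha,
    Finset.sum_congr rfl fun s hs => by rw [hconj s (Finset.ne_of_mem_erase hs)], map_one, mul_one,
    Finset.sum_const, Finset.card_erase_of_mem (Finset.mem_univ _), Finset.card_univ,
    ← Nat.card_eq_fintype_card, nsmul_eq_mul, Nat.cast_sub Nat.card_pos, Nat.cast_one] at hm
  have hqc : (Nat.card S : ℂ) ≠ 0 := Nat.cast_ne_zero.2 Nat.card_pos.ne'
  have hm' : (m : ℂ) = ((C.u χ + a : ℤ) : ℂ) := by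
    rw [← hm]
    push_cast
    field_simp
    ring
  have hm'' : (m : ℤ) = C.u χ + a := by exact_mod_cast hm'
  omega

end Model

end Cfsg.Agent.AbelInv
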