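import Mathlib.GroupTheory.FiniteAbelian.Duality
import Mathlib.Analysis.Complex.Polynomial.Basic
import Mathlib.RingTheory.RootsOfUnity.Complex
import Mathlib.RingTheory.RootsOfUnity.AlgebraicallyClosed

/-!
Sums of the linear characters of a finite abelian group.
-/

set_option autoImplicit false

namespace Cfsg.Agent.AbelInv

open scoped ComplexConjugate

universe u

variable {A : Type u} [CommGroup A]

noncomputable instance [Finite A] : Fintype (A →* ℂˣ) := by
  haveI : Finite (A →* ℂˣ) := Finite.of_equiv A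
    (CommGroup.monoidHom_mulEquiv_of_hasEnoughRootsOfUnity A ℂ).some.toEquiv.symm
  exact Fintype.ofFinite _

theorem norm_hom [Finite A] (l : A →* ℂˣ) (a : A) : ‖(l a : ℂ)‖ = 1 := by
  refine Complex.norm_eq_one_of_pow_eq_one (n := Nat.card A) ?_ Nat.card_pos.ne'
  rw [← Units.val_pow_eq_pow_val, ← map_pow, pow_card_eq_one', map_one, Units.val_one]

theorem conj_hom [Finite A] (l : A →* ℂˣ) (a : A) : conj (l a : ℂ) = ((l⁻¹) a : ℂˣ) := by
  rw [MonoidHom.inv_apply, Units.val_inv_eq_inv_val, ← Complex.inv_eq_conj (norm_hom l a)]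

open scoped Classical in
theorem hom_sum [Fintype A] (l : A →* ℂˣ) :
    ∑ a, (l a : ℂ) = if l = 1 then (Nat.card A : ℂ) else 0 := by
  split_ifs with h
  · simp [h, Nat.card_eq_fintype_card]
  · exact sum_hom_units_eq_zero ((Units.coeHom ℂ).comp l) fun e =>
      h (MonoidHom.ext fun a => Units.ext (DFunLike.congr_fun e a))

open scoped Classical in
theorem hom_orth [Fintype A] (l l' : A →* ℂˣ) :
    ∑ a, (l a : ℂ) * conj (l' a : ℂ) = if l = l' then (Nat.card A : ℂ) else 0 := by
  have h := hom_sum (l * l'⁻¹)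
  simp only [MonoidHom.mul_apply, Units.val_mul, ← conj_hom] at h
  rw [h]
  refine if_congr ⟨fun e => ?_, fun e => by rw [e]; exact MonoidHom.ext fun a => by simp⟩ rfl rfl
  exact (mul_inv_eq_one (a := l) (b := l')).1 e

open scoped Classical in
theorem dual_sum [Finite A] (a : A) :
    ∑ l : A →* ℂˣ, (l a : ℂ) = if a = 1 then (Nat.card A : ℂ) else 0 := by
  split_ifs with h
  · simp [h, ← Nat.card_eq_fintype_card,
      CommGroup.card_monoidHom_of_hasEnoughRootsOfUnity A ℂ]
  · obtain ⟨m, hm⟩ := CommGroup.exists_apply_ne_one_of_hasEnoughRootsOfUnity A ℂ h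
    refine eq_zero_of_mul_eq_self_left (fun e => hm (Units.ext e)) (b := (m a : ℂ)) ?_
    rw [Finset.mul_sum]
    exact Fintype.sum_equiv (Equiv.mulLeft m) _ _ fun l => by simp

open scoped Classical in
/-- The sum of the extensions of a linear character. -/
theorem ext_sum [Finite A] (J : Subgroup A) (η : J →* ℂˣ) (c : A) :
    ∑ ψ ∈ Finset.univ.filter (fun ψ : A →* ℂˣ => ψ.domRestrict J = η), (ψ c : ℂ) =
      if hc : c ∈ J then (J.index : ℂ) * (η ⟨c, hc⟩ : ℂ) else 0 := by
  obtain ⟨ψ₀, hψ₀⟩ := MonoidHom.domRestrict_surjective ℂ J η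
  have hcard : (Finset.univ.filter (fun ψ : A →* ℂˣ => ψ.domRestrict J = η)).card = J.index := by
    rw [Subgroup.index_eq_card, ← CommGroup.card_domRestrictHom_ker ℂ J, Nat.card_eq_fintype_card,
      ← Fintype.card_subtype]
    refine Fintype.card_congr (Equiv.subtypeEquiv (Equiv.mulLeft ψ₀⁻¹) fun ψ => ?_)
    rw [MonoidHom.mem_ker, Equiv.coe_mulLeft, map_mul, map_inv,
      inv_mul_eq_one]
    show ψ.domRestrict J = η ↔ ψ₀.domRestrict J = ψ.domRestrict J
    rw [show ψ₀.domRestrict J = η from hψ₀]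
    exact eq_comm
  split_ifs with hc
  · rw [Finset.sum_congr rfl (g := fun _ => (η ⟨c, hc⟩ : ℂ)) fun ψ hψ => ?_, Finset.sum_const,
      hcard, nsmul_eq_mul]
    rw [← (Finset.mem_filter.1 hψ).2]
    rfl
  · obtain ⟨m, hmJ, hm⟩ : ∃ m : A →* ℂˣ, (∀ j ∈ J, m j = 1) ∧ m c ≠ 1 := by
      by_contra! h
      exact hc ((CommGroup.forall_monoidHom_apply_eq_one_iff ℂ J c).1 h)
    refine eq_zero_of_mul_eq_self_left (fun e => hm (Units.ext e)) (b := (m c : ℂ)) ?_
    rw [Finset.mul_sum]
    refine Finset.sum_equiv (Equiv.mulLeft m) (fun ψ => ?_) fun ψ _ => by simp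
    simp only [Finset.mem_filter, Finset.mem_univ, true_and, Equiv.coe_mulLeft]
    have : (m * ψ).domRestrict J = ψ.domRestrict J :=
      MonoidHom.ext fun j => by simp [hmJ j j.2]
    rw [this]

end Cfsg.Agent.AbelInv
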