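import Cfsg.Agent.Lib.AbelInv.ElemBig

/-!
The numerical cases.
-/

set_option autoImplicit false
set_option linter.unusedSectionVars false
set_option linter.style.haveILetI false

namespace Cfsg.Agent.AbelInv

open Cfsg Cfsg.Agent.Char

universe u v

/-- The squares sum for a cyclic group. -/
noncomputable def Rr (r e : ℕ) : ℝ := (Rc r e : ℝ) - ((e : ℝ) - 1) ^ 2

theorem Rc_le {r e : ℕ} (he : Odd e) : Rc r e ≤ e * ((e - 1) * 2 ^ (r / 3)) := by
  have he0 : e ≠ 0 := fun h => by simp [h] at he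
  refine Nat.mul_le_mul_left e ?_
  have hsum : ∑ d ∈ (Nat.divisors e).erase 1, Nat.totient d = e - 1 := by
    have h := Finset.add_sum_erase (Nat.divisors e) Nat.totient (Nat.one_mem_divisors.2 he0)
    rw [Nat.sum_totient, Nat.totient_one] at h
    omega
  refine le_trans (Finset.sum_le_sum fun d hd => Nat.mul_le_mul_left (Nat.totient d)
    (Nat.pow_le_pow_right (by norm_num : 0 < 2) ?_)) (le_of_eq (by rw [← Finset.sum_mul, hsum]))
  obtain ⟨hd1, hde⟩ := Finset.mem_erase.1 hd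
  refine Nat.div_le_div_left ?_ (by norm_num)
  have hd0 : 0 < d := Nat.pos_of_mem_divisors hde
  obtain ⟨j, hj⟩ := he.of_dvd_nat (Nat.mem_divisors.1 hde).1
  omega

theorem Rc_ge {r e : ℕ} (her : e ∣ r) (he : Odd e) (hr : 0 < r) : e * ((e - 1) * 2) ≤ Rc r e := by
  have he0 : e ≠ 0 := fun h => by simp [h] at he
  refine Nat.mul_le_mul_left e ?_
  have hsum : ∑ d ∈ (Nat.divisors e).erase 1, Nat.totient d = e - 1 := by
    have h := Finset.add_sum_erase (Nat.divisors e) Nat.totient (Nat.one_mem_divisors.2 he0)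
    rw [Nat.sum_totient, Nat.totient_one] at h
    omega
  refine le_trans (le_of_eq (by rw [← hsum, Finset.sum_mul])) (Finset.sum_le_sum fun d hd =>
    Nat.mul_le_mul_left (Nat.totient d) (Nat.le_self_pow ?_ 2))
  obtain ⟨hd1, hde⟩ := Finset.mem_erase.1 hd
  exact (Nat.div_pos (Nat.le_of_dvd hr ((Nat.mem_divisors.1 hde).1.trans her))
    (Nat.pos_of_mem_divisors hde)).ne'

theorem eight_pow_le : ∀ r : ℕ, 21 ≤ r → 8 * r ^ 4 ≤ 2 ^ r := by
  intro r hr
  induction r, hr using Nat.le_induction with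
  | base => norm_num
  | succ n hn ih =>
    rw [pow_succ 2 n]
    have : (n + 1) ^ 4 ≤ 2 * n ^ 4 := by nlinarith [Nat.mul_le_mul_right (n ^ 2) (Nat.mul_le_mul hn hn)]
    omega

theorem thirty_sq_le : ∀ r : ℕ, 21 ≤ r → 30 * r ^ 2 ≤ (2 ^ (r / 3)) ^ 2 := by
  intro r
  induction r using Nat.strong_induction_on with
  | _ r ih =>
    intro hr
    by_cases h : r < 24
    · interval_cases r <;> norm_num
    · obtain ⟨m, rfl⟩ : ∃ m, r = m + 3 := ⟨r - 3, by omega⟩
      have := ih m (by omega) (by omega)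
      rw [show (m + 3) / 3 = m / 3 + 1 by omega, pow_succ 2 (m / 3), mul_pow]
      have : (m + 3) ^ 2 ≤ 4 * m ^ 2 := by nlinarith
      omega

theorem cube_ge {e q : ℝ} (he : e = 3 ∨ 5 ≤ e) (hq : 8 * e ^ 4 ≤ q) (hq' : 2000000 ≤ q) :
    1335 * e ^ 7 ≤ 343 * (e - 1) ^ 3 * q := by
  rcases he with rfl | he
  · norm_num; linarith
  · have h1 : (4 / 5 * e) ^ 3 ≤ (e - 1) ^ 3 := pow_le_pow_left₀ (by linarith) (by linarith) 3
    have he0 : (0 : ℝ) ≤ e := by linarith
    calc 1335 * e ^ 7 ≤ 343 * (4 / 5 * e) ^ 3 * (8 * e ^ 4) := by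
          rw [show 343 * (4 / 5 * e) ^ 3 * (8 * e ^ 4) = (343 * 64 * 8 / 125) * e ^ 7 by ring]
          exact mul_le_mul_of_nonneg_right (by norm_num) (pow_nonneg he0 7)
      _ ≤ 343 * (e - 1) ^ 3 * q := mul_le_mul (by linarith) hq (by positivity) (by
          have : 0 ≤ (e - 1) ^ 3 := pow_nonneg (by linarith) 3
          linarith)

variable {S K : Type u} [CommGroup S] [Group K] [MulDistribMulAction K S] [Fintype S] [Fintype K]
  {M : Hyp S K} {ι : Type v} [Fintype ι] {C : Cols M ι}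

namespace Degs

variable (D : Degs C) {r : ℕ} (hSh : Shape S K M.t r) (hE : ∀ s : S, s * s = 1)

include D hSh hE

theorem false_large (hr : 21 ≤ r) (he3 : 3 ≤ M.e) : False := by
  have hde : M.e ∣ r := hSh.dvd
  have her := Nat.le_of_dvd (by omega) hde
  have hodd := M.e_odd
  set X : ℝ := (2 : ℝ) ^ (r / 3) with hX
  set q : ℝ := (2 : ℝ) ^ r with hq
  set e : ℝ := (M.e : ℝ) with hedef
  have hX1 : 1 ≤ X := one_le_pow₀ one_le_two
  have hX3 : X ^ 3 ≤ q := by
    rw [hX, hq, ← pow_mul]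
    exact pow_le_pow_right₀ one_le_two (Nat.div_mul_le_self r 3)
  have hq8 : 8 * (r : ℝ) ^ 4 ≤ q := by rw [hq]; exact_mod_cast eight_pow_le r hr
  have hr' : (21 : ℝ) ≤ r := by exact_mod_cast hr
  have he' : (3 : ℝ) ≤ e := by rw [hedef]; exact_mod_cast he3
  have her' : e ≤ r := by rw [hedef]; exact_mod_cast her
  have hq2m : (2000000 : ℝ) ≤ q := by
    have h21 : (2 : ℝ) ^ 21 ≤ q := pow_le_pow_right₀ one_le_two hr
    norm_num at h21
    linarith
  have he35 : e = 3 ∨ 5 ≤ e := by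
    obtain ⟨j, hj⟩ := hodd
    rcases (show M.e = 3 ∨ 5 ≤ M.e by omega) with h | h
    · exact Or.inl (by rw [hedef, h]; norm_num)
    · exact Or.inr (by rw [hedef]; exact_mod_cast h)
  set R : ℝ := (Rc r M.e : ℝ) - (e - 1) ^ 2 with hR
  have hRub : R ≤ e * (e - 1) * X := by
    have h : (Rc r M.e : ℝ) ≤ ((M.e * ((M.e - 1) * 2 ^ (r / 3)) : ℕ) : ℝ) := by exact_mod_cast Rc_le hodd
    push_cast [Nat.cast_sub (show 1 ≤ M.e by omega)] at h
    have := sq_nonneg (e - 1)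
    rw [hR, mul_assoc]
    linarith
  have hRlb : e ^ 2 - 1 ≤ R := by
    have h : ((M.e * ((M.e - 1) * 2) : ℕ) : ℝ) ≤ (Rc r M.e : ℝ) := by
      exact_mod_cast Rc_ge hde hodd (by omega)
    push_cast [Nat.cast_sub (show 1 ≤ M.e by omega)] at h
    rw [hR]
    nlinarith
  have he1 : 0 < e - 1 := by linarith
  have hR0 : 0 < R := by nlinarith
  set ρ : ℝ := 7 / 10 * (e - 1) ^ 2 / (e * R) with hρ
  have hlow : 7 / 10 * (e - 1) / (e ^ 2 * X) ≤ ρ := by
    rw [hρ, div_le_div_iff₀ (by positivity) (by positivity)]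
    have h9 := mul_le_mul_of_nonneg_left hRub (show 0 ≤ 7 / 10 * (e - 1) * e by positivity)
    linarith
  have hXq : 100 * X ≤ q := by
    have h100 : (100 : ℝ) ≤ X * X := by
      have h27 : (2 : ℝ) ^ 7 ≤ X := by rw [hX]; exact pow_le_pow_right₀ one_le_two (by omega)
      nlinarith
    calc 100 * X ≤ X * X * X := mul_le_mul_of_nonneg_right h100 (by linarith)
      _ = X ^ 3 := by ring
      _ ≤ q := hX3
  have he2q : e ^ 2 * X * 25 ≤ q - 1 := by
    have h30 : 30 * (r : ℝ) ^ 2 ≤ X ^ 2 := by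
      rw [hX]
      exact_mod_cast thirty_sq_le r hr
    have h2 : e ^ 2 ≤ (r : ℝ) ^ 2 := pow_le_pow_left₀ (by linarith) her' 2
    have h3 : e ^ 2 * 30 * X ≤ X ^ 2 * X := mul_le_mul_of_nonneg_right (by linarith) (by linarith)
    have h4 : 1 ≤ e ^ 2 * X := one_le_mul_of_one_le_of_one_le (by nlinarith) hX1
    nlinarith
  have hρlb : 1 / (q - 1) ≤ ρ := by
    refine le_trans ?_ hlow
    rw [div_le_div_iff₀ (by linarith) (by positivity)]
    nlinarith
  have hρ1 : ρ < 1 := by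
    rw [hρ, div_lt_one (by positivity)]
    nlinarith
  have hTm : Tm r M.e ≤ e / 3 := by
    rw [Tm, ← hq, ← hedef, div_le_div_iff₀ (mul_pos (by linarith) (by linarith)) (by norm_num)]
    nlinarith [mul_le_mul_of_nonneg_left (show (q - 2) * q * 3 ≤ (3 * q + 1) * (q - 1) by nlinarith)
      (show (0 : ℝ) ≤ e by linarith)]
  have hTm0 : 0 ≤ Tm r M.e := by
    rw [Tm, ← hq, ← hedef]
    exact div_nonneg (mul_nonneg (mul_nonneg (by linarith) (by linarith)) (by linarith))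
      (mul_nonneg (by linarith) (by linarith))
  set U : ℝ := (q * e - 1) / (q - 1) with hU
  have hUb : U ≤ 1001 / 1000 * e := by
    rw [hU, div_le_iff₀ (by linarith)]
    nlinarith
  have hU0 : 0 ≤ U := div_nonneg (by nlinarith) (by linarith)
  have hρ0 : 0 < ρ := lt_of_lt_of_le (one_div_pos.2 (by linarith)) hρlb
  refine D.false_crude hSh hE (by omega) (ρ := ρ) hρlb hρ1 hR0 he3 ?_ ?_
  · rw [← hq, ← hedef, ← hR, ← hU]
    have h1 : ρ * (U + (Tm r M.e - 1)) ≤ ρ * (1335 / 1000 * e) :=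
      mul_le_mul_of_nonneg_left (by linarith) hρ0.le
    have h2 : -((Tm r M.e - 1) / (q - 1)) ≤ 1 / (q - 1) := by
      rw [← neg_div]
      exact div_le_div_of_nonneg_right (by linarith) (by linarith)
    have h3 : (ρ * (U + (Tm r M.e - 1)) - (Tm r M.e - 1) / (q - 1)) * R ≤
        (ρ * (1335 / 1000 * e) + 1 / (q - 1)) * R := mul_le_mul_of_nonneg_right (by linarith) hR0.le
    refine lt_of_le_of_lt h3 ?_
    rw [add_mul, show ρ * (1335 / 1000 * e) * R = 9345 / 10000 * (e - 1) ^ 2 by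
      rw [hρ]
      have := hR0.ne'
      have : e ≠ 0 := by linarith
      field_simp
      ring]
    have h4 : 1 / (q - 1) * R ≤ 1 / 25 := by
      rw [div_mul_eq_mul_div, one_mul, div_le_iff₀ (by linarith)]
      nlinarith
    nlinarith
  · rw [← hq, ← hedef, ← hU]
    have h1 : (Tm r M.e - 1 + U) * (1 - ρ) ^ 2 ≤ 1335 / 1000 * e := by
      rcases le_or_gt 0 (Tm r M.e - 1 + U) with h | h
      · refine le_trans (mul_le_of_le_one_right h ?_) (by linarith)
        exact pow_le_one₀ (by linarith) (by linarith)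
      · exact le_trans (mul_nonpos_of_nonpos_of_nonneg h.le (sq_nonneg _)) (by positivity)
    refine h1.trans ?_
    refine le_trans ?_ (mul_le_mul_of_nonneg_right (pow_le_pow_left₀ (by positivity) hlow 3) (sq_nonneg q))
    rw [div_pow, div_mul_eq_mul_div ((7 / 10 * (e - 1)) ^ 3), le_div_iff₀ (by positivity)]
    have h5 := cube_ge he35 (le_trans (mul_le_mul_of_nonneg_left (pow_le_pow_left₀ (by linarith) her' 4)
      (by norm_num)) hq8) hq2m
    calc 1335 / 1000 * e * (e ^ 2 * X) ^ 3 = 1335 * e ^ 7 * X ^ 3 / 1000 := by ring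
      _ ≤ 343 * (e - 1) ^ 3 * q * q / 1000 := by
          gcongr
      _ = _ := by ring

theorem false_medium (hr : 3 ≤ r) {R : ℕ} (hRc : Rc r M.e = R) (he : 3 ≤ M.e)
    {ρ : ℝ} (hρ : 1 / ((2 : ℝ) ^ r - 1) ≤ ρ) (hρ1 : ρ < 1) (hR : 0 < (R : ℝ) - ((M.e : ℝ) - 1) ^ 2)
    (h1 : (ρ * (((2 : ℝ) ^ r * M.e - 1) / ((2 : ℝ) ^ r - 1) + (Tm r M.e - 1)) -
      (Tm r M.e - 1) / ((2 : ℝ) ^ r - 1)) * ((R : ℝ) - ((M.e : ℝ) - 1) ^ 2) < ((M.e : ℝ) - 1) ^ 2)
    (h2 : (Tm r M.e - 1 + ((2 : ℝ) ^ r * M.e - 1) / ((2 : ℝ) ^ r - 1)) * (1 - ρ) ^ 2 ≤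
      ρ ^ 3 * ((2 : ℝ) ^ r) ^ 2) : False := by
  subst hRc
  exact D.false_crude hSh hE hr hρ hρ1 hR he h1 h2

end Degs

end Cfsg.Agent.AbelInv
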