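import Cfsg.Agent.Lib.AbelInv.ElemOneGeom
import Cfsg.Agent.Lib.AbelInv.DegFacts
import Cfsg.Agent.Lib.Char.Induction

/-!
An elementary 2-group with trivial core and a nontrivial stabiliser: contradiction.
-/

set_option autoImplicit false
set_option linter.unusedSectionVars false
set_option linter.style.haveILetI false

namespace Cfsg.Agent.AbelInv

open Cfsg Cfsg.Agent.Char Cfsg.Agent.Blocks Subgroup
open scoped ComplexConjugate

universe u

/-- An induced linear character: its norm as a count. -/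
theorem classInner_indFun_linear {G : Type u} [Group G] [Fintype G] {H : Subgroup G} [Fintype H]
    (φ : H →* ℂˣ)
    (hφ : ∀ (x : G) (h : H) (hx : x⁻¹ * (h : G) * x ∈ H), φ ⟨_, hx⟩ = φ h) :
    Cfsg.classInner (Cfsg.indFun H fun h => (φ h : ℂ)) (Cfsg.indFun H fun h => (φ h : ℂ)) =
      (Nat.card H : ℂ)⁻¹ * ((Nat.card H : ℂ)⁻¹ *
        ∑ x : G, (Nat.card {h : H // x⁻¹ * (h : G) * x ∈ H} : ℂ)) := by
  classical
  rw [classInner_indFun_left H _ (isClassFunction_indFun H _), Cfsg.classInner]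
  congr 1
  have h1 : ∀ h : H, (φ h : ℂ) * conj (Cfsg.indFun H (fun h => (φ h : ℂ)) (h : G)) =
      (Nat.card H : ℂ)⁻¹ * ∑ x : G, if x⁻¹ * (h : G) * x ∈ H then (1 : ℂ) else 0 := by
    intro h
    rw [indFun_apply, map_mul, map_inv₀, Complex.conj_natCast, map_sum, mul_left_comm, Finset.mul_sum]
    congr 1
    refine Finset.sum_congr rfl fun x _ => ?_
    split_ifs with hx
    · have hone : ‖(φ h : ℂ)‖ = 1 := Complex.norm_eq_one_of_pow_eq_one (n := orderOf h)
        (by rw [← Units.val_pow_eq_pow_val, ← map_pow, pow_orderOf_eq_one, map_one, Units.val_one])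
        (orderOf_pos h).ne'
      rw [extendByZero_mem H _ hx, hφ x h hx, Complex.mul_conj', hone]
      norm_num
    · rw [extendByZero_not_mem H _ hx, map_zero, mul_zero]
  rw [Finset.sum_congr rfl fun h _ => h1 h, ← Finset.mul_sum, Finset.sum_comm]
  congr 1
  refine Finset.sum_congr rfl fun x _ => ?_
  rw [Finset.sum_boole, Nat.card_eq_fintype_card, Fintype.card_subtype]

variable {G S K : Type u} [Group G] [Fintype G] [CommGroup S] [Group K] [MulDistribMulAction K S]
  [Fintype S] [Fintype K]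

namespace OneHyp

variable {Mo : Model G S K} {M : Hyp S K} {L : Subgroup K} {l : ℕ} (O : OneHyp Mo M L l)

include O

theorem card_two {y : G ⧸ Mo.H} (hy : y ≠ O.base) : Nat.card (two Mo y) = Nat.card K :=
  Nat.card_congr (Equiv.ofBijective (kap Mo y) ⟨O.kap_injective hy, O.kap_surjective hy⟩)

/-- A character of the complement which is invariant under the exchange. -/
theorem exists_mu (hx : ∃ x : K, ∃ b ∈ L, x * b ≠ b * x) {y : G ⧸ Mo.H} (hy : y ≠ O.base) {i : G}
    (hi : orderOf i = 2) (hiy : i • O.base = y) :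
    ∃ μ : K →* ℂˣ, μ ≠ 1 ∧ ∀ (d d' : two Mo y), (d' : G) = i * (d : G) * i⁻¹ →
      μ (kap Mo y d') = μ (kap Mo y d) := by
  classical
  haveI := O.normal
  haveI := O.cyclic
  let c : K →* (ZMod (Nat.card L))ˣ :=
    ((IsCyclic.mulAutMulEquiv L).symm.symm.toMonoidHom).comp MulAut.conjNormal
  have hc : ∀ k k' : K, c k = c k' ↔ ∀ b ∈ L, k * b * k⁻¹ = k' * b * k'⁻¹ := by
    intro k k'
    constructor
    · intro h b hb
      have h' : (MulAut.conjNormal k : MulAut L) = MulAut.conjNormal k' :=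
        (IsCyclic.mulAutMulEquiv L).injective h
      have h2 := congrArg (fun e : MulAut L => ((e ⟨b, hb⟩ : L) : K)) h'
      simpa only [MulAut.conjNormal_apply] using h2
    · intro h
      show (IsCyclic.mulAutMulEquiv L) _ = (IsCyclic.mulAutMulEquiv L) _
      congr 1
      refine MulEquiv.ext fun b => Subtype.ext ?_
      rw [MulAut.conjNormal_apply, MulAut.conjNormal_apply]
      exact h b b.2
  obtain ⟨x, b₀, hb₀, hxb⟩ := hx
  have hx1 : c x ≠ 1 := fun h => hxb (by
    rw [← map_one c, hc] at h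
    have h2 := h b₀ hb₀
    rw [one_mul, inv_one, mul_one] at h2
    exact mul_inv_eq_iff_eq_mul.1 h2)
  obtain ⟨φ, hφ⟩ := CommGroup.exists_apply_ne_one_of_hasEnoughRootsOfUnity c.range ℂ
    (a := ⟨c x, x, rfl⟩) (fun h => hx1 (congrArg Subtype.val h))
  refine ⟨φ.comp c.rangeRestrict, fun h => hφ ?_, fun d d' hd => ?_⟩
  · exact DFunLike.congr_fun h x
  rw [MonoidHom.comp_apply, MonoidHom.comp_apply]
  congr 1
  refine Subtype.ext ?_
  show c (kap Mo y d') = c (kap Mo y d)
  rw [hc]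
  have hii : i * i = 1 := by rw [← pow_two, ← hi, pow_orderOf_eq_one]
  -- the generator of the normal subgroup is inverted
  obtain ⟨g, hg⟩ := IsCyclic.exists_monoid_generator (α := L)
  have hordg : orderOf (g : K) = Nat.card L := by
    rw [Subgroup.orderOf_coe]
    exact orderOf_eq_card_of_forall_mem_powers hg
  obtain ⟨a, ha, haord⟩ := O.exists_full hy g.2
  have hinv := O.inverts_base hy a.2.1 a.2.2 (haord.trans hordg) hi hiy
  intro b hb
  obtain ⟨n, hn⟩ := (Submonoid.mem_powers_iff _ _).1 (hg ⟨b, hb⟩)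
  have hbn : kap Mo y (a ^ n) = b := by
    rw [map_pow, ha, ← SubmonoidClass.coe_pow, hn]
  -- conjugates of L
  obtain ⟨m, hm⟩ := (Submonoid.mem_powers_iff _ _).1
    (hg ⟨kap Mo y d * b⁻¹ * (kap Mo y d)⁻¹, O.normal.conj_mem _ (inv_mem hb) _⟩)
  have hm' : kap Mo y (a ^ m) = kap Mo y (d * (a ^ n)⁻¹ * d⁻¹) := by
    rw [map_mul, map_mul, map_inv, map_inv, hbn, map_pow, ha, ← SubmonoidClass.coe_pow, hm]
  have hm2 : (a : G) ^ m = (d : G) * ((a : G) ^ n)⁻¹ * (d : G)⁻¹ :=
    (congrArg Subtype.val (O.kap_injective hy hm') : _)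
  have hconj : ∀ j : ℕ, i * (a : G) ^ j * i⁻¹ = ((a : G) ^ j)⁻¹ := fun j => by
    rw [← conj_pow, hinv, inv_pow]
  have key : d' * a ^ n * d'⁻¹ = d * a ^ n * d⁻¹ := Subtype.ext (by
    simp only [Subgroup.coe_mul, Subgroup.coe_inv, Subgroup.coe_pow, hd]
    calc i * (d : G) * i⁻¹ * (a : G) ^ n * (i * (d : G) * i⁻¹)⁻¹
        = i * ((d : G) * (i⁻¹ * (a : G) ^ n * i) * (d : G)⁻¹) * i⁻¹ := by group
      _ = i * ((d : G) * ((a : G) ^ n)⁻¹ * (d : G)⁻¹) * i⁻¹ := by
          rw [inv_eq_of_mul_eq_one_right hii]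
          have := hconj n
          rw [inv_eq_of_mul_eq_one_right hii] at this
          rw [this]
      _ = ((a : G) ^ m)⁻¹ := by rw [← hm2, hconj]
      _ = _ := by rw [hm2]; group)
  have := congrArg (kap Mo y) key
  simpa only [map_mul, map_inv, hbn] using this

/-- The character is invariant under fusion. -/
theorem lambda_inv {y : G ⧸ Mo.H} (hy : y ≠ O.base) {i : G} (hi : orderOf i = 2)
    (hiy : i • O.base = y) {μ : K →* ℂˣ}
    (hμ : ∀ (d d' : two Mo y), (d' : G) = i * (d : G) * i⁻¹ → μ (kap Mo y d') = μ (kap Mo y d))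
    (x : G) (h : Mo.H) (hx : x⁻¹ * (h : G) * x ∈ Mo.H) :
    μ.comp (rt Mo) ⟨_, hx⟩ = μ.comp (rt Mo) h := by
  classical
  set φ := μ.comp (rt Mo) with hφdef
  have hin : ∀ (z : G) (hz : z ∈ Mo.H) (h : Mo.H),
      φ ⟨z * (h : G) * z⁻¹, mul_mem (mul_mem hz h.2) (inv_mem hz)⟩ = φ h := by
    intro z hz h
    rw [show (⟨z * (h : G) * z⁻¹, mul_mem (mul_mem hz h.2) (inv_mem hz)⟩ : Mo.H) =
      ⟨z, hz⟩ * h * ⟨z, hz⟩⁻¹ from rfl, map_mul, map_mul, map_inv, mul_right_comm, mul_inv_cancel,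
      one_mul]
  by_cases hxH : x ∈ Mo.H
  · rw [← hin x hxH ⟨_, hx⟩]
    congr 1
    exact Subtype.ext (by group)
  have hii : i * i = 1 := by rw [← pow_two, ← hi, pow_orderOf_eq_one]
  have hib : i • y = O.base := O.swap_back hi hiy
  have hnb : x⁻¹ • O.base ≠ O.base := fun e => hxH (by simpa using inv_mem (O.base_iff.1 e))
  obtain ⟨s, hs⟩ := O.exists_emb_smul hy hnb
  set h' := ((Mo.emb s : G) * i)⁻¹ * x⁻¹ with hh'
  have hh'H : h' ∈ Mo.H := O.base_iff.1 (by
    rw [hh', mul_smul, inv_smul_eq_iff, mul_smul, hiy, hs])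
  have hxi : x⁻¹ = (Mo.emb s : G) * i * h' := by rw [hh', mul_inv_cancel_left]
  set z := h' * (h : G) * h'⁻¹ with hz
  have hzH : z ∈ Mo.H := mul_mem (mul_mem hh'H h.2) (inv_mem hh'H)
  have heq : x⁻¹ * (h : G) * x = (Mo.emb s : G) * (i * z * i⁻¹) * (Mo.emb s : G)⁻¹ := by
    conv_lhs => rw [hxi, show x = ((Mo.emb s : G) * i * h')⁻¹ by rw [← hxi, inv_inv]]
    rw [hz]
    group
  have hiz : i * z * i⁻¹ ∈ Mo.H := by
    have h1 := mul_mem (mul_mem (inv_mem (Mo.emb_mem s)) hx) (Mo.emb_mem s)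
    rw [heq] at h1
    simpa [mul_assoc] using h1
  have hzy : z • y = y := by
    have h1 := O.base_iff.2 hiz
    rw [inv_eq_of_mul_eq_one_right hii, mul_smul, mul_smul, hiy] at h1
    rw [← smul_left_cancel_iff i, h1, hib]
  have hizy : (i * z * i⁻¹) • y = y := by
    rw [inv_eq_of_mul_eq_one_right hii, mul_smul, mul_smul, hib, O.base_iff.2 hzH, hiy]
  have h3 := hμ ⟨z, hzH, hzy⟩ ⟨i * z * i⁻¹, hiz, hizy⟩ rfl
  have h4 : φ ⟨i * z * i⁻¹, hiz⟩ = φ ⟨z, hzH⟩ := h3
  rw [← hin h' hh'H h, ← h4, ← hin _ (Mo.emb_mem s) ⟨_, hiz⟩]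
  congr 1
  exact Subtype.ext heq

theorem false [IsSimpleGroup G] (hx : ∃ x : K, ∃ b ∈ L, x * b ≠ b * x) : False := by
  classical
  have hidx := O.index_eq
  obtain ⟨y, hy⟩ : ∃ y : G ⧸ Mo.H, y ≠ O.base := by
    have h1 : 1 < Nat.card (G ⧸ Mo.H) := by
      rw [← Subgroup.index, hidx]
      have := Nat.card_pos (α := S)
      omega
    haveI := Finite.one_lt_card_iff_nontrivial.1 h1
    exact exists_ne _
  obtain ⟨⟨i, hi, hiy⟩⟩ : Nonempty (Invol.SwapInv O.base y) := by
    refine (Nat.card_pos_iff.1 ?_).1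
    rw [Invol.card_swapInv Mo.se (Ne.symm hy), O.card_invol_H]
    exact M.f_pos
  obtain ⟨μ, hμ1, hμ⟩ := O.exists_mu hx hy hi hiy
  set φ := μ.comp (rt Mo) with hφdef
  have hφinv := O.lambda_inv hy hi hiy hμ
  have hφ1 : φ ≠ 1 := fun e => hμ1 (MonoidHom.ext fun k => by
    obtain ⟨h, hh⟩ := Mo.surj (SemidirectProduct.inr k)
    have := DFunLike.congr_fun e h
    rw [hφdef, MonoidHom.comp_apply, rt, MonoidHom.comp_apply, hh] at this
    simpa using this)
  set ψ := Cfsg.indFun Mo.H fun h => (φ h : ℂ) with hψ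
  have hψc : Cfsg.IsCharacter G ψ :=
    isCharacter_indFun _ (IsIrrCharacter.isCharacter (isIrrCharacter_linear φ))
  have hH : (Nat.card Mo.H : ℂ) ≠ 0 := Nat.cast_ne_zero.2 Nat.card_pos.ne'
  -- the norm
  have hnorm : Cfsg.classInner ψ ψ = 2 := by
    rw [hψ, classInner_indFun_linear φ hφinv]
    have hcard : ∀ x : G, Nat.card {h : Mo.H // x⁻¹ * (h : G) * x ∈ Mo.H} =
        if x ∈ Mo.H then Nat.card Mo.H else Nat.card K := by
      intro x
      split_ifs with hxH
      · exact Nat.card_congr (Equiv.subtypeUnivEquiv fun h =>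
          mul_mem (mul_mem (inv_mem hxH) h.2) hxH)
      · have hne : x • O.base ≠ O.base := fun e => hxH (O.base_iff.1 e)
        rw [← O.card_two hne]
        have hiff : ∀ g : G, x⁻¹ * g * x ∈ Mo.H ↔ g • x • O.base = x • O.base := fun g => by
          rw [← O.base_iff, mul_smul, mul_smul, inv_smul_eq_iff]
        refine Nat.card_congr
          { toFun := fun h => ⟨(h.1 : G), h.1.2, (hiff _).1 h.2⟩
            invFun := fun g => ⟨⟨g.1, g.2.1⟩, (hiff _).2 g.2.2⟩
            left_inv := fun _ => rfl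
            right_inv := fun _ => rfl }
    have hcount : ∑ x : G, Nat.card {h : Mo.H // x⁻¹ * (h : G) * x ∈ Mo.H} =
        2 * (Nat.card Mo.H * Nat.card Mo.H) := by
      have hn : (Finset.univ.filter fun x : G => x ∈ Mo.H).card = Nat.card Mo.H := by
        rw [Nat.card_eq_fintype_card, Fintype.card_subtype]
      have hn' : (Finset.univ.filter fun x : G => x ∉ Mo.H).card = Nat.card S * Nat.card Mo.H := by
        have h1 := Finset.card_filter_add_card_filter_not (s := (Finset.univ : Finset G))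
          (fun x : G => x ∈ Mo.H)
        rw [hn, Finset.card_univ, ← Nat.card_eq_fintype_card, ← Subgroup.index_mul_card Mo.H, hidx,
          add_mul, one_mul] at h1
        omega
      have hHK : Nat.card Mo.H = Nat.card S * Nat.card K := by
        rw [Mo.card_H, O.core, Subgroup.card_bot, one_mul, M.card_SK, M.card_K]
      rw [Finset.sum_congr rfl fun x _ => hcard x, Finset.sum_ite, Finset.sum_const, Finset.sum_const,
        hn, hn', smul_eq_mul, smul_eq_mul]
      nlinarith [hHK]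
    rw [← Nat.cast_sum, hcount]
    push_cast
    field_simp
  have hone : ψ 1 = (Nat.card S : ℂ) + 1 := by
    rw [hψ, indFun_one_apply, hidx, map_one, Units.val_one, mul_one]
    push_cast
    ring
  have hts : Even (orderOf (Mo.tG M)) := by rw [Mo.orderOf_tG M]; exact even_two
  have ht : ψ (Mo.tG M) = 1 := by
    rw [hψ, indFun_apply]
    have hterm : ∀ x : G, Cfsg.extendByZero Mo.H (fun h => (φ h : ℂ)) (x⁻¹ * Mo.tG M * x) =
        if x ∈ Mo.H then 1 else 0 := by
      intro x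
      split_ifs with hxH
      · have hmem : x⁻¹ * Mo.tG M * x ∈ Mo.H := mul_mem (mul_mem (inv_mem hxH) (Mo.tG_mem M)) hxH
        rw [extendByZero_mem _ _ hmem, hφinv x ⟨_, Mo.tG_mem M⟩ hmem]
        have h1 : rt Mo ⟨_, Mo.tG_mem M⟩ = 1 := by
          show (Mo.proj ⟨_, Mo.tG_mem M⟩).right = 1
          rw [← Mo.pr_eq, show Mo.tG M = (Mo.emb M.t : G) from rfl, Mo.pr_emb,
            SemidirectProduct.right_inl]
        rw [MonoidHom.comp_apply, h1, map_one, Units.val_one]
      · refine extendByZero_not_mem _ _ fun hc => hxH ?_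
        have := inv_mem (Mo.mem_of_conj (g := x⁻¹) (Mo.tG_mem M) hts (by rwa [inv_inv]))
        rwa [inv_inv] at this
    rw [Finset.sum_congr rfl fun x _ => hterm x, Finset.sum_boole,
      ← Fintype.card_subtype, ← Nat.card_eq_fintype_card]
    exact inv_mul_cancel₀ hH
  obtain ⟨m, hm⟩ := IsCharacter.exists_decomp hψc
  have hm0 : m (Char.principal G) = 0 := by
    have h1 := classInner_combination (fun χ => (m χ : ℂ)) (Char.principal G)
    rw [← hm, hψ, classInner_indFun_left _ _ (IsCharacter.isClassFunction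
      (IsIrrCharacter.isCharacter (Char.principal G).2)), Cfsg.classInner] at h1
    have h0 : ∑ h : Mo.H, (φ h : ℂ) = 0 := sum_hom_units_eq_zero ((Units.coeHom ℂ).comp φ) fun e =>
      hφ1 (MonoidHom.ext fun a => Units.ext (DFunLike.congr_fun e a))
    simp only [Char.principal, map_one, mul_one, h0, mul_zero] at h1
    exact_mod_cast h1.symm
  rw [hm, classInner_combination₂] at hnorm
  simp only [map_natCast] at hnorm
  have hsq : ∑ χ, m χ * m χ = 2 := by exact_mod_cast hnorm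
  -- the multiplicities
  have hk : ∀ χ : IrrCharacter G, ∃ k : ℕ, m χ ≤ m χ * k ∧
      (m χ : ℂ) * (χ : G → ℂ) 1 = (m χ : ℂ) * (χ : G → ℂ) (Mo.tG M) + (Nat.card S : ℂ) * (m χ * k : ℕ) := by
    intro χ
    by_cases hχ : χ = Char.principal G
    · exact ⟨0, by simp [hχ, hm0], by simp [hχ, hm0]⟩
    obtain ⟨k, hk1, hk⟩ := Mo.mult_pos M O.elem hχ
    refine ⟨k, Nat.le_mul_of_pos_right _ hk1, ?_⟩
    rw [irr_one_eq_charDegree, hk]
    push_cast
    ring
  choose k hk1 hk2 using hk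
  have hsum : ψ 1 = ψ (Mo.tG M) + (Nat.card S : ℂ) * (∑ χ, m χ * k χ : ℕ) := by
    rw [hm]
    simp only [Finset.sum_apply, Pi.smul_apply, smul_eq_mul, Nat.cast_sum, Finset.mul_sum,
      ← Finset.sum_add_distrib]
    exact Finset.sum_congr rfl fun χ _ => hk2 χ
  rw [hone, ht, add_comm, add_right_inj] at hsum
  have hq : (Nat.card S : ℂ) ≠ 0 := Nat.cast_ne_zero.2 Nat.card_pos.ne'
  have hsum' : (∑ χ, m χ * k χ : ℕ) = 1 := by
    have h1 := mul_left_cancel₀ hq ((mul_one _).trans hsum)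
    exact_mod_cast h1.symm
  have hle : ∑ χ, m χ ≤ 1 := (Finset.sum_le_sum fun χ _ => hk1 χ).trans hsum'.le
  have hle2 : ∑ χ, m χ * m χ ≤ ∑ χ, m χ := Finset.sum_le_sum fun χ _ => by
    have := (Finset.single_le_sum (fun j _ => Nat.zero_le (m j)) (Finset.mem_univ χ)).trans hle
    interval_cases m χ <;> simp
  omega

end OneHyp

end Cfsg.Agent.AbelInv
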