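import Cfsg.Agent.S0205
import Cfsg.Agent.S2904
import Cfsg.Agent.Lib.Solvable.TransLinear.Main
import Cfsg.Agent.Lib.Solvable.TransLinear.SubspaceTrans

/-!
A group of odd order transitive on the involutions of an abelian 2-group is semilinear on them.
-/

set_option autoImplicit false
set_option linter.unusedSectionVars false
set_option linter.style.haveILetI false

namespace Cfsg.Agent.AbelInv

universe u

/-- A prime dividing `2^r - 1` and no proper value over an odd divisor. -/
theorem exists_prime {r : ℕ} (hr : 3 ≤ r) :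
    ∃ l : ℕ, l.Prime ∧ l ∣ 2 ^ r - 1 ∧ r < l ∧
      ∀ d, d ∣ r → Odd d → 1 < d → ¬ l ∣ 2 ^ (r / d) - 1 := by
  by_cases h6 : r = 6
  · subst h6
    refine ⟨7, by norm_num, by norm_num, by norm_num, fun d hd ho h1 => ?_⟩
    have := Nat.le_of_dvd (by norm_num) hd
    interval_cases d <;> simp_all +decide
  obtain ⟨l, hl, hlr, hmin⟩ := Cfsg.Agent.S2904.result 2 r one_lt_two (by omega) (fun h => h6 h.2)
    (fun h => by omega)
  refine ⟨l, hl, hlr, ?_, fun d hd ho h1 => hmin _ (Nat.div_pos (Nat.le_of_dvd (by omega) hd)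
    (by omega)) (Nat.div_lt_self (by omega) h1)⟩
  by_contra hle
  have hl2 : l ≠ 2 := by
    rintro rfl
    have h2 : 2 ∣ 2 ^ r := dvd_pow_self 2 (by omega)
    have := Nat.dvd_sub h2 hlr
    rw [Nat.sub_sub_self Nat.one_le_two_pow] at this
    exact absurd this (by decide)
  refine hmin (l - 1) (by have := hl.two_le; omega) (by omega) ?_
  haveI := Fact.mk hl
  rw [← Nat.modEq_iff_dvd' Nat.one_le_two_pow]
  have := Nat.ModEq.pow_totient (x := 2) (n := l) ((Nat.coprime_primes Nat.prime_two hl).2 (Ne.symm hl2))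
  rw [Nat.totient_prime hl] at this
  exact this.symm

section Field

variable {F : Type} [Field F] [Fintype F]

/-- The fixed points of an automorphism of a field of order a power of two. -/
theorem card_fixed {r : ℕ} (hF : Nat.card F = 2 ^ r) (σ : F ≃+* F) :
    orderOf σ ∣ r ∧ Nat.card {v : F // σ v = v} = 2 ^ (r / orderOf σ) := by
  classical
  let G : Subgroup (F ≃+* F) := Subgroup.zpowers σ
  haveI : Finite (F ≃+* F) := Finite.of_injective (fun f => (f : F → F)) DFunLike.coe_injective
  haveI : Fintype G := Fintype.ofFinite _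
  haveI : FaithfulSMul G F := ⟨fun {a b} h => Subtype.ext (RingEquiv.ext h)⟩
  have hfix : ∀ v : F, v ∈ FixedPoints.subfield G F ↔ σ v = v := by
    intro v
    refine ⟨fun h => h ⟨σ, Subgroup.mem_zpowers σ⟩, fun h g => ?_⟩
    have hg : (g : F ≃+* F) ∈ MulAction.stabilizer (F ≃+* F) v :=
      (Subgroup.zpowers_le.2 (show σ ∈ MulAction.stabilizer (F ≃+* F) v from h)) g.2
    exact hg
  have h1 := FixedPoints.finrank_eq_card G F
  haveI : Fintype (FixedPoints.subfield G F) := Fintype.ofFinite _
  have h2 := Module.card_eq_pow_finrank (K := FixedPoints.subfield G F) (V := F)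
  rw [h1, ← Nat.card_eq_fintype_card, ← Nat.card_eq_fintype_card, ← Nat.card_eq_fintype_card, hF,
    Nat.card_zpowers] at h2
  set c := Nat.card (FixedPoints.subfield G F) with hc
  have hcv : Nat.card {v : F // σ v = v} = c :=
    Nat.card_congr (Equiv.subtypeEquivRight fun v => (hfix v).symm)
  obtain ⟨j, -, hj⟩ := (Nat.dvd_prime_pow Nat.prime_two).1
    (show c ∣ 2 ^ r from h2 ▸ dvd_pow_self c (orderOf_pos σ).ne')
  rw [hj, ← pow_mul] at h2
  have hjr : j * orderOf σ = r := (Nat.pow_right_injective le_rfl h2).symm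
  refine ⟨hjr ▸ dvd_mul_left _ _, ?_⟩
  rw [hcv, hj, ← hjr, Nat.mul_div_cancel _ (orderOf_pos σ)]

end Field

open Cfsg.Agent.TransLin in
/-- The automorphisms of the field with `2^r` elements. -/
theorem ringAut_cyclic (r : ℕ) [NeZero r] :
    IsCyclic (GaloisField 2 r ≃+* GaloisField 2 r) ∧
      Nat.card (GaloisField 2 r ≃+* GaloisField 2 r) = r := by
  refine ⟨?_, SubspaceTrans.card_ringAut 2 r (NeZero.ne r)⟩
  let e : (GaloisField 2 r ≃ₐ[ZMod 2] GaloisField 2 r) →* (GaloisField 2 r ≃+* GaloisField 2 r) :=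
    { toFun := fun f => f.toRingEquiv
      map_one' := rfl
      map_mul' := fun _ _ => rfl }
  refine isCyclic_of_surjective e fun f => ⟨AlgEquiv.ofRingEquiv (f := f) fun x =>
    RingHom.congr_fun (Subsingleton.elim (f.toRingHom.comp (algebraMap (ZMod 2) (GaloisField 2 r)))
      (algebraMap (ZMod 2) (GaloisField 2 r))) x, rfl⟩

variable {S K : Type u} [CommGroup S] [Group K] [MulDistribMulAction K S] [Finite S] [Finite K]

include K in
/-- An element of odd order fixing the involutions of an abelian 2-group fixes the group. -/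
theorem fix_all (h2 : IsPGroup 2 S) {x : K} (hx : Odd (orderOf x))
    (h : ∀ z : S, z * z = 1 → x • z = z) (s : S) : x • s = s := by
  obtain ⟨k, hk⟩ := h2 s
  induction k generalizing s with
  | zero => rw [pow_zero, pow_one] at hk; rw [hk, smul_one]
  | succ k ih =>
    have hs2 : x • (s ^ 2) = s ^ 2 := ih _ (by rwa [← pow_mul, ← pow_succ'])
    set z := x • s * s⁻¹ with hz
    have hzz : z * z = 1 := by
      rw [hz, mul_mul_mul_comm, ← pow_two, ← smul_pow', hs2, pow_two, ← mul_inv, mul_inv_cancel]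
    have hxs : x • s = z * s := by rw [hz, inv_mul_cancel_right]
    have hn : ∀ n : ℕ, x ^ n • s = z ^ n * s := by
      intro n
      induction n with
      | zero => rw [pow_zero, one_smul, pow_zero, one_mul]
      | succ n ihn =>
        rw [pow_succ', mul_smul, ihn, smul_mul', smul_pow', h z hzz, hxs, ← mul_assoc, ← pow_succ]
    have h1 := hn (orderOf x)
    rw [pow_orderOf_eq_one, one_smul] at h1
    have h3 : z ^ orderOf x = 1 := mul_right_cancel (b := s) (by rw [← h1, one_mul])
    obtain ⟨j, hj⟩ := hx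
    rw [hj, pow_succ, pow_mul, pow_two, hzz, one_pow, one_mul] at h3
    rw [hxs, h3, one_mul]

/-- What is known about the action. -/
structure Shape (S K : Type u) [CommGroup S] [Group K] [MulDistribMulAction K S] (t : S) (r : ℕ) : Prop where
  card_invols : Nat.card {z : S // z * z = 1} = 2 ^ r
  cyclic : IsCyclic (MulAction.stabilizer K t)
  dvd : Nat.card (MulAction.stabilizer K t) ∣ r
  fixed : ∀ x ∈ MulAction.stabilizer K t,
    Nat.card {z : S // z * z = 1 ∧ x • z = z} = 2 ^ (r / orderOf x)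
  torus : ∃ (l : ℕ) (L : Subgroup K), l.Prime ∧ r < l ∧ l ∣ 2 ^ r - 1 ∧ L.Normal ∧ IsCyclic L ∧ IsPGroup l L ∧
    ¬ l ∣ L.index ∧ (∀ a ∈ L, ∀ z : S, z * z = 1 → z ≠ 1 → a • z = z → a = 1) ∧
    ∀ x ∈ MulAction.stabilizer K t, x ≠ 1 → ∀ a ∈ L, x * a = a * x → a = 1

theorem shape (h2 : IsPGroup 2 S) (hodd : Odd (Nat.card K))
    (hfaith : ∀ k : K, (∀ s : S, k • s = s) → k = 1) {t : S} (ht : t * t = 1) (ht1 : t ≠ 1)
    (htrans : ∀ z : S, z * z = 1 → z ≠ 1 → ∃ k : K, k • t = z) {r : ℕ} (hr : 3 ≤ r)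
    (hcard : Nat.card {z : S // z * z = 1} = 2 ^ r) : Shape S K t r := by
  classical
  let E : Subgroup S := (powMonoidHom 2 : S →* S).ker
  have hE : ∀ z : S, z ∈ E ↔ z * z = 1 := fun z => by rw [MonoidHom.mem_ker, powMonoidHom_apply, pow_two]
  have hEc : ∀ (k : K) (z : S), z ∈ E → k • z ∈ E := fun k z hz => by
    rw [hE] at hz ⊢
    rw [← smul_mul', hz, smul_one]
  letI : DistribMulAction K (Additive E) :=
    { smul := fun k v => Additive.ofMul ⟨k • ((Additive.toMul v : E) : S), hEc k _ (Additive.toMul v).2⟩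
      one_smul := fun v => congrArg Additive.ofMul (Subtype.ext (one_smul K _))
      mul_smul := fun a b v => congrArg Additive.ofMul (Subtype.ext (mul_smul a b _))
      smul_zero := fun k => congrArg Additive.ofMul (Subtype.ext (smul_one k))
      smul_add := fun k v w => congrArg Additive.ofMul (Subtype.ext (smul_mul' k _ _)) }
  have hval : ∀ (k : K) (v : Additive E),
      ((Additive.toMul (k • v) : E) : S) = k • ((Additive.toMul v : E) : S) := fun _ _ => rfl
  haveI : Group.IsSolvable K := Cfsg.Agent.S0205.result hodd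
  have hset : TransLin.Setup K (Additive E) 2 := by
    refine ⟨Nat.prime_two, fun v => ?_, fun g hg => hfaith g (fix_all h2
      (hodd.of_dvd_nat (orderOf_dvd_natCard g)) fun z hz => ?_), fun v w hv hw => ?_,
      ⟨Additive.ofMul ⟨t, (hE t).2 ht⟩, fun h => ht1 (congrArg Subtype.val h :)⟩⟩
    · rw [two_nsmul]
      exact congrArg Additive.ofMul (Subtype.ext ((hE _).1 (Additive.toMul v).2))
    · exact congrArg (fun v : Additive E => ((Additive.toMul v : E) : S))
        (hg (Additive.ofMul ⟨z, (hE z).2 hz⟩))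
    · have hne : ∀ v : Additive E, v ≠ 0 → ((Additive.toMul v : E) : S) ≠ 1 := fun v hv h =>
        hv (congrArg Additive.ofMul (Subtype.ext h : (Additive.toMul v : E) = 1))
      obtain ⟨a, ha⟩ := htrans _ ((hE _).1 (Additive.toMul v).2) (hne v hv)
      obtain ⟨b, hb⟩ := htrans _ ((hE _).1 (Additive.toMul w).2) (hne w hw)
      refine ⟨b * a⁻¹, congrArg Additive.ofMul (Subtype.ext ?_)⟩
      show (b * a⁻¹) • ((Additive.toMul v : E) : S) = _
      rw [mul_smul, ← ha, inv_smul_smul, hb]
      rfl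
  have hcE : Nat.card (Additive E) = 2 ^ r := by
    rw [← hcard]
    exact Nat.card_congr (Additive.toMul.trans (Equiv.subtypeEquivRight hE))
  obtain ⟨F₀, iF, iFF, e₀, he₀⟩ : ∃ (F : Type) (_ : Field F) (_ : Fintype F) (e : Additive E ≃+ F),
      ∀ g : K, ∃ (a : F) (σ : F ≃+* F), ∀ v, e (g • v) = a * σ (e v) := by
    rcases TransLin.huppert hset with h | h
    · exact h
    · exfalso
      rw [hcE] at h
      simp only [Set.mem_insert_iff, Set.mem_singleton_iff] at h
      have h2' : 2 ∣ 2 ^ r := dvd_pow_self 2 (by omega)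
      rcases h with h | h | h | h | h | h <;> rw [h] at h2' <;> norm_num at h2'
  haveI : NeZero r := ⟨by omega⟩
  haveI : Fintype (GaloisField 2 r) := Fintype.ofFinite _
  let φ : F₀ ≃+* GaloisField 2 r := FiniteField.ringEquivOfCardEq (by
    rw [← Nat.card_eq_fintype_card, ← Nat.card_eq_fintype_card, GaloisField.card 2 r (by omega), ← hcE]
    exact Nat.card_congr e₀.toEquiv.symm)
  let e := e₀.trans φ.toAddEquiv
  have hsem : ∀ g : K, ∃ (a : GaloisField 2 r) (σ : GaloisField 2 r ≃+* GaloisField 2 r),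
      ∀ v, e (g • v) = a * σ (e v) := fun g => by
    obtain ⟨a, σ, h⟩ := he₀ g
    refine ⟨φ a, (φ.symm.trans σ).trans φ, fun v => ?_⟩
    show φ (e₀ (g • v)) = φ a * φ (σ (φ.symm (φ (e₀ v))))
    rw [RingEquiv.symm_apply_apply, h, map_mul]
  choose a σ hσ using hsem
  have hact : ∀ g (w : GaloisField 2 r), e (g • e.symm w) = a g * σ g w := fun g w => by
    rw [hσ, AddEquiv.apply_symm_apply]
  have ha0 : ∀ g, a g ≠ 0 := fun g h => by
    have h1 := hσ g (Additive.ofMul ⟨t, (hE t).2 ht⟩)
    rw [h, zero_mul, e.map_eq_zero_iff, smul_eq_zero_iff_eq] at h1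
    exact ht1 (congrArg Subtype.val h1 :)
  have huniq : ∀ g (b : GaloisField 2 r) (τ : GaloisField 2 r ≃+* GaloisField 2 r),
      (∀ w, e (g • e.symm w) = b * τ w) → a g = b ∧ σ g = τ := by
    intro g b τ h
    have h1 := (hact g 1).symm.trans (h 1)
    rw [map_one, map_one, mul_one, mul_one] at h1
    exact ⟨h1, RingEquiv.ext fun w => mul_left_cancel₀ (ha0 g) ((hact g w).symm.trans (h1 ▸ h w))⟩
  let π : K →* (GaloisField 2 r ≃+* GaloisField 2 r) := MonoidHom.mk' σ fun g h =>
    (huniq (g * h) (a g * σ g (a h)) (σ g * σ h) fun w => by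
      rw [mul_smul, ← e.symm_apply_apply (h • e.symm w), hact, hact, map_mul, mul_assoc]
      rfl).2
  have hcomp : ∀ g h, a (g * h) = a g * σ g (a h) := fun g h =>
    (huniq (g * h) (a g * σ g (a h)) (σ g * σ h) fun w => by
      rw [mul_smul, ← e.symm_apply_apply (h • e.symm w), hact, hact, map_mul, mul_assoc]
      rfl).1
  have hext : ∀ g h : K, a g = a h → σ g = σ h → g = h := by
    intro g h e1 e2
    refine inv_mul_eq_one.1 (hset.faithful _ fun v => ?_) |>.symm
    have : e (h • v) = e (g • v) := by rw [hσ, hσ, e1, e2]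
    rw [mul_smul, ← e.injective this, inv_smul_smul]
  obtain ⟨hcyc, hcardA⟩ := ringAut_cyclic r
  haveI : Finite (GaloisField 2 r ≃+* GaloisField 2 r) :=
    Nat.finite_of_card_ne_zero (by rw [hcardA]; omega)
  set v₀ := e (Additive.ofMul ⟨t, (hE t).2 ht⟩) with hv₀
  have hv0 : v₀ ≠ 0 := fun h => by
    rw [hv₀, e.map_eq_zero_iff] at h
    exact ht1 (congrArg Subtype.val h :)
  have hstab : ∀ x ∈ MulAction.stabilizer K t, a x * σ x v₀ = v₀ := fun x hx => by
    rw [hv₀, ← hσ]
    exact congrArg e (congrArg Additive.ofMul (Subtype.ext hx))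
  have hinj : Function.Injective (π.comp (MulAction.stabilizer K t).subtype) := by
    intro x y h
    have h' : σ (x : K) = σ (y : K) := h
    refine Subtype.ext (hext _ _ (mul_right_cancel₀ (b := σ (y : K) v₀) ?_ ?_) h')
    · exact fun h0 => hv0 ((map_eq_zero _).1 h0)
    · rw [hstab _ y.2, ← h', hstab _ x.2]
  refine ⟨hcard, isCyclic_of_injective _ hinj, hcardA ▸ ?_, fun x hx => ?_, ?_⟩
  · exact Subgroup.card_dvd_of_injective _ hinj
  · have hord : orderOf (σ x) = orderOf x := by
      rw [← Subgroup.orderOf_mk x hx]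
      exact orderOf_injective _ hinj ⟨x, hx⟩
    rw [← hord, ← (card_fixed (F := GaloisField 2 r)
      (GaloisField.card 2 r (by omega)) (σ x)).2]
    refine Nat.card_congr
      { toFun := fun z => ⟨e (Additive.ofMul ⟨z.1, (hE _).2 z.2.1⟩) / v₀, ?_⟩
        invFun := fun w => ⟨((Additive.toMul (e.symm (w.1 * v₀)) : E) : S),
          (hE _).1 (Additive.toMul (e.symm (w.1 * v₀))).2, ?_⟩
        left_inv := fun z => Subtype.ext (by
          show ((Additive.toMul (e.symm (_ / v₀ * v₀)) : E) : S) = z.1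
          rw [div_mul_cancel₀ _ hv0, e.symm_apply_apply]
          rfl)
        right_inv := fun w => Subtype.ext (by
          show e (e.symm (w.1 * v₀)) / v₀ = w.1
          rw [e.apply_symm_apply, mul_div_assoc, div_self hv0, mul_one]) }
    · have h1 : e (x • Additive.ofMul (⟨z.1, (hE _).2 z.2.1⟩ : E)) = _ := hσ x _
      rw [show x • Additive.ofMul (⟨z.1, (hE _).2 z.2.1⟩ : E) = Additive.ofMul ⟨z.1, (hE _).2 z.2.1⟩ from
        congrArg Additive.ofMul (Subtype.ext z.2.2)] at h1
      set w := e (Additive.ofMul (⟨z.1, (hE _).2 z.2.1⟩ : E))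
      rw [map_div₀]
      rw [div_eq_div_iff (fun h0 => hv0 ((map_eq_zero _).1 h0)) hv0]
      refine mul_left_cancel₀ (ha0 x) ?_
      rw [← mul_assoc, ← h1, mul_left_comm, hstab x hx]
    · have h1 := hact x (w.1 * v₀)
      rw [map_mul (σ x), w.2, mul_left_comm, hstab x hx] at h1
      exact congrArg (fun v : Additive E => ((Additive.toMul v : E) : S))
        (e.injective (h1.trans (e.apply_symm_apply _).symm))
  · obtain ⟨l, hl, hlf, hrl, hlmin⟩ := exists_prime hr
    have hlr : ¬ l ∣ r := fun h => absurd (Nat.le_of_dvd (by omega) h) (not_le.2 hrl)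
    haveI := Fact.mk hl
    obtain ⟨L⟩ : Nonempty (Sylow l K) := inferInstance
    have hker : ∀ g : K, (∃ k, g ^ l ^ k = 1) → σ g = 1 := by
      rintro g ⟨k, hk⟩
      rw [← orderOf_eq_one_iff]
      refine Nat.eq_one_of_dvd_coprimes ((Nat.Coprime.pow_left k (hl.coprime_iff_not_dvd.2 hlr)))
        (orderOf_dvd_of_pow_eq_one ((map_pow π g (l ^ k)).symm.trans ((congrArg π hk).trans (map_one π))))
        ((orderOf_dvd_natCard _).trans (dvd_of_eq hcardA))
    have hLσ : ∀ g ∈ (L : Subgroup K), σ g = 1 := fun g hg => hker g (by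
      obtain ⟨k, hk⟩ := L.2 ⟨g, hg⟩
      exact ⟨k, congrArg Subtype.val hk⟩)
    let α : π.ker →* GaloisField 2 r :=
      { toFun := fun g => a g
        map_one' := (huniq 1 1 1 fun w => by rw [one_smul, e.apply_symm_apply, one_mul]; rfl).1
        map_mul' := fun g h => by
          show a ((g : K) * h) = _
          rw [hcomp, show σ (g : K) = 1 from MonoidHom.mem_ker.1 g.2]
          rfl }
    have hα : Function.Injective α := fun g h e1 =>
      Subtype.ext (hext _ _ e1 ((MonoidHom.mem_ker.1 g.2).trans (MonoidHom.mem_ker.1 h.2).symm))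
    have hLker : (L : Subgroup K) ≤ π.ker := fun g hg => hLσ g hg
    haveI : IsCyclic (L : Subgroup K) := isCyclic_of_subgroup_isDomain
      (α.comp (Subgroup.inclusion hLker)) (hα.comp (Subgroup.inclusion_injective hLker))
    haveI hkc : IsCyclic π.ker := isCyclic_of_subgroup_isDomain α hα
    have hnormal : (L : Subgroup K).Normal := by
      refine ⟨fun n hn g => ?_⟩
      obtain ⟨k, hk⟩ := L.2 ⟨n, hn⟩
      have hk' : n ^ l ^ k = 1 := congrArg Subtype.val hk
      have hc : IsPGroup l (Subgroup.zpowers (g * n * g⁻¹)) := by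
        obtain ⟨j, -, hj⟩ := (Nat.dvd_prime_pow hl).1 (show orderOf (g * n * g⁻¹) ∣ l ^ k from
          orderOf_dvd_of_pow_eq_one (by rw [conj_pow, hk', mul_one, mul_inv_cancel]))
        exact IsPGroup.of_card (n := j) (by rw [Nat.card_zpowers, hj])
      have hnorm : Subgroup.zpowers (g * n * g⁻¹) ≤ Subgroup.normalizer (L : Set K) := by
        refine Subgroup.zpowers_le.2 ?_
        refine Subgroup.centralizer_le_normalizer _ (Subgroup.mem_centralizer_iff.2 fun y hy => ?_)
        exact congrArg Subtype.val (hkc.commGroup.mul_comm ⟨y, hLker hy⟩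
          ⟨_, π.normal_ker.conj_mem n (hLker hn) g⟩ :)
      have hP : IsPGroup l (Subgroup.zpowers (g * n * g⁻¹) ⊔ (L : Subgroup K) : Subgroup K) :=
        IsPGroup.to_sup_of_normal_right' hc L.2 hnorm
      rw [← L.is_maximal' hP le_sup_right]
      exact Subgroup.mem_sup_left (Subgroup.mem_zpowers _)
    refine ⟨l, L, hl, hrl, hlf, hnormal, inferInstance, L.2, L.not_dvd_index, fun g hg z hz hz1 hgz => ?_,
      fun x hx hx1 g hg hcom => ?_⟩
    · have h1 := hσ g (Additive.ofMul ⟨z, (hE z).2 hz⟩)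
      rw [show g • Additive.ofMul (⟨z, (hE z).2 hz⟩ : E) = Additive.ofMul ⟨z, (hE z).2 hz⟩ from
        congrArg Additive.ofMul (Subtype.ext hgz), hLσ g hg] at h1
      refine hext g 1 ?_ (by rw [hLσ g hg]; exact (map_one π).symm)
      rw [show a 1 = 1 from α.map_one']
      refine (mul_eq_right₀ ?_).1 h1.symm
      rw [Ne, RingAut.one_apply, e.map_eq_zero_iff]
      exact fun h => hz1 (congrArg Subtype.val h :)
    · obtain ⟨hd, hfix⟩ := card_fixed (F := GaloisField 2 r) (GaloisField.card 2 r (by omega)) (σ x)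
      have hag : σ x (a g) = a g := by
        have h1 := hcomp x g
        rw [hcom, hcomp, hLσ g hg, RingAut.one_apply, mul_comm] at h1
        exact mul_left_cancel₀ (ha0 x) h1.symm
      have hne1 : orderOf (σ x) ≠ 1 := fun h =>
        hx1 (congrArg Subtype.val (hinj (a₁ := ⟨x, hx⟩) (a₂ := 1) (by
          show σ x = π 1
          rw [map_one]
          exact orderOf_eq_one_iff.1 h)) :)
      have hodd' : Odd (orderOf (σ x)) :=
        hodd.of_dvd_nat ((orderOf_map_dvd π x).trans (orderOf_dvd_natCard x))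
      have hl1 := hlmin _ hd hodd' (by have := orderOf_pos (σ x); omega)
      obtain ⟨k, hk⟩ := L.2 ⟨g, hg⟩
      have hk' : g ^ l ^ k = 1 := congrArg Subtype.val hk
      let Fx : Subfield (GaloisField 2 r) :=
        { carrier := {v | σ x v = v}
          mul_mem' := fun {u v} hu hv => by show σ x (u * v) = u * v; rw [map_mul, hu, hv]
          one_mem' := map_one _
          add_mem' := fun {u v} hu hv => by show σ x (u + v) = u + v; rw [map_add, hu, hv]
          zero_mem' := map_zero _
          neg_mem' := fun {u} hu => by show σ x (-u) = -u; rw [map_neg, hu]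
          inv_mem' := fun u hu => by show σ x u⁻¹ = u⁻¹; rw [map_inv₀, hu] }
      haveI : Fintype Fx := Fintype.ofFinite _
      have hu0 : (⟨a g, hag⟩ : Fx) ≠ 0 := fun h => ha0 g (congrArg Subtype.val h)
      have h1 := FiniteField.pow_card_sub_one_eq_one (⟨a g, hag⟩ : Fx) hu0
      rw [← Nat.card_eq_fintype_card, show Nat.card Fx = 2 ^ (r / orderOf (σ x)) from hfix] at h1
      have h2' : a g ^ (2 ^ (r / orderOf (σ x)) - 1) = 1 := congrArg Subtype.val h1
      have h3 : a g ^ l ^ k = 1 := by
        have : α (⟨g, hLker hg⟩ ^ l ^ k) = 1 := by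
          rw [show (⟨g, hLker hg⟩ : π.ker) ^ l ^ k = 1 from Subtype.ext hk', map_one]
        rwa [map_pow] at this
      have h4 : a g = 1 := by
        rw [← pow_one (a g), ← (Nat.Coprime.pow_left k (hl.coprime_iff_not_dvd.2 hl1)).gcd_eq_one]
        exact pow_gcd_eq_one.2 ⟨h3, h2'⟩
      exact hext g 1 (h4.trans α.map_one'.symm) ((hLσ g hg).trans (map_one π).symm)

end Cfsg.Agent.AbelInv
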