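import Cfsg.Agent.Lib.AbelInv.Fibre
import Cfsg.Agent.Lib.AbelInv.Semilinear

/-!
An elementary 2-group with trivial core: the action on the cosets.
-/

set_option autoImplicit false
set_option linter.unusedSectionVars false
set_option linter.style.haveILetI false

namespace Cfsg.Agent.AbelInv

open Subgroup

universe u

variable {G S K : Type u} [Group G] [Fintype G] [CommGroup S] [Group K] [MulDistribMulAction K S]
  [Fintype S] [Fintype K]

/-- The hypotheses of this section. -/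
structure OneHyp (Mo : Model G S K) (M : Hyp S K) (L : Subgroup K) (l : ℕ) : Prop where
  core : Mo.W = ⊥
  elem : ∀ s : S, s * s = 1
  prime : l.Prime
  not_dvd : ¬ l ∣ Nat.card S * M.e
  lt : M.e < l
  three : 3 ≤ M.e
  normal : L.Normal
  cyclic : IsCyclic L
  pgroup : IsPGroup l L
  index : ¬ l ∣ L.index
  ne_bot : L ≠ ⊥

namespace OneHyp

variable {Mo : Model G S K} {M : Hyp S K} {L : Subgroup K} {l : ℕ} (O : OneHyp Mo M L l)

/-- The base coset. -/
def base (_O : OneHyp Mo M L l) : G ⧸ Mo.H := ((1 : G) : G ⧸ Mo.H)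

/-- The right component. -/
noncomputable def rt (Mo : Model G S K) : Mo.H →* K := SemidirectProduct.rightHom.comp Mo.proj

theorem base_iff {g : G} : g • O.base = O.base ↔ g ∈ Mo.H := by
  simp only [base, MulAction.Quotient.smul_mk, smul_eq_mul, mul_one, QuotientGroup.eq, inv_mem_iff]

include O

theorem proj_injective : Function.Injective Mo.proj := by
  rw [← MonoidHom.ker_eq_bot_iff, Mo.ker, O.core, bot_subgroupOf]

theorem eq_emb_of_rt {h : Mo.H} (hh : rt Mo h = 1) : ∃ s : S, (h : G) = Mo.emb s := by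
  refine ⟨(Mo.proj h).left, ?_⟩
  have e : Mo.proj h = Mo.proj ⟨Mo.emb (Mo.proj h).left, Mo.emb_mem _⟩ := by
    rw [Mo.proj_emb]
    conv_lhs => rw [← SemidirectProduct.inl_left_mul_inr_right (Mo.proj h),
      show (Mo.proj h).right = 1 from hh, map_one, mul_one]
  exact congrArg Subtype.val (O.proj_injective e)

theorem orderOf_emb {s : S} (hs : s ≠ 1) : orderOf (Mo.emb s : G) = 2 := by
  rw [Subgroup.orderOf_coe, MulEquiv.orderOf_eq, orderOf_eq_prime (by rw [pow_two, O.elem]) hs]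

theorem card_invol_H : Nat.card {u : G // orderOf u = 2 ∧ u ∈ Mo.H} = M.f := by
  classical
  rw [Hyp.f, Nat.card_eq_fintype_card, ← Finset.card_univ]
  symm
  refine Finset.card_bij (fun b hb => ⟨(Mo.emb b : G), O.orderOf_emb (Hyp.mem_invols.1 hb).2, Mo.emb_mem b⟩)
    (fun _ _ => Finset.mem_univ _) (fun a _ b _ h =>
      Mo.emb.injective (Subtype.ext (congrArg (fun u : {u : G // orderOf u = 2 ∧ u ∈ Mo.H} => (u : G)) h)))
    fun u _ => ?_
  obtain ⟨b, hb, hbe⟩ := Mo.invol_image M u.2.2 u.2.1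
  refine ⟨b, hb, Subtype.ext ?_⟩
  have e : Mo.proj ⟨Mo.emb b, Mo.emb_mem b⟩ = Mo.proj ⟨u, u.2.2⟩ := by
    rw [Mo.proj_emb, ← Mo.pr_eq u.2.2, hbe]
  have e2 := congrArg Subtype.val (O.proj_injective e)
  exact e2

theorem card_centralizer : Nat.card (centralizer ({Mo.tG M} : Set G)) = Nat.card S * M.e := by
  classical
  have h := Mo.invOver_mul_centralizer M
  have hW : Nat.card Mo.W = 1 := by rw [O.core, Subgroup.card_bot]
  have hm : (Mo.invOver M.t).card = 1 := by
    refine le_antisymm ?_ (Finset.card_pos.2 ⟨Mo.tG M,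
      Mo.mem_invOver.2 ⟨⟨Mo.tG_mem M, Mo.pr_emb M.t⟩, Mo.orderOf_tG M⟩⟩)
    refine (Finset.card_filter_le _ _).trans ?_
    rw [Mo.card_fib, hW]
  rw [hm, hW, one_mul, one_mul] at h
  exact h

/-- An element of prime power order for the prime commutes with no involution. -/
theorem no_invol {a u : G} {k : ℕ} (ha : orderOf a = l ^ k) (hk : k ≠ 0) (hu : orderOf u = 2)
    (hc : a * u = u * a) : False := by
  obtain ⟨c, hcu⟩ := isConj_iff.1 ((Mo.isConj_tG M).2 hu)
  have hmem : c⁻¹ * a * c ∈ centralizer ({Mo.tG M} : Set G) := by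
    rw [mem_centralizer_singleton_iff]
    calc c⁻¹ * a * c * Mo.tG M = c⁻¹ * (a * (c * Mo.tG M * c⁻¹)) * c := by group
      _ = c⁻¹ * ((c * Mo.tG M * c⁻¹) * a) * c := by rw [hcu, hc]
      _ = _ := by group
  have h1 := orderOf_dvd_natCard (⟨_, hmem⟩ : centralizer ({Mo.tG M} : Set G))
  rw [Subgroup.orderOf_mk, O.card_centralizer,
    show c⁻¹ * a * c = c⁻¹ * a * c⁻¹⁻¹ by rw [inv_inv], Invol.order_conj, ha] at h1
  exact O.not_dvd ((dvd_pow_self l hk).trans h1)

theorem card_L : ∃ k, k ≠ 0 ∧ Nat.card L = l ^ k := by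
  haveI := Fact.mk O.prime
  obtain ⟨k, hk⟩ := IsPGroup.iff_card.1 O.pgroup
  refine ⟨k, fun h0 => O.ne_bot ?_, hk⟩
  rw [h0, pow_zero] at hk
  exact Subgroup.card_eq_one.1 hk

theorem mem_L {k : K} (h : k ^ Nat.card L = 1) : k ∈ L := by
  haveI := O.normal
  obtain ⟨j, -, hj⟩ := O.card_L
  rw [← QuotientGroup.eq_one_iff, ← orderOf_eq_one_iff]
  refine Nat.eq_one_of_dvd_coprimes (Nat.Coprime.pow_left j (O.prime.coprime_iff_not_dvd.2 O.index))
    (hj ▸ orderOf_dvd_of_pow_eq_one ?_) ?_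
  · rw [← QuotientGroup.mk_pow, h, QuotientGroup.mk_one]
  · exact orderOf_dvd_natCard _

omit O in
/-- The stabiliser of a second coset. -/
def two (Mo : Model G S K) (y : G ⧸ Mo.H) : Subgroup G := Mo.H ⊓ MulAction.stabilizer G y

omit O in
/-- Its projection. -/
noncomputable def kap (Mo : Model G S K) (y : G ⧸ Mo.H) : two Mo y →* K :=
  (rt Mo).comp (Subgroup.inclusion inf_le_left)

theorem kap_injective {y : G ⧸ Mo.H} (hy : y ≠ O.base) : Function.Injective (kap Mo y) := by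
  rw [injective_iff_map_eq_one]
  intro d hd
  obtain ⟨s, hs⟩ := O.eq_emb_of_rt (h := ⟨(d : G), d.2.1⟩) hd
  by_cases hs1 : s = 1
  · refine Subtype.ext ?_
    rw [OneMemClass.coe_one]
    simpa [hs1] using hs
  · exfalso
    refine hy (Invol.se_fix_unique Mo.se (O.orderOf_emb hs1) ?_ (O.base_iff.2 (Mo.emb_mem s)))
    have hd2 : (d : G) • y = y := d.2.2
    rwa [show (d : G) = (Mo.emb s : G) from hs] at hd2

theorem swap_back {w : G} (hw : orderOf w = 2) {x y : G ⧸ Mo.H} (hwx : w • x = y) : w • y = x := by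
  rw [← hwx, ← mul_smul, ← pow_two, ← hw, pow_orderOf_eq_one, one_smul]

theorem f_le_card_two {y : G ⧸ Mo.H} (hy : y ≠ O.base) : M.f ≤ Nat.card (two Mo y) := by
  rw [← O.card_invol_H, ← Invol.card_swapInv Mo.se (Ne.symm hy)]
  obtain ⟨⟨w₀, hw₀, hw₀y⟩⟩ : Nonempty (Invol.SwapInv O.base y) := by
    refine (Nat.card_pos_iff.1 ?_).1
    rw [Invol.card_swapInv Mo.se (Ne.symm hy), O.card_invol_H]
    exact M.f_pos
  refine Nat.card_le_card_of_injective (fun w => (⟨w₀ * w.1, ?_, ?_⟩ : two Mo y))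
    fun a b h => Subtype.ext (mul_left_cancel (congrArg Subtype.val h :))
  · exact O.base_iff.1 (by rw [mul_smul, w.2.2, O.swap_back hw₀ hw₀y])
  · show (w₀ * w.1) • y = y
    rw [mul_smul, O.swap_back w.2.1 w.2.2, hw₀y]

theorem L_le_range {y : G ⧸ Mo.H} (hy : y ≠ O.base) : L ≤ (kap Mo y).range := by
  haveI := Fact.mk O.prime
  set R := (kap Mo y).range with hR
  have hcard : M.f ≤ Nat.card R := (O.f_le_card_two hy).trans_eq
    (Nat.card_congr (MonoidHom.ofInjective (O.kap_injective hy)).toEquiv)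
  have hidx : R.index < l := by
    have h1 : M.f * R.index ≤ M.f * M.e := by
      rw [← M.card_K, ← R.card_mul_index]
      exact Nat.mul_le_mul_right _ hcard
    exact lt_of_le_of_lt (Nat.le_of_mul_le_mul_left h1 M.f_pos) O.lt
  rw [← Subgroup.relIndex_eq_one]
  obtain ⟨j, hj⟩ := O.card_L.imp fun k hk => hk.2
  obtain ⟨i, -, hi⟩ := (Nat.dvd_prime_pow O.prime).1
    (show R.relIndex L ∣ l ^ j from hj ▸ (R.subgroupOf L).index_dvd_card)
  rcases Nat.eq_zero_or_pos i with rfl | hi0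
  · simpa using hi
  · exfalso
    have hle : R.relIndex L ≤ R.index := by
      rw [← Subgroup.relIndex_top_right]
      exact Subgroup.relIndex_le_of_le_right le_top (by
        rw [Subgroup.relIndex_top_right]; exact Subgroup.index_ne_zero_of_finite)
    have : l ≤ l ^ i := Nat.le_self_pow hi0.ne' l
    omega

/-- Full order elements over a pair. -/
theorem exists_full {y : G ⧸ Mo.H} (hy : y ≠ O.base) {b : K} (hb : b ∈ L) :
    ∃ a : two Mo y, kap Mo y a = b ∧ orderOf (a : G) = orderOf b := by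
  obtain ⟨a, ha⟩ := O.L_le_range hy hb
  refine ⟨a, ha, ?_⟩
  rw [← ha, orderOf_injective _ (O.kap_injective hy), Subgroup.orderOf_coe]

theorem inverts_base {a w : G} {y : G ⧸ Mo.H} (hy : y ≠ O.base) (ha : a ∈ Mo.H) (hay : a • y = y)
    (hord : orderOf a = Nat.card L) (hw : orderOf w = 2) (hwy : w • O.base = y) : w * a * w⁻¹ = a⁻¹ := by
  haveI := Fact.mk O.prime
  have hwi : w⁻¹ = w := inv_eq_of_mul_eq_one_right (by rw [← pow_two, ← hw, pow_orderOf_eq_one])
  have ha2 : w * a * w⁻¹ ∈ two Mo y := by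
    refine ⟨O.base_iff.1 ?_, ?_⟩
    · rw [hwi, mul_smul, mul_smul, hwy, hay, O.swap_back hw hwy]
    · show (w * a * w⁻¹) • y = y
      rw [hwi, mul_smul, mul_smul, O.swap_back hw hwy, O.base_iff.2 ha, hwy]
  set d : two Mo y := ⟨a, ha, hay⟩ with hd
  set d' : two Mo y := ⟨w * a * w⁻¹, ha2⟩ with hd'
  have ho : ∀ c : two Mo y, orderOf (c : G) = Nat.card L → kap Mo y c ∈ L := fun c hc => by
    refine O.mem_L ?_
    rw [← map_pow, show c ^ Nat.card L = 1 from Subtype.ext (by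
      rw [Subgroup.coe_pow, ← hc, pow_orderOf_eq_one]; rfl), map_one]
  have hzp : zpowers (kap Mo y d) = L := by
    refine eq_of_le_of_card_ge (zpowers_le.2 (ho d hord)) (le_of_eq ?_)
    rw [Nat.card_zpowers, orderOf_injective _ (O.kap_injective hy), ← Subgroup.orderOf_coe]
    exact hord.symm
  obtain ⟨i, hi⟩ := mem_zpowers_iff.1 (hzp.ge (ho d' (by
    show orderOf (w * a * w⁻¹) = _
    rw [Invol.order_conj, hord])))
  rw [← map_zpow] at hi
  have hai : w * a * w⁻¹ = a ^ i := (congrArg Subtype.val (O.kap_injective hy hi)).symm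
  have hii : a ^ (i * i - 1) = 1 := by
    have h1 : w * (a ^ i) * w⁻¹ = a ^ (i * i) := by rw [← conj_zpow, hai, ← zpow_mul]
    rw [← hai] at h1
    rw [zpow_sub_one, ← h1, hwi]
    calc w * (w * a * w) * w * a⁻¹ = (w * w) * a * (w * w) * a⁻¹ := by group
      _ = 1 := by rw [← pow_two, ← hw, pow_orderOf_eq_one, one_mul, mul_one, mul_inv_cancel]
  obtain ⟨k, hk0, hk⟩ := O.card_L
  have hdvd : ((l : ℤ) ^ k) ∣ (i - 1) * (i + 1) := by
    have := orderOf_dvd_iff_zpow_eq_one.2 hii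
    rw [hord, hk] at this
    rw [show (i - 1) * (i + 1) = i * i - 1 by ring]
    exact_mod_cast this
  have hlp : Prime (l : ℤ) := Nat.prime_iff_prime_int.1 O.prime
  have hl2 : l ≠ 2 := by
    intro h2
    have := O.lt
    have := O.three
    omega
  rw [hai]
  by_cases h1 : (l : ℤ) ∣ i - 1
  · have h2 : ¬ (l : ℤ) ∣ i + 1 := fun h => by
      have h3 : (l : ℤ) ∣ 2 := by
        have := dvd_sub h h1
        rwa [show i + 1 - (i - 1) = 2 by ring] at this
      have h4 := Nat.le_of_dvd two_pos (by exact_mod_cast h3)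
      have := O.prime.two_le
      omega
    exfalso
    have h5 := hlp.pow_dvd_of_dvd_mul_right k h2 hdvd
    have hone : a ^ (i - 1) = 1 := by
      rw [← orderOf_dvd_iff_zpow_eq_one, hord, hk]
      exact_mod_cast h5
    refine O.no_invol (a := a) (u := w) (hord.trans hk) hk0 hw ?_
    have h6 : w * a * w⁻¹ = a := by
      rw [hai, show i = i - 1 + 1 by ring, zpow_add_one, hone, one_mul]
    exact (mul_inv_eq_iff_eq_mul.1 h6).symm
  · have h5 := hlp.pow_dvd_of_dvd_mul_left k h1 hdvd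
    have hone : a ^ (i + 1) = 1 := by
      rw [← orderOf_dvd_iff_zpow_eq_one, hord, hk]
      exact_mod_cast h5
    rw [zpow_add_one] at hone
    exact eq_inv_of_mul_eq_one_left hone

theorem inverts {a w : G} {x y : G ⧸ Mo.H} (hxy : x ≠ y) (hax : a • x = x) (hay : a • y = y)
    (hord : orderOf a = Nat.card L) (hw : orderOf w = 2) (hwy : w • x = y) : w * a * w⁻¹ = a⁻¹ := by
  obtain ⟨g, hg⟩ : ∃ g : G, g • x = O.base := MulAction.exists_smul_eq G x _
  have hx : x = g⁻¹ • O.base := eq_inv_smul_iff.2 hg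
  have h := O.inverts_base (a := g * a * g⁻¹) (w := g * w * g⁻¹) (y := g • y)
    (fun h => hxy (smul_left_cancel g (hg.trans h.symm))) (O.base_iff.1 (by
      rw [mul_smul, mul_smul, ← hx, hax, hg]))
    (by rw [← mul_smul, inv_mul_cancel_right, mul_smul, hay])
    (by rw [Invol.order_conj, hord]) (by rw [Invol.order_conj, hw]) (by
      rw [mul_smul, mul_smul, ← hx, hwy])
  calc w * a * w⁻¹ = g⁻¹ * (g * w * g⁻¹ * (g * a * g⁻¹) * (g * w * g⁻¹)⁻¹) * g := by group
    _ = g⁻¹ * (g * a * g⁻¹)⁻¹ * g := by rw [h]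
    _ = _ := by group

/-- A full element fixes two cosets only. -/
theorem fix_two {a : G} {y : G ⧸ Mo.H} (hy : y ≠ O.base) (ha : a ∈ Mo.H) (hay : a • y = y)
    (hord : orderOf a = Nat.card L) {z : G ⧸ Mo.H} (hz : a • z = z) : z = O.base ∨ z = y := by
  classical
  by_contra hcon
  push Not at hcon
  obtain ⟨hz0, hzy⟩ := hcon
  have hab : a • O.base = O.base := O.base_iff.2 ha
  obtain ⟨k, hk0, hk⟩ := O.card_L
  set C := centralizer ({a} : Set G) with hC
  have hswap : ∀ {u v : G ⧸ Mo.H}, u ≠ v → ∃ w : G, orderOf w = 2 ∧ w • u = v := by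
    intro u v huv
    obtain ⟨⟨w, hw⟩⟩ : Nonempty (Invol.SwapInv u v) := by
      refine (Nat.card_pos_iff.1 ?_).1
      rw [Invol.card_swapInv Mo.se huv, O.card_invol_H]
      exact M.f_pos
    exact ⟨w, hw⟩
  have horb : ∀ v, a • v = v → v ∈ MulAction.orbit C O.base := by
    intro v hv
    by_cases hv0 : v = O.base
    · rw [hv0]; exact MulAction.mem_orbit_self _
    obtain ⟨m, hm, hm0, hmv⟩ : ∃ m, a • m = m ∧ m ≠ O.base ∧ m ≠ v := by
      by_cases hvy : v = y
      · exact ⟨z, hz, hz0, fun h => hzy (h.trans hvy)⟩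
      · exact ⟨y, hay, hy, fun h => hvy h.symm⟩
    obtain ⟨w, hw, hwm⟩ := hswap (Ne.symm hm0)
    obtain ⟨w', hw', hw'v⟩ := hswap hmv
    have h1 := O.inverts (Ne.symm hm0) hab hm hord hw hwm
    have h2 := O.inverts hmv hm hv hord hw' hw'v
    refine ⟨⟨w' * w, ?_⟩, ?_⟩
    · rw [hC, mem_centralizer_singleton_iff, ← mul_inv_eq_iff_eq_mul]
      calc w' * w * a * (w' * w)⁻¹ = w' * (w * a * w⁻¹) * w'⁻¹ := by group
        _ = (w' * a * w'⁻¹)⁻¹ := by rw [h1]; group
        _ = a := by rw [h2, inv_inv]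
    · show (w' * w) • O.base = v
      rw [mul_smul, hwm, hw'v]
  have hsub : ∀ v ∈ MulAction.orbit C O.base, a • v = v := by
    rintro v ⟨c, rfl⟩
    show a • (c : G) • O.base = (c : G) • O.base
    rw [← mul_smul, ← mem_centralizer_singleton_iff.1 c.2, mul_smul, hab]
  have hCodd : Odd (Nat.card C) := by
    rw [← Nat.not_even_iff_odd]
    intro h
    obtain ⟨u, huC, hu⟩ := Invol.exists_invol h
    exact O.no_invol (hord.trans hk) hk0 hu (mem_centralizer_singleton_iff.1 huC).symm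
  set F := MulAction.orbit C O.base with hF
  have hFodd : Odd (Nat.card F) := hCodd.of_dvd_nat ⟨Nat.card (MulAction.stabilizer C O.base), by
    rw [← Nat.card_prod]
    exact (Nat.card_congr (MulAction.orbitProdStabilizerEquivGroup C O.base)).symm⟩
  obtain ⟨w, hw, hwy⟩ := hswap (Ne.symm hy)
  have hinv := O.inverts (Ne.symm hy) hab hay hord hw hwy
  have hwi : w⁻¹ = w := inv_eq_of_mul_eq_one_right (by rw [← pow_two, ← hw, pow_orderOf_eq_one])
  have hperm : ∀ v ∈ F, w • v ∈ F := by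
    intro v hv
    refine horb _ ?_
    have h3 : a * w = w * a⁻¹ := by
      rw [← hinv]
      calc a * w = (w * w) * a * w := by rw [← pow_two, ← hw, pow_orderOf_eq_one, one_mul]
        _ = w * (w * a * w⁻¹) := by rw [hwi]; group
    rw [← mul_smul, h3, mul_smul, inv_smul_eq_iff.2 (hsub v hv).symm]
  haveI : Fintype F := Fintype.ofFinite _
  have hww : ∀ v : G ⧸ Mo.H, w • w • v = v := fun v => by
    rw [← mul_smul, ← pow_two, ← hw, pow_orderOf_eq_one, one_smul]
  let σ : Equiv.Perm F :=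
    { toFun := fun v => ⟨w • (v : G ⧸ Mo.H), hperm _ v.2⟩
      invFun := fun v => ⟨w • (v : G ⧸ Mo.H), hperm _ v.2⟩
      left_inv := fun v => Subtype.ext (hww _)
      right_inv := fun v => Subtype.ext (hww _) }
  have hσ2 : σ ^ 2 ^ 1 = 1 := by
    rw [pow_one, pow_two]
    exact Equiv.ext fun v => σ.left_inv v
  haveI : Fact (Nat.Prime 2) := ⟨Nat.prime_two⟩
  obtain ⟨p, hp⟩ := Equiv.Perm.exists_fixed_point_of_prime (p := 2) (n := 1)
    (by rw [← Nat.card_eq_fintype_card]; obtain ⟨j, hj⟩ := hFodd; omega) hσ2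
  obtain ⟨g, hg⟩ : ∃ g : G, g • (p : G ⧸ Mo.H) = O.base := MulAction.exists_smul_eq G _ _
  have hpx : (p : G ⧸ Mo.H) = g⁻¹ • O.base := eq_inv_smul_iff.2 hg
  have hwH : g * w * g⁻¹ ∈ Mo.H := O.base_iff.1 (by
    rw [mul_smul, mul_smul, ← hpx, show w • (p : G ⧸ Mo.H) = p from congrArg Subtype.val hp, hg])
  have haH : g * a * g⁻¹ ∈ Mo.H := O.base_iff.1 (by rw [mul_smul, mul_smul, ← hpx, hsub _ p.2, hg])
  obtain ⟨b, -, hb⟩ := Mo.invol_image M hwH (by rw [Invol.order_conj, hw])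
  rw [Mo.pr_eq hwH] at hb
  have hrw : rt Mo ⟨_, hwH⟩ = 1 := by
    show (Mo.proj ⟨_, hwH⟩).right = 1
    rw [hb, SemidirectProduct.right_inl]
  have e : (⟨_, hwH⟩ : Mo.H) * ⟨_, haH⟩ * (⟨_, hwH⟩ : Mo.H)⁻¹ = (⟨_, haH⟩ : Mo.H)⁻¹ := Subtype.ext (by
    simp only [Subgroup.coe_mul, Subgroup.coe_inv]
    calc g * w * g⁻¹ * (g * a * g⁻¹) * (g * w * g⁻¹)⁻¹ = g * (w * a * w⁻¹) * g⁻¹ := by group
      _ = (g * a * g⁻¹)⁻¹ := by rw [hinv]; group)
  have h4 := congrArg (rt Mo) e
  rw [map_mul, map_mul, map_inv, map_inv, hrw, one_mul, inv_one, mul_one] at h4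
  have h5 : rt Mo ⟨_, haH⟩ = 1 := by
    rw [← orderOf_eq_one_iff]
    refine Nat.eq_one_of_dvd_coprimes (Nat.coprime_two_left.2 M.odd) (orderOf_dvd_of_pow_eq_one ?_)
      (orderOf_dvd_natCard _)
    rw [pow_two]
    exact eq_inv_iff_mul_eq_one.1 h4
  obtain ⟨s, hs⟩ := O.eq_emb_of_rt h5
  have ho : orderOf (g * a * g⁻¹) = l ^ k := by rw [Invol.order_conj, hord, hk]
  have hs' : g * a * g⁻¹ = (Mo.emb s : G) := hs
  by_cases hs1 : s = 1
  · rw [hs', hs1, map_one, OneMemClass.coe_one, orderOf_one] at ho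
    exact absurd ho.symm (by
      have := O.prime.one_lt
      exact (Nat.one_lt_pow hk0 this).ne')
  · have h2l : (2 : ℕ) = l ^ k := by rw [← ho, hs', O.orderOf_emb hs1]
    have h6 : l ∣ 2 := h2l ▸ dvd_pow_self l hk0
    have := O.lt
    have := O.three
    have := Nat.le_of_dvd two_pos h6
    omega

theorem index_eq : Mo.H.index = Nat.card S + 1 := by
  classical
  refine le_antisymm ?_ (Mo.index_ge ⟨M.t, M.t_ne⟩)
  haveI := O.cyclic
  obtain ⟨b, hb⟩ := IsCyclic.exists_monoid_generator (α := L)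
  have hord : orderOf (b : K) = Nat.card L := by
    rw [Subgroup.orderOf_coe]
    exact orderOf_eq_card_of_forall_mem_powers hb
  have hex : ∀ y : {y : G ⧸ Mo.H // y ≠ O.base}, ∃ a : two Mo y.1, kap Mo y.1 a = b ∧ orderOf (a : G) = orderOf (b : K) :=
    fun y => O.exists_full y.2 b.2
  choose a ha1 ha2 using hex
  let F : Option S → G ⧸ Mo.H := fun o => o.elim O.base fun _ => O.base
  have hinj : Function.Injective (fun y : {y : G ⧸ Mo.H // y ≠ O.base} =>
      (Mo.proj ⟨(a y : G), (a y).2.1⟩).left) := by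
    intro y y' h
    have e : Mo.proj ⟨(a y : G), (a y).2.1⟩ = Mo.proj ⟨(a y' : G), (a y').2.1⟩ :=
      SemidirectProduct.ext h ((ha1 y).trans (ha1 y').symm)
    have e' : (a y : G) = (a y' : G) := congrArg Subtype.val (O.proj_injective e)
    rcases O.fix_two y.2 (a y).2.1 (a y).2.2 ((ha2 y).trans hord) (z := y'.1)
      (by rw [e']; exact (a y').2.2) with h0 | h0
    · exact absurd h0 y'.2
    · exact Subtype.ext h0.symm
  have hle := Nat.card_le_card_of_injective _ hinj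
  rw [Subgroup.index, Nat.card_congr (Equiv.optionSubtypeNe O.base).symm, Finite.card_option]
  omega

theorem exists_emb_smul {y : G ⧸ Mo.H} (hy : y ≠ O.base) {z : G ⧸ Mo.H} (hz : z ≠ O.base) :
    ∃ s : S, (Mo.emb s : G) • y = z := by
  classical
  have hne : ∀ s : S, (Mo.emb s : G) • y ≠ O.base := fun s h => hy (by
    rw [← inv_smul_smul (Mo.emb s : G) y, h]
    exact O.base_iff.2 (inv_mem (Mo.emb_mem s)))
  let F : S → {z : G ⧸ Mo.H // z ≠ O.base} := fun s => ⟨(Mo.emb s : G) • y, hne s⟩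
  have hF : Function.Injective F := by
    intro s s' h
    have h' : (Mo.emb s : G) • y = (Mo.emb s' : G) • y := congrArg Subtype.val h
    by_contra hss
    refine hy (Invol.se_fix_unique Mo.se (O.orderOf_emb (s := s'⁻¹ * s)
      fun e => hss (inv_mul_eq_one.1 e).symm) ?_ (O.base_iff.2 (Mo.emb_mem _)))
    rw [map_mul, map_inv, Subgroup.coe_mul, Subgroup.coe_inv, mul_smul, h', inv_smul_smul]
  have hcard : Nat.card {z : G ⧸ Mo.H // z ≠ O.base} = Nat.card S := by
    have h1 := O.index_eq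
    rw [Subgroup.index, Nat.card_congr (Equiv.optionSubtypeNe O.base).symm, Finite.card_option] at h1
    omega
  obtain ⟨s, hs⟩ := (hF.bijective_of_nat_card_le hcard.le).2 ⟨z, hz⟩
  exact ⟨s, congrArg Subtype.val hs⟩

theorem kap_surjective {y : G ⧸ Mo.H} (hy : y ≠ O.base) : Function.Surjective (kap Mo y) := by
  intro k
  obtain ⟨h, hh⟩ := Mo.surj (SemidirectProduct.inr k)
  have hhy : (h : G) • y ≠ O.base := fun e => hy (by
    rw [← inv_smul_smul (h : G) y, e]
    exact O.base_iff.2 (inv_mem h.2))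
  obtain ⟨s, hs⟩ := O.exists_emb_smul hy hhy
  refine ⟨⟨(Mo.emb s : G)⁻¹ * (h : G), Subgroup.mul_mem _ (Subgroup.inv_mem _ (Mo.emb_mem s)) h.2, ?_⟩, ?_⟩
  · show ((Mo.emb s : G)⁻¹ * (h : G)) • y = y
    rw [mul_smul, ← hs, inv_smul_smul]
  · show rt Mo (⟨(Mo.emb s : G), Mo.emb_mem s⟩⁻¹ * h) = k
    rw [map_mul, map_inv]
    show ((Mo.proj ⟨(Mo.emb s : G), Mo.emb_mem s⟩).right)⁻¹ * (Mo.proj h).right = k
    rw [Mo.proj_emb, hh]
    simp

end OneHyp

end Cfsg.Agent.AbelInv
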