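import Cfsg.Agent.Lib.AbelInv.Hyp

/-!
The stabilisers of the linear characters when the 2-group is not elementary.
-/

set_option autoImplicit false
set_option linter.unusedSectionVars false
set_option linter.style.haveILetI false

namespace Cfsg.Agent.AbelInv

open scoped Classical

universe u

/-- The count of orbits by fixed points. -/
theorem trans_of_fixed_eq {K A B : Type u} [Group K] [Fintype K] [MulAction K A] [MulAction K B]
    [Fintype A] [Fintype B] (h : ∀ k : K, Nat.card (MulAction.fixedBy A k) = Nat.card (MulAction.fixedBy B k))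
    (a0 : A) (ha0 : ∀ a : A, a ≠ a0 → ∀ a' : A, a' ≠ a0 → ∃ k : K, k • a = a')
    (b0 : B) (hb0 : ∀ k : K, k • b0 = b0) (b b' : B) (hb : b ≠ b0) (hb' : b' ≠ b0) :
    ∃ k : K, k • b = b' := by
  by_contra hno
  have hA := MulAction.sum_card_fixedBy_eq_card_orbits_mul_card_group K A
  have hB := MulAction.sum_card_fixedBy_eq_card_orbits_mul_card_group K B
  simp only [← Nat.card_eq_fintype_card] at hA hB
  rw [Finset.sum_congr rfl fun k _ => h k, hB] at hA
  have hcard := Nat.eq_of_mul_eq_mul_right Nat.card_pos hA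
  have hAle : Nat.card (Quotient (MulAction.orbitRel K A)) ≤ 2 := by
    by_cases hex : ∃ a : A, a ≠ a0
    · obtain ⟨a₁, ha₁⟩ := hex
      refine le_trans (Nat.card_le_card_of_surjective
        (fun i : Bool => Quotient.mk (MulAction.orbitRel K A) (if i then a0 else a₁))
        fun x => ?_) (by simp)
      induction x using Quotient.inductionOn with
      | _ a =>
        by_cases ha : a = a0
        · exact ⟨true, by simp [ha]⟩
        · obtain ⟨k, hk⟩ := ha0 a₁ ha₁ a ha
          exact ⟨false, by simpa using (Quotient.sound (s := MulAction.orbitRel K A) ⟨k, hk⟩).symm⟩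
    · push Not at hex
      refine le_trans (Nat.card_le_card_of_surjective
        (fun _ : Unit => Quotient.mk (MulAction.orbitRel K A) a0) fun x => ?_) (by simp)
      induction x using Quotient.inductionOn with
      | _ a => exact ⟨(), by rw [hex a]⟩
  have hBge : 3 ≤ Nat.card (Quotient (MulAction.orbitRel K B)) := by
    let g : Fin 3 → Quotient (MulAction.orbitRel K B) := fun i =>
      Quotient.mk _ (![b0, b, b'] i)
    have hrel : ∀ x y : B, Quotient.mk (MulAction.orbitRel K B) x = Quotient.mk _ y →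
        ∃ k : K, k • y = x := fun x y hxy => Quotient.exact hxy
    have hinj : Function.Injective g := by
      intro i j hij
      obtain ⟨k, hk⟩ := hrel _ _ hij
      fin_cases i <;> fin_cases j <;> simp at hk <;> try rfl
      · exact absurd (by rw [← inv_smul_eq_iff.2 hk.symm, hb0]) hb
      · exact absurd (by rw [← inv_smul_eq_iff.2 hk.symm, hb0]) hb'
      · exact absurd (hk.symm.trans (hb0 k)) hb
      · exact absurd ⟨k⁻¹, by rw [← hk, inv_smul_smul]⟩ hno
      · exact absurd (hk.symm.trans (hb0 k)) hb'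
      · exact absurd ⟨k, hk⟩ hno
    simpa using Nat.card_le_card_of_injective g hinj
  omega

namespace Hyp

variable {S K : Type u} [CommGroup S] [Group K] [MulDistribMulAction K S] [Fintype S] [Fintype K]
  (M : Hyp S K)

include M in
theorem exists_exponent (h4 : ∃ s : S, s * s ≠ 1) :
    ∃ m : ℕ, (∀ s : S, s ^ 2 ^ (m + 2) = 1) ∧ ∃ s : S, s ^ 2 ^ (m + 1) ≠ 1 := by
  obtain ⟨b, hb⟩ := IsPGroup.iff_card.1 M.two
  have hex : ∃ m, ∀ s : S, s ^ 2 ^ m = 1 := ⟨b, fun s => by rw [← hb, pow_card_eq_one']⟩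
  obtain ⟨s₀, hs₀⟩ := h4
  have h2 : 2 ≤ Nat.find hex := by
    by_contra hlt
    refine hs₀ ?_
    have := Nat.find_spec hex s₀
    rw [← pow_two]
    interval_cases hk : Nat.find hex
    · rw [pow_zero, pow_one] at this; rw [this, one_pow]
    · rwa [pow_one] at this
  refine ⟨Nat.find hex - 2, ?_, ?_⟩
  · rw [show Nat.find hex - 2 + 2 = Nat.find hex by omega]
    exact Nat.find_spec hex
  · have := Nat.find_min hex (show Nat.find hex - 2 + 1 < Nat.find hex by omega)
    push Not at this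
    exact this

/-- Three orbits with the stabiliser of the involution, and the stabilisers of the others. -/
theorem exists_lines (h4 : ∃ s : S, s * s ≠ 1) :
    ∃ l₀ l₁ l₂ : S →* ℂˣ, l₀ ≠ 1 ∧ l₁ ≠ 1 ∧ l₂ ≠ 1 ∧
      MulAction.stabilizer K l₀ = MulAction.stabilizer K M.t ∧
      MulAction.stabilizer K l₁ = MulAction.stabilizer K M.t ∧
      MulAction.stabilizer K l₂ = MulAction.stabilizer K M.t ∧
      M.esum l₀ = M.f ∧ M.esum l₁ = -1 ∧ M.esum l₂ = -1 ∧
      (∀ k : K, k • l₁ ≠ l₂) ∧ (∀ k : K, k • l₀ ≠ l₁) ∧ (∀ k : K, k • l₀ ≠ l₂) ∧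
      ∀ l : S →* ℂˣ, l ≠ 1 → ∃ k : K,
        MulAction.stabilizer K (k • l) ≤ MulAction.stabilizer K M.t := by
  obtain ⟨m, hm, s₁, hs₁⟩ := M.exists_exponent h4
  set n := 2 ^ (m + 1) with hn
  have hn2 : n * 2 = 2 ^ (m + 2) := by rw [hn]; ring
  let p : S →* S := powMonoidHom n
  have hp : ∀ s, p s = s ^ n := fun s => rfl
  have hksmul : ∀ (k : K) (s : S), k • p s = p (k • s) := fun k s => smul_pow' k s n
  -- the image consists of all involutions
  have hpE : ∀ s, p s * p s = 1 := fun s => by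
    rw [hp, ← pow_add, ← mul_two, hn2, hm]
  have hrange : ∀ z : S, z * z = 1 → ∃ s, p s = z := by
    intro z hz
    by_cases hz1 : z = 1
    · exact ⟨1, by rw [map_one, hz1]⟩
    obtain ⟨k₁, hk₁⟩ := M.trans z hz hz1
    obtain ⟨k₂, hk₂⟩ := M.trans (p s₁) (hpE s₁) hs₁
    exact ⟨(k₁ * k₂⁻¹) • s₁, by rw [← hksmul, ← hk₂, ← mul_smul, inv_mul_cancel_right, hk₁]⟩
  let sq : S →* S := powMonoidHom 2
  have hsqker : sq.range = p.ker := by
    refine Subgroup.eq_of_le_of_card_ge ?_ ?_
    · rintro _ ⟨s, rfl⟩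
      show (s ^ 2) ^ n = 1
      rw [← pow_mul, mul_comm, hn2, hm]
    · have hr : sq.ker = p.range := by
        ext z
        rw [MonoidHom.mem_ker, MonoidHom.mem_range]
        refine ⟨fun h => hrange z (by rwa [← pow_two]), ?_⟩
        rintro ⟨s, rfl⟩
        show p s ^ 2 = 1
        rw [pow_two, hpE]
      have h1 := p.ker.card_mul_index
      have h2 := sq.ker.card_mul_index
      rw [Subgroup.index_ker] at h1 h2
      rw [hr] at h2
      exact le_of_eq (Nat.eq_of_mul_eq_mul_left Nat.card_pos (by rw [mul_comm, h1, h2]))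
  -- the linear characters of order two
  have hU : ∀ l : S →* ℂˣ, l ^ 2 = 1 ↔ ∀ x ∈ p.ker, l x = 1 := by
    intro l
    refine ⟨fun h x hx => ?_, fun h => MonoidHom.ext fun s => ?_⟩
    · rw [← hsqker] at hx
      obtain ⟨s, rfl⟩ := hx
      show l (s ^ 2) = 1
      rw [map_pow]
      exact DFunLike.congr_fun h s
    · rw [MonoidHom.pow_apply, ← map_pow]
      exact h _ (hsqker.le ⟨s, rfl⟩)
  have hsmulpow : ∀ (k : K) (l : S →* ℂˣ) (i : ℕ), (k • l) ^ i = k • l ^ i := fun k l i =>
    MonoidHom.ext fun s => by simp [dual_apply, MonoidHom.pow_apply]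
  have hsmulone : ∀ k : K, k • (1 : S →* ℂˣ) = 1 := fun k => MonoidHom.ext fun s => rfl
  have honepow : ∀ i : ℕ, (1 : S →* ℂˣ) ^ i = 1 := fun i => MonoidHom.ext fun s => by
    rw [MonoidHom.pow_apply, MonoidHom.one_apply, one_pow]
  let U : Type u := {l : S →* ℂˣ // l ^ 2 = 1}
  letI : MulAction K U :=
    { smul := fun k l => ⟨k • l.1, by rw [hsmulpow, l.2, hsmulone]⟩
      one_smul := fun l => Subtype.ext (one_smul K l.1)
      mul_smul := fun a b l => Subtype.ext (mul_smul a b l.1) }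
  let E : Type u := {z : S // z * z = 1}
  letI : MulAction K E :=
    { smul := fun k z => ⟨k • z.1, by rw [← smul_mul', z.2, smul_one]⟩
      one_smul := fun z => Subtype.ext (one_smul K z.1)
      mul_smul := fun a b z => Subtype.ext (mul_smul a b z.1) }
  have hfix : ∀ k : K, Nat.card (MulAction.fixedBy E k) = Nat.card (MulAction.fixedBy U k) := by
    intro k
    let d : p.range →* p.range :=
      { toFun := fun z => ⟨(z : S)⁻¹ * k • (z : S), mul_mem (inv_mem z.2) (by
          obtain ⟨s, hs⟩ := z.2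
          exact ⟨k • s, by rw [← hksmul, hs]⟩)⟩
        map_one' := Subtype.ext (by simp)
        map_mul' := fun a b => Subtype.ext (by simp [smul_mul', mul_mul_mul_comm, mul_comm]) }
    let R : Subgroup S := d.range.comap p.rangeRestrict
    have hRi : R.index = Nat.card d.ker := by
      rw [Subgroup.index_comap_of_surjective _ p.rangeRestrict_surjective]
      refine Nat.eq_of_mul_eq_mul_right (Nat.card_pos (α := d.range)) ?_
      rw [mul_comm, Subgroup.card_mul_index, ← Subgroup.index_ker d, Subgroup.card_mul_index]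
    have hE : Nat.card (MulAction.fixedBy E k) = Nat.card d.ker := by
      refine Nat.card_congr
        { toFun := fun z => ⟨⟨z.1.1, hrange _ z.1.2⟩, Subtype.ext (by
            show z.1.1⁻¹ * k • z.1.1 = 1
            rw [show k • z.1.1 = z.1.1 from congrArg Subtype.val z.2, inv_mul_cancel])⟩
          invFun := fun z => ⟨⟨z.1.1, by obtain ⟨s, hs⟩ := z.1.2; rw [← hs, hpE]⟩, Subtype.ext (by
            have h := congrArg Subtype.val z.2
            exact (inv_mul_eq_one.1 h).symm)⟩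
          left_inv := fun z => rfl
          right_inv := fun z => rfl }
    have hUc : Nat.card (MulAction.fixedBy U k) = R.index := by
      rw [Subgroup.index_eq_card, ← CommGroup.card_domRestrictHom_ker ℂ R]
      refine Nat.card_congr
        { toFun := fun l => ⟨l.1.1, MonoidHom.mem_ker.2 (MonoidHom.ext fun r => ?_)⟩
          invFun := fun l => ⟨⟨l.1, (hU _).2 fun x hx => ?_⟩, Subtype.ext (MonoidHom.ext fun s => ?_)⟩
          left_inv := fun l => rfl
          right_inv := fun l => rfl }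
      · show l.1.1 (r : S) = 1
        obtain ⟨⟨z, w, hw⟩, hz⟩ := r.2
        have hz' : z⁻¹ * k • z = p r.1 := congrArg Subtype.val hz
        have hker : w⁻¹ * k • w * (r.1)⁻¹ ∈ p.ker := by
          rw [MonoidHom.mem_ker, map_mul, map_mul, map_inv, map_inv, ← hksmul, hw, hz',
            mul_inv_cancel]
        have h1 := (hU _).1 l.1.2 _ hker
        have h2 : l.1.1 (k • w) = l.1.1 w := by
          have h3 := DFunLike.congr_fun (congrArg Subtype.val l.2) (k • w)
          change (k • l.1.1) (k • w) = _ at h3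
          rw [dual_apply, inv_smul_smul] at h3
          exact h3.symm
        rw [map_mul, map_mul, map_inv, map_inv, h2, inv_mul_cancel, one_mul, inv_eq_one] at h1
        exact h1
      · exact DFunLike.congr_fun (MonoidHom.mem_ker.1 l.2) ⟨x, by
          show p.rangeRestrict x ∈ d.range
          rw [show p.rangeRestrict x = 1 from Subtype.ext hx]
          exact one_mem _⟩
      · show l.1 (k⁻¹ • s) = l.1 s
        have hmem : (k⁻¹ • s)⁻¹ * s ∈ R := ⟨⟨p (k⁻¹ • s), _, rfl⟩, Subtype.ext (by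
          show (p (k⁻¹ • s))⁻¹ * k • p (k⁻¹ • s) = p ((k⁻¹ • s)⁻¹ * s)
          rw [hksmul, smul_inv_smul, map_mul, map_inv])⟩
        have h1 : l.1 ((k⁻¹ • s)⁻¹ * s) = 1 :=
          DFunLike.congr_fun (MonoidHom.mem_ker.1 l.2) ⟨_, hmem⟩
        rwa [map_mul, map_inv, inv_mul_eq_one] at h1
    rw [hE, hUc, hRi]
  have htransU : ∀ l l' : S →* ℂˣ, l ^ 2 = 1 → l ≠ 1 → l' ^ 2 = 1 → l' ≠ 1 →
      ∃ k : K, k • l = l' := by
    intro l l' hl hl1 hl' hl1'
    obtain ⟨k, hk⟩ := trans_of_fixed_eq hfix (⟨1, one_mul 1⟩ : E)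
      (fun a ha a' ha' => by
        obtain ⟨k₁, hk₁⟩ := M.trans a.1 a.2 fun h => ha (Subtype.ext h)
        obtain ⟨k₂, hk₂⟩ := M.trans a'.1 a'.2 fun h => ha' (Subtype.ext h)
        exact ⟨k₂ * k₁⁻¹, Subtype.ext (by
          show (k₂ * k₁⁻¹) • a.1 = a'.1
          rw [← hk₁, ← mul_smul, inv_mul_cancel_right, hk₂])⟩)
      (⟨1, honepow 2⟩ : U) (fun k => Subtype.ext (hsmulone k)) ⟨l, hl⟩ ⟨l', hl'⟩
      (fun h => hl1 (congrArg Subtype.val h)) (fun h => hl1' (congrArg Subtype.val h))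
    exact ⟨k, congrArg Subtype.val hk⟩
  -- an invariant character of order two
  obtain ⟨st, hst⟩ := hrange M.t M.t_sq
  have hstk : st ∉ p.ker := fun h => M.t_ne (hst ▸ h)
  obtain ⟨μ, hμk, hμ⟩ : ∃ μ : S →* ℂˣ, (∀ x ∈ p.ker, μ x = 1) ∧ μ st ≠ 1 := by
    by_contra! h
    exact hstk ((CommGroup.forall_monoidHom_apply_eq_one_iff ℂ p.ker st).1 h)
  set J := MulAction.stabilizer K M.t with hJ
  haveI : Fintype J := Fintype.ofFinite _
  have hprodfix : ∀ (l : S →* ℂˣ) (k : K), k ∈ J → k • (∏ j : J, (j : K) • l) = ∏ j : J, (j : K) • l := by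
    intro l k hk
    have hmul : ∀ (F : J → (S →* ℂˣ)), k • (∏ j, F j) = ∏ j, k • F j := fun F =>
      MonoidHom.ext fun s => by
        rw [dual_apply, MonoidHom.finset_prod_apply, MonoidHom.finset_prod_apply]
        rfl
    rw [hmul]
    exact Fintype.prod_equiv (Equiv.mulLeft ⟨k, hk⟩) _ _ fun j => (mul_smul _ _ _).symm
  have hprodpow : ∀ (l c : S →* ℂˣ) (i : ℕ), l ^ i = c → (∀ k ∈ J, k • c = c) →
      (∏ j : J, (j : K) • l) ^ i = c ^ M.e := by
    intro l c i h hc
    rw [← Finset.prod_pow, Finset.prod_congr rfl fun j _ => by rw [hsmulpow, h, hc _ j.2],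
      Finset.prod_const, Finset.card_univ, ← Nat.card_eq_fintype_card]
    rfl
  set l₀ := ∏ j : J, (j : K) • μ with hl₀
  have hμ2 : μ ^ 2 = 1 := (hU μ).2 hμk
  have hl₀2 : l₀ ^ 2 = 1 := by
    rw [hl₀, hprodpow μ 1 2 hμ2 fun k _ => hsmulone k, honepow]
  have hl₀st : l₀ st = μ st ^ M.e := by
    rw [hl₀, MonoidHom.finset_prod_apply, Finset.prod_congr rfl (g := fun _ => μ st) fun j _ => ?_,
      Finset.prod_const, Finset.card_univ, ← Nat.card_eq_fintype_card]
    · rfl
    rw [dual_apply]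
    have hker : ((j : K)⁻¹ • st) * st⁻¹ ∈ p.ker := by
      rw [MonoidHom.mem_ker, map_mul, map_inv, ← hksmul, hst,
        show (j : K)⁻¹ • M.t = M.t from inv_smul_eq_iff.2 j.2.symm, mul_inv_cancel]
    have := hμk _ hker
    rwa [map_mul, map_inv, mul_inv_eq_one] at this
  have hl₀1 : l₀ ≠ 1 := by
    intro h
    rw [h, MonoidHom.one_apply] at hl₀st
    obtain ⟨c, hc⟩ := M.e_odd
    have h2 : μ st ^ 2 = 1 := DFunLike.congr_fun hμ2 st
    rw [hc, pow_succ, pow_mul, h2, one_pow, one_mul] at hl₀st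
    exact hμ hl₀st.symm
  have hstab₀ : MulAction.stabilizer K l₀ = J := by
    refine (Subgroup.eq_of_le_of_card_ge (fun k hk => hprodfix μ k hk) ?_).symm
    have horb : Nat.card (MulAction.orbit K l₀) = Nat.card K / M.e := by
      have h1 : MulAction.orbit K l₀ = {l | l ^ 2 = 1 ∧ l ≠ 1} := by
        ext l
        refine ⟨?_, fun h => htransU l₀ l hl₀2 hl₀1 h.1 h.2⟩
        rintro ⟨k, rfl⟩
        refine ⟨by rw [hsmulpow, hl₀2, hsmulone], fun h => hl₀1 ?_⟩
        have h' : k • l₀ = 1 := h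
        rw [← inv_smul_smul k l₀, h', hsmulone]
      have h2 := hfix 1
      have h3 : ∀ {A : Type u} [MulAction K A], Nat.card (MulAction.fixedBy A (1 : K)) = Nat.card A :=
        fun {A} _ => Nat.card_congr (Equiv.subtypeUnivEquiv fun a => one_smul K a)
      rw [h3, h3] at h2
      rw [M.card_K, Nat.mul_div_cancel _ M.e_pos, h1]
      have e1 : Nat.card U = Nat.card ({l : S →* ℂˣ | l ^ 2 = 1 ∧ l ≠ 1} : Set (S →* ℂˣ)) + 1 := by
        rw [Nat.card_eq_fintype_card, Nat.card_eq_fintype_card, Set.fintypeCard_eq_ncard,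
          Fintype.card_subtype, Set.ncard_eq_toFinset_card']
        rw [← Finset.card_erase_add_one (a := (1 : S →* ℂˣ)) (by simp [honepow])]
        congr 1
        congr 1
        ext l
        simp [and_comm]
      have e2 : Nat.card E = M.f + 1 := by
        rw [Nat.card_eq_fintype_card, Fintype.card_subtype, Hyp.f,
          ← Finset.card_erase_add_one (s := Finset.univ.filter fun z : S => z * z = 1)
            (a := (1 : S)) (by simp)]
        congr 1
        congr 1
        ext z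
        simp [Hyp.mem_invols, and_comm]
      omega
    have hmul := Nat.card_congr (MulAction.orbitProdStabilizerEquivGroup K l₀)
    rw [Nat.card_prod, horb, M.card_K, Nat.mul_div_cancel _ M.e_pos] at hmul
    exact le_of_eq (Nat.eq_of_mul_eq_mul_left M.f_pos (by rw [hmul]; rfl))
  have hl₀fix : ∀ k ∈ J, k • l₀ = l₀ := fun k hk => hprodfix μ k hk
  -- a fixed character of full order
  obtain ⟨lam₀, hlam⟩ : ∃ l : S →* ℂˣ, l ^ n = l₀ := by
    obtain ⟨ν, hν⟩ := CommGroup.exists_apply_ne_one_of_hasEnoughRootsOfUnity S ℂ hs₁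
    have hνn : ν ^ n ≠ 1 := fun h => hν (by
      rw [map_pow]; exact DFunLike.congr_fun h s₁)
    have hνn2 : (ν ^ n) ^ 2 = 1 := MonoidHom.ext fun s => by
      rw [MonoidHom.pow_apply, MonoidHom.pow_apply, ← pow_mul, hn2, ← map_pow, hm, map_one]
      rfl
    obtain ⟨k, hk⟩ := htransU _ l₀ hνn2 hνn hl₀2 hl₀1
    exact ⟨k • ν, by rw [hsmulpow, hk]⟩
  set l₁ := ∏ j : J, (j : K) • lam₀ with hl₁
  have hpow₀ : ∀ i, Odd i → l₀ ^ i = l₀ := fun i hi => by
    obtain ⟨c, rfl⟩ := hi
    refine MonoidHom.ext fun s => ?_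
    rw [MonoidHom.pow_apply, pow_succ, pow_mul, ← MonoidHom.pow_apply, hl₀2, MonoidHom.one_apply,
      one_pow, one_mul]
  have hl₁n : l₁ ^ n = l₀ := by rw [hl₁, hprodpow lam₀ l₀ n hlam hl₀fix, hpow₀ _ M.e_odd]
  have hl₀n : l₀ ^ n = 1 := by
    refine MonoidHom.ext fun s => ?_
    rw [MonoidHom.pow_apply, hn, pow_succ', pow_mul, ← MonoidHom.pow_apply, hl₀2, MonoidHom.one_apply,
      one_pow]
  set l₂ := l₁ * l₀ with hl₂
  have hl₂n : l₂ ^ n = l₀ := MonoidHom.ext fun s => by
    rw [MonoidHom.pow_apply, hl₂, MonoidHom.mul_apply, mul_pow, ← MonoidHom.pow_apply,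
      ← MonoidHom.pow_apply, hl₁n, hl₀n, MonoidHom.one_apply, mul_one]
  have hstabn : ∀ l : S →* ℂˣ, l ^ n = l₀ → (∀ k ∈ J, k • l = l) → MulAction.stabilizer K l = J := by
    intro l hl hfixl
    refine le_antisymm (fun k hk => ?_) hfixl
    rw [← hstab₀, MulAction.mem_stabilizer_iff, ← hl, ← hsmulpow,
      MulAction.mem_stabilizer_iff.1 hk]
  have hfix₁ : ∀ k ∈ J, k • l₁ = l₁ := fun k hk => hprodfix lam₀ k hk
  have hstab₁ := hstabn l₁ hl₁n hfix₁
  have hstab₂ := hstabn l₂ hl₂n fun k hk => MonoidHom.ext fun s => by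
    rw [dual_apply, hl₂, MonoidHom.mul_apply, MonoidHom.mul_apply,
      ← dual_apply k l₁, ← dual_apply k l₀, hfix₁ k hk, hl₀fix k hk]
  have hne1 : ∀ l : S →* ℂˣ, l ^ n = l₀ → l ≠ 1 := fun l hl h => hl₀1 (by rw [← hl, h, honepow])
  have hesum : ∀ l : S →* ℂˣ, l ^ n = l₀ → M.esum l = -1 := by
    intro l hl
    rw [Hyp.esum, if_neg]
    intro h
    refine hne1 l hl (absurd ?_ hl₀1)
    rw [← hl]
    exact MonoidHom.ext fun s => by
      rw [MonoidHom.pow_apply, ← map_pow, MonoidHom.one_apply]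
      exact h _ (hpE s)
  have hesum₀ : M.esum l₀ = M.f := by
    rw [Hyp.esum, if_pos]
    intro z hz
    obtain ⟨s, rfl⟩ := hrange z hz
    rw [hp, map_pow]
    exact DFunLike.congr_fun hl₀n s
  refine ⟨l₀, l₁, l₂, hl₀1, hne1 _ hl₁n, hne1 _ hl₂n, hstab₀, hstab₁, hstab₂, hesum₀,
    hesum _ hl₁n, hesum _ hl₂n, ?_, ?_, ?_, ?_⟩
  · intro k hk
    have h1 : k • l₀ = l₀ := by rw [← hl₁n, ← hsmulpow, hk, hl₂n, hl₁n]
    have h2 : k • l₁ = l₁ := hfix₁ k (by rw [← hstab₀]; exact h1)
    rw [h2, hl₂] at hk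
    refine hl₀1 (MonoidHom.ext fun s => ?_)
    have := DFunLike.congr_fun hk s
    rw [MonoidHom.mul_apply, left_eq_mul] at this
    exact this
  · intro k hk
    have := M.esum_smul k l₀
    rw [hk, hesum _ hl₁n, hesum₀] at this
    omega
  · intro k hk
    have := M.esum_smul k l₀
    rw [hk, hesum _ hl₂n, hesum₀] at this
    omega
  · intro l hl
    obtain ⟨b, hb⟩ := IsPGroup.iff_card.1 M.two
    have hex : ∃ i, (l ^ 2 ^ i) ^ 2 = 1 := ⟨b, MonoidHom.ext fun s => by
      rw [MonoidHom.pow_apply, MonoidHom.pow_apply, ← pow_mul, ← map_pow, pow_mul,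
        show s ^ 2 ^ b = 1 by rw [← hb, pow_card_eq_one'], one_pow, map_one]
      rfl⟩
    have hne : l ^ 2 ^ Nat.find hex ≠ 1 := by
      intro h
      rcases Nat.eq_zero_or_pos (Nat.find hex) with h0 | h0
      · rw [h0, pow_zero, pow_one] at h
        exact hl h
      · refine Nat.find_min hex (show Nat.find hex - 1 < Nat.find hex by omega) ?_
        rw [← pow_mul, ← pow_succ, show Nat.find hex - 1 + 1 = Nat.find hex by omega]
        exact h
    obtain ⟨k, hk⟩ := htransU _ l₀ (Nat.find_spec hex) hne hl₀2 hl₀1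
    refine ⟨k, fun x hx => ?_⟩
    rw [← hstab₀, MulAction.mem_stabilizer_iff, ← hk, ← hsmulpow, ← hsmulpow,
      MulAction.mem_stabilizer_iff.1 hx]

end Hyp

end Cfsg.Agent.AbelInv
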