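import Cfsg.Agent.Lib.AbelInv.Cols
import Cfsg.Agent.Lib.AbelInv.Lines
import Mathlib.Tactic.Ring
import Mathlib.Tactic.FieldSimp

/-!
The coherent family of the characters which are nontrivial on the 2-group.
-/

set_option autoImplicit false
set_option linter.unusedSectionVars false
set_option linter.style.haveILetI false

namespace Cfsg.Agent.AbelInv

open Cfsg Cfsg.Agent.Char

universe u v

/-- Two integral vectors of norm two with inner product one. -/
theorem exists_triple {ι : Type v} [Fintype ι] [DecidableEq ι] (v w : ι → ℤ) (d : ι → ℝ)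
    (hd : ∀ χ, 0 < d χ) (h2 : ∑ χ, v χ * v χ = 2) (h0 : ∑ χ, (v χ : ℝ) * d χ = 0)
    (h2' : ∑ χ, w χ * w χ = 2) (h0' : ∑ χ, (w χ : ℝ) * d χ = 0) (h1 : ∑ χ, v χ * w χ = 1) :
    ∃ (a a' b : ι) (ε : ℤ), a ≠ b ∧ a' ≠ b ∧ a ≠ a' ∧ d a = d b ∧ d a' = d b ∧ (ε = 1 ∨ ε = -1) ∧
      v = (fun χ => ε * ((if χ = a then 1 else 0) - if χ = b then 1 else 0)) ∧
      w = fun χ => ε * ((if χ = a' then 1 else 0) - if χ = b then 1 else 0) := by
  obtain ⟨a, b, hab, hdab, rfl⟩ := exists_pair v d hd h2 h0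
  obtain ⟨a', b', hab', hdab', rfl⟩ := exists_pair w d hd h2' h0'
  simp only [sub_mul, ite_mul, one_mul, zero_mul, Finset.sum_sub_distrib, Finset.sum_ite_eq',
    Finset.mem_univ, if_true] at h1
  by_cases ha : a = a'
  · subst ha
    have hbb : b ≠ b' := fun h => by
      subst h
      simp [hab, hab.symm] at h1
    refine ⟨b, b', a, -1, hab.symm, hab'.symm, hbb, hdab.symm, hdab'.symm, Or.inr rfl, ?_, ?_⟩ <;>
      funext χ <;> ring
  by_cases hb : b = b'
  · subst hb
    exact ⟨a, a', b, 1, hab, hab', ha, hdab, hdab', Or.inl rfl, by funext χ; ring, by funext χ; ring⟩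
  exfalso
  by_cases h3 : a = b' <;> by_cases h4 : b = a' <;> simp [ha, hb, h3, h4, hab', hab'.symm] at h1

/-- Orthogonal pairs are disjoint. -/
theorem disjoint_of_orth {ι : Type v} [Fintype ι] [DecidableEq ι] {a b a' b' : ι} {ε ε' : ℤ}
    (hε : ε = 1 ∨ ε = -1) (hε' : ε' = 1 ∨ ε' = -1) (hab : a ≠ b) (hab' : a' ≠ b')
    (h : ∑ χ, (ε * ((if χ = a then 1 else 0) - if χ = b then 1 else 0)) *
      (ε' * ((if χ = a' then 1 else 0) - if χ = b' then 1 else 0)) = 0) :
    a ≠ a' ∧ a ≠ b' ∧ b ≠ a' ∧ b ≠ b' := by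
  have he : ε * ε' ≠ 0 := by rcases hε with rfl | rfl <;> rcases hε' with rfl | rfl <;> norm_num
  simp only [mul_mul_mul_comm ε _ ε', ← Finset.mul_sum] at h
  have h' := (mul_eq_zero.1 h).resolve_left he
  simp only [sub_mul, ite_mul, one_mul, zero_mul, Finset.sum_sub_distrib, Finset.sum_ite_eq',
    Finset.mem_univ, if_true] at h'
  refine ⟨?_, ?_, ?_, ?_⟩ <;> rintro rfl
  · by_cases e : b = b'
    · subst e; simp [hab, hab.symm] at h'
    · simp [hab.symm, hab', e] at h'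
  · by_cases e : b = a'
    · subst e; simp [hab, hab.symm] at h'
    · simp [hab.symm, hab'.symm, e] at h'
  · by_cases e : a = b'
    · subst e; simp [hab, hab.symm] at h'
    · simp [hab, hab', e] at h'
  · by_cases e : a = a'
    · subst e; simp [hab, hab.symm] at h'
    · simp [hab, hab'.symm, e] at h'

variable {S K : Type u} [CommGroup S] [Group K] [MulDistribMulAction K S]

/-- The commutative stabiliser. -/
noncomputable instance stabComm (M : Hyp S K) : CommGroup (MulAction.stabilizer K M.t) :=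
  { (inferInstance : Group (MulAction.stabilizer K M.t)) with mul_comm := M.comm }

/-- Three orbits and representatives of all orbits. -/
structure Reps (M : Hyp S K) where
  /-- a character of order two -/
  l₀ : S →* ℂˣ
  /-- a character of full order -/
  l₁ : S →* ℂˣ
  /-- another character of full order -/
  l₂ : S →* ℂˣ
  /-- the chosen representative -/
  rep : (S →* ℂˣ) → (S →* ℂˣ)
  rep_smul : ∀ l, ∀ k : K, rep (k • l) = rep l
  rep_mem : ∀ l, ∃ k : K, k • l = rep l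
  rep_le : ∀ l, l ≠ 1 → MulAction.stabilizer K (rep l) ≤ MulAction.stabilizer K M.t
  ne₀ : l₀ ≠ 1
  ne₁ : l₁ ≠ 1
  ne₂ : l₂ ≠ 1
  rep₀ : rep l₀ = l₀
  rep₁ : rep l₁ = l₁
  rep₂ : rep l₂ = l₂
  ne₀₁ : l₀ ≠ l₁
  ne₀₂ : l₀ ≠ l₂
  ne₁₂ : l₁ ≠ l₂
  stab₀ : MulAction.stabilizer K l₀ = MulAction.stabilizer K M.t
  stab₁ : MulAction.stabilizer K l₁ = MulAction.stabilizer K M.t
  stab₂ : MulAction.stabilizer K l₂ = MulAction.stabilizer K M.t

variable [Fintype S] [Fintype K] {M : Hyp S K}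

theorem exists_reps (h4 : ∃ s : S, s * s ≠ 1) :
    ∃ R : Reps M, M.esum R.l₀ = M.f ∧ M.esum R.l₁ = -1 ∧ M.esum R.l₂ = -1 := by
  classical
  obtain ⟨l₀, l₁, l₂, n0, n1, n2, s0, s1, s2, e0, e1, e2, h12, h01, h02, hle⟩ := M.exists_lines h4
  let cls : (S →* ℂˣ) → Quotient (MulAction.orbitRel K (S →* ℂˣ)) := Quotient.mk _
  have hcls : ∀ a b, cls a = cls b ↔ ∃ k : K, k • b = a := fun a b =>
    ⟨fun h => Quotient.exact h, fun h => Quotient.sound h⟩
  let g : Quotient (MulAction.orbitRel K (S →* ℂˣ)) → (S →* ℂˣ) := fun x =>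
    if x = cls l₀ then l₀ else if x = cls l₁ then l₁ else if x = cls l₂ then l₂ else
      if h : x.out ≠ 1 then (Classical.choose (hle x.out h)) • x.out else x.out
  have hg : ∀ x, cls (g x) = x := fun x => by
    simp only [g]
    split_ifs with a b c d
    · exact a.symm
    · exact b.symm
    · exact c.symm
    · exact ((hcls _ _).2 ⟨_, rfl⟩).trans (Quotient.out_eq x)
    · exact Quotient.out_eq x
  have hd10 : cls l₁ ≠ cls l₀ := fun h => by
    obtain ⟨k, hk⟩ := (hcls _ _).1 h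
    exact h01 k hk
  have hd20 : cls l₂ ≠ cls l₀ := fun h => by
    obtain ⟨k, hk⟩ := (hcls _ _).1 h
    exact h02 k hk
  have hd21 : cls l₂ ≠ cls l₁ := fun h => by
    obtain ⟨k, hk⟩ := (hcls _ _).1 h
    exact h12 k hk
  refine ⟨⟨l₀, l₁, l₂, fun l => g (cls l), fun l k => congrArg g ((hcls _ _).2 ⟨k, rfl⟩), fun l => ?_,
    fun l hl => ?_, n0, n1, n2, by simp [g], by simp [g, hd10], by simp [g, hd20, hd21],
    fun h => h01 1 (by rw [one_smul, h]), fun h => h02 1 (by rw [one_smul, h]),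
    fun h => h12 1 (by rw [one_smul, h]), s0, s1, s2⟩, e0, e1, e2⟩
  · exact (hcls _ _).1 (hg (cls l))
  · simp only [g]
    split_ifs with a b c d
    · exact s0.le
    · exact s1.le
    · exact s2.le
    · exact Classical.choose_spec (hle _ d)
    · exfalso
      obtain ⟨k, hk⟩ := (hcls _ _).1 (Quotient.out_eq (cls l))
      refine hl (MonoidHom.ext fun s => ?_)
      have := DFunLike.congr_fun hk ((k : K) • s)
      rw [dual_apply, inv_smul_smul] at this
      rw [this, not_not.1 d]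
      rfl

namespace Reps

variable (R : Reps M)

open scoped Classical in
/-- The representatives of the nontrivial orbits. -/
noncomputable def reps : Finset (S →* ℂˣ) := (Finset.univ.filter fun l => l ≠ 1).image R.rep

theorem rep_ne_one {l : S →* ℂˣ} (hl : l ≠ 1) : R.rep l ≠ 1 := fun h => hl (MonoidHom.ext fun s => by
  obtain ⟨k, hk⟩ := R.rep_mem l
  have := DFunLike.congr_fun (hk.trans h) (k • s)
  rwa [dual_apply, inv_smul_smul] at this)

theorem rep_rep (l : S →* ℂˣ) : R.rep (R.rep l) = R.rep l := by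
  obtain ⟨k, hk⟩ := R.rep_mem l
  rw [← hk, R.rep_smul, hk]

theorem mem_reps {r : S →* ℂˣ} : r ∈ R.reps ↔ r ≠ 1 ∧ R.rep r = r := by
  classical
  simp only [reps, Finset.mem_image, Finset.mem_filter, Finset.mem_univ, true_and]
  exact ⟨fun ⟨l, hl, he⟩ => he ▸ ⟨R.rep_ne_one hl, R.rep_rep l⟩, fun ⟨h, he⟩ => ⟨r, h, he⟩⟩

theorem stab_le {r : S →* ℂˣ} (hr : r ∈ R.reps) :
    MulAction.stabilizer K r ≤ MulAction.stabilizer K M.t := by
  rw [← (R.mem_reps.1 hr).2]
  exact R.rep_le r (R.mem_reps.1 hr).1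

theorem orbit_ne {r r' : S →* ℂˣ} (hr : r ∈ R.reps) (hr' : r' ∈ R.reps) (h : r ≠ r') (k : K) :
    k • r ≠ r' := fun e => h (by
  rw [← (R.mem_reps.1 hr).2, ← (R.mem_reps.1 hr').2, ← e, R.rep_smul])

/-- The stabiliser inside that of the involution. -/
noncomputable def sub (_R : Reps M) (r : S →* ℂˣ) : Subgroup (MulAction.stabilizer K M.t) :=
  (MulAction.stabilizer K r).subgroupOf (MulAction.stabilizer K M.t)

/-- The index set. -/
abbrev Idx : Type u := Σ r : {r // r ∈ R.reps}, (R.sub r.1 →* ℂˣ)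

/-- The linear character on the stabiliser. -/
noncomputable def eta (x : R.Idx) : MulAction.stabilizer K x.1.1 →* ℂˣ :=
  x.2.comp (Subgroup.subgroupOfEquivOfLe (R.stab_le x.1.2)).symm.toMonoidHom

/-- The local character. -/
noncomputable def X (x : R.Idx) : SK S K → ℂ := indX x.1.1 (R.eta x)

theorem mem₀ : R.l₀ ∈ R.reps := R.mem_reps.2 ⟨R.ne₀, R.rep₀⟩

theorem mem₁ : R.l₁ ∈ R.reps := R.mem_reps.2 ⟨R.ne₁, R.rep₁⟩

theorem mem₂ : R.l₂ ∈ R.reps := R.mem_reps.2 ⟨R.ne₂, R.rep₂⟩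

/-- Index over the first orbit. -/
noncomputable def bI (ψ : MulAction.stabilizer K M.t →* ℂˣ) : R.Idx :=
  ⟨⟨R.l₀, R.mem₀⟩, ψ.domRestrict _⟩

/-- Index over the second orbit. -/
noncomputable def aI (ψ : MulAction.stabilizer K M.t →* ℂˣ) : R.Idx :=
  ⟨⟨R.l₁, R.mem₁⟩, ψ.domRestrict _⟩

/-- Index over the third orbit. -/
noncomputable def aI' (ψ : MulAction.stabilizer K M.t →* ℂˣ) : R.Idx :=
  ⟨⟨R.l₂, R.mem₂⟩, ψ.domRestrict _⟩

open scoped Classical in
/-- The extensions to the stabiliser of the involution. -/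
noncomputable def ext' (x : R.Idx) : Finset (MulAction.stabilizer K M.t →* ℂˣ) :=
  Finset.univ.filter fun ψ => ψ.domRestrict (R.sub x.1.1) = x.2

theorem mem_ext' {x : R.Idx} {ψ : MulAction.stabilizer K M.t →* ℂˣ} :
    ψ ∈ R.ext' x ↔ ψ.domRestrict (R.sub x.1.1) = x.2 := by
  classical
  simp [ext']

/-- The vanishing combination. -/
noncomputable def phi (x : R.Idx) : SK S K → ℂ := R.X x - ∑ ψ ∈ R.ext' x, R.X (R.bI ψ)

theorem inner_X [Fintype (SK S K)] (x y : R.Idx) [Decidable (x = y)] :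
    Cfsg.classInner (R.X x) (R.X y) = if x = y then 1 else 0 := by
  classical
  by_cases h : x.1 = y.1
  · obtain ⟨r, η⟩ := x
    obtain ⟨r', η'⟩ := y
    obtain rfl : r = r' := h
    rw [X, X, indX_inner _ _ fun (a b : MulAction.stabilizer K r.1) => Subtype.ext (congrArg Subtype.val
      (M.comm ⟨a, R.stab_le r.2 a.2⟩ ⟨b, R.stab_le r.2 b.2⟩) :)]
    refine if_congr ⟨fun e => ?_, fun e => ?_⟩ rfl rfl
    · congr 1
      refine MonoidHom.ext fun j => ?_
      have h1 := DFunLike.congr_fun e (Subgroup.subgroupOfEquivOfLe (R.stab_le r.2) j)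
      have e2 := (Subgroup.subgroupOfEquivOfLe (R.stab_le r.2)).symm_apply_apply j
      change η _ = η' _ at h1
      exact (congrArg η e2).symm.trans (h1.trans (congrArg η' e2))
    · obtain rfl : η = η' := eq_of_heq (Sigma.mk.inj e).2
      rfl
  · rw [if_neg fun e => h (congrArg Sigma.fst e), X, X]
    exact indX_orth _ _ _ _ (R.orbit_ne x.1.2 y.1.2 fun e => h (Subtype.ext e))

theorem X_one_inner [Fintype (SK S K)] (x : R.Idx) :
    Cfsg.classInner (R.X x) (fun _ => 1) = 0 :=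
  inner_one _ _ (R.mem_reps.1 x.1.2).1

open scoped Classical in
theorem ext0_eta (x : R.Idx) (c : K) :
    ext0 x.1.1 (R.eta x) c = if hc : c ∈ MulAction.stabilizer K M.t then
      (if h : (⟨c, hc⟩ : MulAction.stabilizer K M.t) ∈ R.sub x.1.1 then (x.2 ⟨_, h⟩ : ℂ) else 0)
      else 0 := by
  by_cases h : c • x.1.1 = x.1.1
  · have hc : c ∈ MulAction.stabilizer K M.t := R.stab_le x.1.2 h
    rw [ext0, dif_pos h, dif_pos hc, dif_pos (show (⟨c, hc⟩ : MulAction.stabilizer K M.t) ∈ R.sub x.1.1 from h)]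
    rfl
  · rw [ext0, dif_neg h]
    by_cases hc : c ∈ MulAction.stabilizer K M.t
    · rw [dif_pos hc, dif_neg (fun hm : (⟨c, hc⟩ : MulAction.stabilizer K M.t) ∈ R.sub x.1.1 => h hm)]
    · rw [dif_neg hc]

theorem sub_eq_top {r : S →* ℂˣ}
    (h : MulAction.stabilizer K r = MulAction.stabilizer K M.t) : R.sub r = ⊤ := by
  rw [sub, h, Subgroup.subgroupOf_self]

theorem card_stab (x : R.Idx) :
    Nat.card (MulAction.stabilizer K x.1.1) * (R.sub x.1.1).index = M.e := by
  rw [← Nat.card_congr (Subgroup.subgroupOfEquivOfLe (R.stab_le x.1.2)).toEquiv]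
  exact Subgroup.card_mul_index _

theorem card_ext' (x : R.Idx) : (R.ext' x).card = (R.sub x.1.1).index := by
  classical
  have h := ext_sum (R.sub x.1.1) x.2 1
  rw [dif_pos (one_mem _)] at h
  simp only [map_one, Units.val_one, Finset.sum_const, nsmul_eq_mul, mul_one] at h
  rw [show (⟨1, one_mem _⟩ : R.sub x.1.1) = 1 from rfl, map_one, Units.val_one, mul_one] at h
  exact_mod_cast h

theorem vanish [Fintype (SK S K)] (x : R.Idx) : Cols.Vanish (R.phi x) := by
  classical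
  refine ⟨IsGeneralizedCharacter.sub (IsGeneralizedCharacter.of_isCharacter (isCharacter_indX _ _))
    (isGeneralizedCharacter_sum _ fun ψ _ =>
      IsGeneralizedCharacter.of_isCharacter (isCharacter_indX _ _)), fun k => ?_⟩
  rw [phi, Pi.sub_apply, Finset.sum_apply, sub_eq_zero]
  simp only [X, indX_inr]
  rw [Finset.sum_congr rfl fun ψ (_ : ψ ∈ R.ext' x) => show
      (Nat.card (MulAction.stabilizer K (R.bI ψ).1.1) : ℂ)⁻¹ * _ =
        (Nat.card (MulAction.stabilizer K (R.bI 1).1.1) : ℂ)⁻¹ * _ from rfl,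
    ← Finset.mul_sum, Finset.sum_comm, Finset.mul_sum, Finset.mul_sum]
  refine Finset.sum_congr rfl fun y _ => ?_
  have hb : Nat.card (MulAction.stabilizer K (R.bI 1).1.1) = M.e := by
    show Nat.card (MulAction.stabilizer K R.l₀) = M.e
    rw [R.stab₀]; rfl
  have hsum : ∑ ψ ∈ R.ext' x, ext0 (R.bI ψ).1.1 (R.eta (R.bI ψ)) (y⁻¹ * k * y) =
      ((R.sub x.1.1).index : ℂ) * ext0 x.1.1 (R.eta x) (y⁻¹ * k * y) := by
    by_cases hc : y⁻¹ * k * y ∈ MulAction.stabilizer K M.t
    · have h := ext_sum (R.sub x.1.1) x.2 ⟨_, hc⟩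
      simp only [ext0_eta, dif_pos hc]
      rw [mul_dite, mul_zero, ← h]
      refine Finset.sum_congr rfl fun ψ _ => ?_
      rw [dif_pos (show (⟨_, hc⟩ : MulAction.stabilizer K M.t) ∈ R.sub (R.bI ψ).1.1 by
        show _ ∈ R.sub R.l₀
        rw [R.sub_eq_top R.stab₀]
        exact Subgroup.mem_top _)]
      rfl
    · simp only [ext0_eta, dif_neg hc, Finset.sum_const_zero, mul_zero]
  show _ = (Nat.card (MulAction.stabilizer K (R.bI 1).1.1) : ℂ)⁻¹ * _
  rw [hsum, hb, ← R.card_stab x]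
  have h1 : (Nat.card (MulAction.stabilizer K x.1.1) : ℂ) ≠ 0 := Nat.cast_ne_zero.2 Nat.card_pos.ne'
  have h2 : ((R.sub x.1.1).index : ℂ) ≠ 0 := Nat.cast_ne_zero.2 Subgroup.index_ne_zero_of_finite
  push_cast
  field_simp

/-- The value of the local character at the involution. -/
noncomputable def uloc (x : R.Idx) : ℤ := (R.sub x.1.1).index * M.esum x.1.1

theorem X_t (x : R.Idx) : R.X x (SemidirectProduct.inl M.t) = (R.uloc x : ℂ) := by
  rw [X, M.indX_t, uloc, ← R.card_stab x]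
  have h1 : (Nat.card (MulAction.stabilizer K x.1.1) : ℂ) ≠ 0 := Nat.cast_ne_zero.2 Nat.card_pos.ne'
  push_cast
  field_simp

theorem bI_injective : Function.Injective R.bI := by
  intro ψ ψ' h
  have h2 := eq_of_heq (Sigma.mk.inj h).2
  refine MonoidHom.ext fun j => ?_
  exact DFunLike.congr_fun h2 ⟨j, by
    show j ∈ R.sub R.l₀
    rw [R.sub_eq_top R.stab₀]; exact Subgroup.mem_top _⟩

open scoped Classical in
theorem inner_phi [Fintype (SK S K)] (x y : R.Idx) (hx : x.1.1 ≠ R.l₀) (hy : y.1.1 ≠ R.l₀) :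
    Cfsg.classInner (R.phi x) (R.phi y) =
      (((if x = y then 1 else 0) + (R.ext' x ∩ R.ext' y).card : ℕ) : ℂ) := by
  have hx' : ∀ ψ, x ≠ R.bI ψ := fun ψ h => hx (congrArg (fun z : R.Idx => z.1.1) h)
  have hy' : ∀ ψ, y ≠ R.bI ψ := fun ψ h => hy (congrArg (fun z : R.Idx => z.1.1) h)
  rw [phi, phi, classInner_sub_left, classInner_sub_right, classInner_sub_right]
  simp only [classInner_sum_left, classInner_sum_right, inner_X, hx', fun ψ => (hy' ψ).symm,
    if_false, Finset.sum_const_zero, sub_zero, R.bI_injective.eq_iff, Finset.sum_ite_eq,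
    Finset.sum_boole, Nat.cast_add, Nat.cast_ite, Nat.cast_one, Nat.cast_zero]
  rw [Finset.sum_congr rfl (g := fun ψ => if ψ ∈ R.ext' x then (1 : ℂ) else 0) fun ψ _ => by
    by_cases hm : ψ ∈ R.ext' x
    · rw [if_pos hm, show (R.ext' x).filter (fun z => z = ψ) = {ψ} from by
        ext z; simp only [Finset.mem_filter, Finset.mem_singleton]; exact ⟨And.right, fun e => ⟨e ▸ hm, e⟩⟩,
        Finset.card_singleton, Nat.cast_one]
    · rw [if_neg hm, Finset.filter_eq_empty_iff.2 fun z hz (e : z = ψ) => hm (e ▸ hz), Finset.card_empty,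
        Nat.cast_zero], Finset.sum_boole, Finset.filter_mem_eq_inter,
    Finset.inter_comm]
  ring

theorem phi_t (x : R.Idx) (h0 : M.esum R.l₀ = M.f) :
    R.phi x (SemidirectProduct.inl M.t) = ((R.uloc x - (R.ext' x).card * M.f : ℤ) : ℂ) := by
  rw [phi, Pi.sub_apply, Finset.sum_apply, X_t]
  simp only [X_t]
  have : ∀ ψ, R.uloc (R.bI ψ) = M.f := fun ψ => by
    show ((R.sub R.l₀).index : ℤ) * M.esum R.l₀ = M.f
    rw [R.sub_eq_top R.stab₀, Subgroup.index_top, h0, Nat.cast_one, one_mul]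
  simp [this]

end Reps

end Cfsg.Agent.AbelInv
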