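import Cfsg.Agent.Lib.AbelInv.Act
import Mathlib.GroupTheory.PGroup
import Mathlib.Data.Nat.ModEq

/-!
An abelian 2-group with a group of odd order transitive on its involutions.
-/

set_option autoImplicit false
set_option linter.unusedSectionVars false
set_option linter.style.haveILetI false

namespace Cfsg.Agent.AbelInv

open Cfsg.Agent.Char

universe u

variable {S K : Type u} [CommGroup S] [Group K] [MulDistribMulAction K S]

/-- The hypotheses. -/
structure Hyp (S K : Type u) [CommGroup S] [Group K] [MulDistribMulAction K S] where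
  /-- an involution -/
  t : S
  t_sq : t * t = 1
  t_ne : t ≠ 1
  two : IsPGroup 2 S
  odd : Odd (Nat.card K)
  trans : ∀ z : S, z * z = 1 → z ≠ 1 → ∃ k : K, k • t = z
  comm : ∀ a b : MulAction.stabilizer K t, a * b = b * a

namespace Hyp

variable (M : Hyp S K) [Fintype S] [Fintype K]

open scoped Classical in
/-- The involutions. -/
noncomputable def invols : Finset S := Finset.univ.filter fun z => z * z = 1 ∧ z ≠ 1

/-- The order of the stabiliser of an involution. -/
noncomputable def e : ℕ := Nat.card (MulAction.stabilizer K M.t)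

/-- The number of involutions. -/
noncomputable def f (_M : Hyp S K) : ℕ := (invols (S := S)).card

theorem mem_invols {z : S} : z ∈ invols (S := S) ↔ z * z = 1 ∧ z ≠ 1 := by
  classical
  simp [invols]

theorem smul_mem (k : K) {z : S} (hz : z ∈ invols (S := S)) : k • z ∈ invols (S := S) := by
  rw [mem_invols] at hz ⊢
  refine ⟨by rw [← smul_mul', hz.1, smul_one], fun h => hz.2 ?_⟩
  rwa [← smul_one k, smul_left_cancel_iff] at h

theorem t_mem : M.t ∈ invols (S := S) := mem_invols.2 ⟨M.t_sq, M.t_ne⟩

theorem smul_t_mem (k : K) : k • M.t ∈ invols (S := S) := smul_mem k M.t_mem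

theorem f_pos : 0 < M.f := Finset.card_pos.2 ⟨M.t, M.t_mem⟩

theorem e_pos : 0 < M.e := Nat.card_pos

theorem e_odd : Odd M.e := M.odd.of_dvd_nat (Subgroup.card_subgroup_dvd_card _)

theorem fibre {z : S} (hz : z ∈ invols (S := S)) [DecidableEq S] :
    (Finset.univ.filter fun k : K => k • M.t = z).card = M.e := by
  obtain ⟨k₀, hk₀⟩ := M.trans z (mem_invols.1 hz).1 (mem_invols.1 hz).2
  rw [e, Nat.card_eq_fintype_card, ← Finset.card_univ (α := MulAction.stabilizer K M.t)]
  refine Finset.card_bij (fun k hk => ⟨k₀⁻¹ * k, ?_⟩) (fun _ _ => Finset.mem_univ _)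
    (fun a _ b _ h => mul_left_cancel (congrArg Subtype.val h)) fun j _ => ⟨k₀ * j, ?_, ?_⟩
  · rw [MulAction.mem_stabilizer_iff, mul_smul, (Finset.mem_filter.1 hk).2, ← hk₀, inv_smul_smul]
  · rw [Finset.mem_filter]
    refine ⟨Finset.mem_univ _, ?_⟩
    rw [mul_smul, (j.2 : (j : K) • M.t = M.t), hk₀]
  · exact Subtype.ext (inv_mul_cancel_left k₀ j)

theorem card_K : Nat.card K = M.f * M.e := by
  classical
  rw [Nat.card_eq_fintype_card, ← Finset.card_univ,
    Finset.card_eq_sum_card_fiberwise (f := fun k : K => k • M.t) (t := invols (S := S))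
      fun k _ => M.smul_t_mem k,
    Finset.sum_congr rfl fun z hz => M.fibre hz, Finset.sum_const, smul_eq_mul, f]

theorem card_SK : Nat.card (SK S K) = Nat.card S * (M.f * M.e) := by
  rw [SemidirectProduct.card, M.card_K]

theorem sum_smul_t {A : Type*} [AddCommMonoid A] (F : S → A) :
    ∑ k : K, F (k • M.t) = M.e • ∑ z ∈ invols (S := S), F z := by
  classical
  rw [← Finset.sum_fiberwise_of_maps_to (g := fun k : K => k • M.t) (t := invols (S := S))
    fun k _ => M.smul_t_mem k, Finset.smul_sum]
  refine Finset.sum_congr rfl fun z hz => ?_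
  rw [Finset.sum_congr rfl fun k hk => by rw [(Finset.mem_filter.1 hk).2], Finset.sum_const,
    M.fibre hz]

open scoped Classical in
/-- The sum over the involutions of a linear character. -/
noncomputable def esum (l : S →* ℂˣ) : ℤ :=
  if ∀ z : S, z * z = 1 → l z = 1 then (M.f : ℤ) else -1

theorem sum_invols (l : S →* ℂˣ) : ∑ z ∈ invols (S := S), (l z : ℂ) = (M.esum l : ℂ) := by
  classical
  unfold esum
  split_ifs with h
  · rw [Finset.sum_congr rfl fun z hz => show (l z : ℂ) = 1 by
      rw [h z (mem_invols.1 hz).1, Units.val_one]]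
    simp [f]
  · push Not at h
    obtain ⟨w, hw, hlw⟩ := h
    let E : Subgroup S := (powMonoidHom 2 : S →* S).ker
    haveI : Fintype E := Fintype.ofFinite _
    have hE : ∀ z : S, z ∈ E ↔ z * z = 1 := fun z => by
      rw [MonoidHom.mem_ker, powMonoidHom_apply, pow_two]
    have h0 := hom_sum (l.domRestrict E)
    rw [if_neg (fun h => hlw (DFunLike.congr_fun h ⟨w, (hE w).2 hw⟩))] at h0
    have h0' : ∑ a : E, (l (a : S) : ℂ) = 0 := h0
    rw [← Finset.sum_subtype (Finset.univ.filter fun z : S => z * z = 1)
      (fun z => (by simp [hE] : z ∈ Finset.univ.filter (fun z : S => z * z = 1) ↔ z ∈ E))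
      (fun z => (l z : ℂ))] at h0'
    clear h0
    rename' h0' => h0
    have hsplit : Finset.univ.filter (fun z : S => z * z = 1) = insert 1 (invols (S := S)) := by
      ext z
      by_cases hz : z = 1 <;> simp [mem_invols, hz]
    rw [hsplit, Finset.sum_insert (by simp [mem_invols]), map_one, Units.val_one] at h0
    push_cast
    linear_combination h0

theorem sum_dual_t (l : S →* ℂˣ) :
    ∑ x : K, ((x • l) M.t : ℂ) = (M.e : ℂ) * (M.esum l : ℂ) := by
  rw [← M.sum_invols, ← nsmul_eq_mul, ← M.sum_smul_t fun z => (l z : ℂ)]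
  exact Fintype.sum_equiv (Equiv.inv K) _ _ fun x => by simp [dual_apply]

theorem indX_t (l : S →* ℂˣ) (η : MulAction.stabilizer K l →* ℂˣ) :
    indX l η (SemidirectProduct.inl M.t) =
      (Nat.card (MulAction.stabilizer K l) : ℂ)⁻¹ * ((M.e : ℂ) * (M.esum l : ℂ)) := by
  rw [indX_inl, M.sum_dual_t]

theorem esum_smul (k : K) (l : S →* ℂˣ) : M.esum (k • l) = M.esum l := by
  classical
  refine if_congr ⟨fun h z hz => ?_, fun h z hz => ?_⟩ rfl rfl
  · have := h (k • z) (by rw [← smul_mul', hz, smul_one])
    rwa [dual_apply, inv_smul_smul] at this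
  · rw [dual_apply]
    exact h _ (by rw [← smul_mul', hz, smul_one])

include M in
/-- An element of odd order of the semidirect product is conjugate into the complement. -/
theorem exists_conj_inr (a : SK S K) (ha : Odd (orderOf a)) :
    ∃ s : S, (SemidirectProduct.inl s)⁻¹ * a * SemidirectProduct.inl s =
      (SemidirectProduct.inr a.right : SK S K) := by
  set m := orderOf a with hm
  let N : ℕ → S := fun i => (a ^ i).left
  have hk : ∀ i, (a ^ i).right = a.right ^ i := fun i =>
    map_pow (SemidirectProduct.rightHom : SK S K →* K) a i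
  have hN : ∀ i, N (i + 1) = a.left * a.right • N i := fun i => by
    simp only [N, pow_succ']
    rfl
  have hN0 : N 0 = 1 := rfl
  have hNm : N m = 1 := by simp only [N, hm, pow_orderOf_eq_one]; rfl
  let P : S := ∏ i ∈ Finset.range m, N i
  have hP : P = a.left ^ m * a.right • P := by
    conv_lhs => rw [show P = (∏ i ∈ Finset.range m, N i) * N m by rw [hNm, mul_one]]
    rw [← Finset.prod_range_succ, Finset.prod_range_succ', hN0, mul_one]
    simp only [hN, Finset.prod_mul_distrib, Finset.prod_const, Finset.card_range, P, Finset.smul_prod']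
  obtain ⟨b, hb⟩ := IsPGroup.iff_card.1 M.two
  obtain ⟨c, hc⟩ := Nat.exists_mul_mod_eq_one_of_coprime
    (n := m) (k := 2 ^ (b + 1)) (Nat.Coprime.pow_right _ (Nat.coprime_two_right.2 ha))
    (Nat.one_lt_two_pow (by omega))
  have hsc : (a.left ^ m) ^ c = a.left := by
    conv_rhs => rw [← pow_one a.left]
    rw [← pow_mul, pow_eq_pow_iff_modEq]
    refine Nat.ModEq.of_dvd ((orderOf_dvd_natCard a.left).trans (hb ▸ pow_dvd_pow 2 (Nat.le_succ b))) ?_
    rw [Nat.ModEq, hc.2, Nat.mod_eq_of_lt (Nat.one_lt_two_pow (by omega))]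
  refine ⟨P ^ c, ?_⟩
  have h2 : a.left * a.right • P ^ c = P ^ c := by
    conv_rhs => rw [hP, mul_pow, hsc]
    rw [smul_pow']
  ext
  · simp only [← map_inv, SemidirectProduct.mul_left, SemidirectProduct.mul_right,
      SemidirectProduct.left_inl, SemidirectProduct.right_inl, one_mul, map_one, MulAut.one_apply,
      SemidirectProduct.left_inr]
    show (P ^ c)⁻¹ * a.left * a.right • P ^ c = 1
    rw [mul_assoc, h2, inv_mul_cancel]
  · simp only [← map_inv, SemidirectProduct.mul_right, SemidirectProduct.right_inl, one_mul, mul_one,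
      SemidirectProduct.right_inr]

end Hyp

end Cfsg.Agent.AbelInv
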