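import Cfsg.Agent.Lib.AbelInv.Setup
import Cfsg.Agent.Lib.AbelInv.Hyp

/-!
The fibres over the semidirect quotient and the counts of involutions.
-/

set_option autoImplicit false
set_option linter.unusedSectionVars false
set_option linter.style.haveILetI false

namespace Cfsg.Agent.AbelInv

open Subgroup

universe u

variable {G S K : Type u} [Group G] [Fintype G] [CommGroup S] [Group K] [MulDistribMulAction K S]
  [Fintype S] [Fintype K] (Mo : Model G S K) (M : Hyp S K)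

namespace Model

open scoped Classical in
/-- The projection extended to the whole group. -/
noncomputable def pr (g : G) : SK S K := if h : g ∈ Mo.H then Mo.proj ⟨g, h⟩ else 1

theorem pr_eq {g : G} (h : g ∈ Mo.H) : Mo.pr g = Mo.proj ⟨g, h⟩ := dif_pos h

theorem pr_one : Mo.pr 1 = 1 := by
  rw [Mo.pr_eq (one_mem _)]
  exact map_one Mo.proj

theorem pr_mul {g h : G} (hg : g ∈ Mo.H) (hh : h ∈ Mo.H) : Mo.pr (g * h) = Mo.pr g * Mo.pr h := by
  rw [Mo.pr_eq hg, Mo.pr_eq hh, Mo.pr_eq (mul_mem hg hh), ← map_mul]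
  rfl

theorem pr_inv {g : G} (hg : g ∈ Mo.H) : Mo.pr g⁻¹ = (Mo.pr g)⁻¹ := by
  rw [Mo.pr_eq hg, Mo.pr_eq (inv_mem hg), ← map_inv]
  rfl

theorem pr_pow {g : G} (hg : g ∈ Mo.H) (n : ℕ) : Mo.pr (g ^ n) = Mo.pr g ^ n := by
  induction n with
  | zero => rw [pow_zero, pow_zero, pr_one]
  | succ n ih => rw [pow_succ, pow_succ, Mo.pr_mul (pow_mem hg n) hg, ih]

theorem pr_eq_one {g : G} (hg : g ∈ Mo.H) : Mo.pr g = 1 ↔ g ∈ Mo.W := by
  rw [Mo.pr_eq hg, ← MonoidHom.mem_ker, Mo.ker, mem_subgroupOf]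

theorem pr_surj (a : SK S K) : ∃ g ∈ Mo.H, Mo.pr g = a := by
  obtain ⟨⟨g, hg⟩, h⟩ := Mo.surj a
  exact ⟨g, hg, (Mo.pr_eq hg).trans h⟩

theorem emb_mem (s : S) : (Mo.emb s : G) ∈ Mo.H := Mo.P_le (Mo.emb s).2

theorem pr_emb (s : S) : Mo.pr (Mo.emb s) = SemidirectProduct.inl s :=
  (Mo.pr_eq (Mo.emb_mem s)).trans (Mo.proj_emb s)

open scoped Classical in
/-- The fibre over an element of the quotient. -/
noncomputable def fib (a : SK S K) : Finset G :=
  Finset.univ.filter fun g => g ∈ Mo.H ∧ Mo.pr g = a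

theorem mem_fib {a : SK S K} {g : G} : g ∈ Mo.fib a ↔ g ∈ Mo.H ∧ Mo.pr g = a := by
  classical
  simp [fib]

theorem sum_fib {A : Type*} [AddCommMonoid A] [Fintype Mo.W] (F : G → A) {a : SK S K} {g₀ : G}
    (hg : g₀ ∈ Mo.fib a) : ∑ g ∈ Mo.fib a, F g = ∑ w : Mo.W, F (g₀ * (w : G)) := by
  obtain ⟨hgH, hga⟩ := Mo.mem_fib.1 hg
  symm
  refine Finset.sum_bij (fun w _ => g₀ * (w : G)) (fun w _ => Mo.mem_fib.2 ?_)
    (fun w _ w' _ h => Subtype.ext (mul_left_cancel h)) (fun g hg' => ?_) fun _ _ => rfl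
  · have hwH := Mo.W_le w.2
    exact ⟨mul_mem hgH hwH, by rw [Mo.pr_mul hgH hwH, hga, (Mo.pr_eq_one hwH).2 w.2, mul_one]⟩
  · obtain ⟨hH, ha⟩ := Mo.mem_fib.1 hg'
    refine ⟨⟨g₀⁻¹ * g, (Mo.pr_eq_one (mul_mem (inv_mem hgH) hH)).1 ?_⟩, Finset.mem_univ _,
      mul_inv_cancel_left _ _⟩
    rw [Mo.pr_mul (inv_mem hgH) hH, Mo.pr_inv hgH, hga, ha, inv_mul_cancel]

theorem exists_mem_fib (a : SK S K) : ∃ g, g ∈ Mo.fib a := by
  obtain ⟨g, hg, h⟩ := Mo.pr_surj a
  exact ⟨g, Mo.mem_fib.2 ⟨hg, h⟩⟩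

theorem card_fib (a : SK S K) : (Mo.fib a).card = Nat.card Mo.W := by
  classical
  haveI : Fintype Mo.W := Fintype.ofFinite _
  obtain ⟨g, hg⟩ := Mo.exists_mem_fib a
  rw [Finset.card_eq_sum_ones, Mo.sum_fib _ hg]
  simp [Nat.card_eq_fintype_card]

theorem card_H : Nat.card Mo.H = Nat.card Mo.W * Nat.card (SK S K) := by
  rw [← card_mul_index Mo.proj.ker, index_ker, MonoidHom.range_eq_top.2 Mo.surj, card_top, Mo.ker,
    Nat.card_congr (subgroupOfEquivOfLe Mo.W_le).toEquiv]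

theorem card_G : Nat.card G = Mo.H.index * (Nat.card Mo.W * Nat.card (SK S K)) := by
  rw [← Mo.card_H, index_mul_card]

theorem even_orderOf {g : G} (hg : g ∈ Mo.H) (h : Even (orderOf (Mo.pr g))) : Even (orderOf g) := by
  rw [Mo.pr_eq hg] at h
  have h2 := orderOf_map_dvd Mo.proj ⟨g, hg⟩
  rw [orderOf_mk] at h2
  exact even_iff_two_dvd.2 (h.two_dvd.trans h2)

theorem ne_one_of_even {g : G} (hg : g ∈ Mo.H) (h : Even (orderOf (Mo.pr g))) : g ≠ 1 := by
  rintro rfl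
  rw [pr_one, orderOf_one] at h
  exact Nat.not_even_one h

theorem exists_involution {g : G} (hev : Even (orderOf g)) : ∃ i : ℕ, orderOf (g ^ i) = 2 := by
  refine ⟨orderOf g / 2, ?_⟩
  have hpos := orderOf_pos g
  obtain ⟨k, hk⟩ := hev
  rw [orderOf_pow_of_dvd (by omega) (Nat.div_dvd_of_dvd ⟨k, by omega⟩), hk]
  rw [show (k + k) / 2 = k by omega]
  exact Nat.div_eq_of_eq_mul_left (by omega) (by omega)

/-- An element of even order is conjugate into the subgroup by its elements only. -/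
theorem mem_of_conj {g h : G} (hh : h ∈ Mo.H) (hev : Even (orderOf h)) (hc : g * h * g⁻¹ ∈ Mo.H) :
    g ∈ Mo.H := by
  obtain ⟨i, hi⟩ := exists_involution hev
  refine Invol.se_mem_of_conj Mo.se hi (pow_mem hh i) ?_
  rw [← conj_pow]
  exact pow_mem hc i

/-- The centraliser of a nontrivial 2-element of the subgroup. -/
theorem centralizer_le {x : G} (hx : x ∈ Mo.H) (h : ∃ k, orderOf x = 2 ^ k) (hx1 : x ≠ 1) :
    centralizer ({x} : Set G) ≤ Mo.H := by
  obtain ⟨k, hk⟩ := h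
  have hev : Even (orderOf x) := by
    rw [hk, Nat.even_pow]
    refine ⟨even_two, fun h0 => hx1 ?_⟩
    rw [← orderOf_eq_one_iff, hk, h0, pow_zero]
  intro g hg
  refine Mo.mem_of_conj hx hev ?_
  rw [mem_centralizer_singleton_iff.1 hg, mul_inv_cancel_right]
  exact hx

theorem index_ge (hS : ∃ s : S, s ≠ 1) : Nat.card S + 1 ≤ Mo.H.index := by
  classical
  obtain ⟨g₀, hg₀⟩ : ∃ g : G, g ∉ Mo.H := by
    by_contra! h
    exact Mo.se.1 (eq_top_iff.2 fun x _ => h x)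
  have hev : ∀ s : S, s ≠ 1 → Even (orderOf (Mo.emb s : G)) := fun s hs => by
    obtain ⟨k, hk⟩ := Mo.P.2 (Mo.emb s)
    obtain ⟨j, -, hj⟩ := (Nat.dvd_prime_pow Nat.prime_two).1 (orderOf_dvd_of_pow_eq_one hk)
    rw [Subgroup.orderOf_coe, hj, Nat.even_pow]
    refine ⟨even_two, fun h0 => hs (Mo.emb.injective ?_)⟩
    rw [map_one, ← orderOf_eq_one_iff, hj, h0, pow_zero]
  let F : Option S → G ⧸ Mo.H := fun o => o.elim ((1 : G) : G ⧸ Mo.H) fun s => (((Mo.emb s : G) * g₀ : G) : G ⧸ Mo.H)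
  have hF : Function.Injective F := by
    rintro (_ | s) (_ | s') h
    · rfl
    · exfalso
      have h' := QuotientGroup.eq.1 (h : ((1 : G) : G ⧸ Mo.H) = _)
      rw [inv_one, one_mul] at h'
      have := mul_mem (inv_mem (Mo.emb_mem s')) h'
      rw [inv_mul_cancel_left] at this
      exact hg₀ this
    · exfalso
      have h' := QuotientGroup.eq.1 ((h : _ = ((1 : G) : G ⧸ Mo.H)).symm)
      rw [inv_one, one_mul] at h'
      have := mul_mem (inv_mem (Mo.emb_mem s)) h'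
      rw [inv_mul_cancel_left] at this
      exact hg₀ this
    · have h' := QuotientGroup.eq.1 (h : (((Mo.emb s : G) * g₀ : G) : G ⧸ Mo.H) = _)
      rw [show ((Mo.emb s : G) * g₀)⁻¹ * ((Mo.emb s' : G) * g₀) =
        g₀⁻¹ * ((Mo.emb s : G)⁻¹ * (Mo.emb s' : G)) * g₀ by group] at h'
      have e : (Mo.emb s : G)⁻¹ * (Mo.emb s' : G) = (Mo.emb (s⁻¹ * s') : G) := by
        rw [map_mul, map_inv, coe_mul, coe_inv]
      rw [e] at h'
      congr 1
      by_contra hne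
      refine hg₀ (inv_mem_iff.1 (Mo.mem_of_conj (Mo.emb_mem (s⁻¹ * s'))
        (hev _ fun h1 => hne (inv_mul_eq_one.1 h1)) ?_))
      rwa [inv_inv]
  have := Nat.card_le_card_of_injective F hF
  rwa [Finite.card_option] at this

/-- The involution. -/
noncomputable def tG : G := Mo.emb M.t

theorem orderOf_tG : orderOf (Mo.tG M) = 2 := by
  rw [tG, Subgroup.orderOf_coe, MulEquiv.orderOf_eq, orderOf_eq_prime (by rw [pow_two, M.t_sq]) M.t_ne]

theorem tG_mem : Mo.tG M ∈ Mo.H := Mo.emb_mem _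

theorem isConj_tG {u : G} : IsConj (Mo.tG M) u ↔ orderOf u = 2 := by
  refine ⟨fun h => ?_, fun h => Invol.se_isConj Mo.se (Mo.orderOf_tG M) h⟩
  obtain ⟨c, rfl⟩ := isConj_iff.1 h
  rw [Invol.order_conj, Mo.orderOf_tG M]

include M in
theorem invol_image {u : G} (hu : u ∈ Mo.H) (h2 : orderOf u = 2) :
    ∃ b ∈ Hyp.invols (S := S), Mo.pr u = SemidirectProduct.inl b := by
  have hsq : Mo.pr u * Mo.pr u = 1 := by
    rw [← Mo.pr_mul hu hu, ← pow_two, ← h2, pow_orderOf_eq_one, pr_one]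
  have hne : Mo.pr u ≠ 1 := fun h => by
    have hW := (Mo.pr_eq_one hu).1 h
    have hd := orderOf_dvd_natCard (⟨u, hW⟩ : Mo.W)
    rw [orderOf_mk, h2] at hd
    exact (Nat.not_even_iff_odd.2 Mo.W_odd) (even_iff_two_dvd.2 hd)
  have hr : (Mo.pr u).right = 1 := by
    have h' : (Mo.pr u).right * (Mo.pr u).right = 1 := congrArg SemidirectProduct.right hsq
    rw [← orderOf_eq_one_iff]
    exact Nat.eq_one_of_dvd_coprimes (Nat.coprime_two_left.2 M.odd)
      (orderOf_dvd_of_pow_eq_one (by rw [pow_two]; exact h')) (orderOf_dvd_natCard _)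
  have he : Mo.pr u = SemidirectProduct.inl (Mo.pr u).left := by
    conv_lhs => rw [← SemidirectProduct.inl_left_mul_inr_right (Mo.pr u), hr, map_one, mul_one]
  refine ⟨(Mo.pr u).left, Hyp.mem_invols.2 ⟨?_, fun h => hne (by rw [he, h, map_one])⟩, he⟩
  apply SemidirectProduct.inl_injective (φ := MulDistribMulAction.toMulAut K S)
  rw [map_mul, map_one, ← he, hsq]

open scoped Classical in
/-- The involutions over an involution of the 2-group. -/
noncomputable def invOver (b : S) : Finset G :=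
  (Mo.fib (SemidirectProduct.inl b)).filter fun u => orderOf u = 2

theorem mem_invOver {b : S} {u : G} :
    u ∈ Mo.invOver b ↔ (u ∈ Mo.H ∧ Mo.pr u = SemidirectProduct.inl b) ∧ orderOf u = 2 := by
  classical
  simp [invOver, mem_fib]

theorem card_invOver {b : S} (hb : b ∈ Hyp.invols (S := S)) :
    (Mo.invOver b).card = (Mo.invOver M.t).card := by
  obtain ⟨k, hk⟩ := M.trans b (Hyp.mem_invols.1 hb).1 (Hyp.mem_invols.1 hb).2
  obtain ⟨c, hc, hck⟩ := Mo.pr_surj (SemidirectProduct.inr k)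
  have e : (SemidirectProduct.inr k : SK S K) * SemidirectProduct.inl M.t * (SemidirectProduct.inr k)⁻¹ =
      SemidirectProduct.inl b := by
    rw [← hk, ← map_inv]
    exact (SemidirectProduct.inl_aut k M.t).symm
  symm
  refine Finset.card_bij' (fun u _ => c * u * c⁻¹) (fun u _ => c⁻¹ * u * c) (fun u hu => ?_)
    (fun u hu => ?_) (fun u _ => by group) fun u _ => by group
  · obtain ⟨⟨huH, hup⟩, hu2⟩ := Mo.mem_invOver.1 hu
    refine Mo.mem_invOver.2 ⟨⟨mul_mem (mul_mem hc huH) (inv_mem hc), ?_⟩, by rw [Invol.order_conj, hu2]⟩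
    rw [Mo.pr_mul (mul_mem hc huH) (inv_mem hc), Mo.pr_mul hc huH, Mo.pr_inv hc, hck, hup, e]
  · obtain ⟨⟨huH, hup⟩, hu2⟩ := Mo.mem_invOver.1 hu
    refine Mo.mem_invOver.2 ⟨⟨mul_mem (mul_mem (inv_mem hc) huH) hc, ?_⟩, ?_⟩
    · rw [Mo.pr_mul (mul_mem (inv_mem hc) huH) hc, Mo.pr_mul (inv_mem hc) huH, Mo.pr_inv hc, hck, hup,
        ← e]
      group
    · rw [show c⁻¹ * u * c = c⁻¹ * u * c⁻¹⁻¹ by rw [inv_inv], Invol.order_conj, hu2]

theorem invOver_mul_centralizer :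
    (Mo.invOver M.t).card * Nat.card (centralizer ({Mo.tG M} : Set G)) =
      Nat.card Mo.W * (Nat.card S * M.e) := by
  classical
  set A : Finset G := Finset.univ.filter fun u => u ∈ Mo.H ∧ orderOf u = 2 with hA
  have hA1 : A.card = M.f * (Mo.invOver M.t).card := by
    have hdisj : ((Hyp.invols (S := S) : Finset S) : Set S).PairwiseDisjoint Mo.invOver := by
      intro b _ b' _ hne
      refine Finset.disjoint_left.2 fun u hu hu' => hne ?_
      exact SemidirectProduct.inl_injective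
        ((Mo.mem_invOver.1 hu).1.2.symm.trans (Mo.mem_invOver.1 hu').1.2)
    have hU : A = (Hyp.invols (S := S)).biUnion Mo.invOver := by
      ext u
      simp only [hA, Finset.mem_filter, Finset.mem_univ, true_and, Finset.mem_biUnion, mem_invOver]
      refine ⟨fun h => ?_, fun ⟨b, _, h, h'⟩ => ⟨h.1, h'⟩⟩
      obtain ⟨b, hb, he⟩ := Mo.invol_image M h.1 h.2
      exact ⟨b, hb, ⟨h.1, he⟩, h.2⟩
    rw [hU, Finset.card_biUnion hdisj, Finset.sum_congr rfl fun b hb => Mo.card_invOver M hb,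
      Finset.sum_const, smul_eq_mul, Hyp.f]
  set HF : Finset G := Finset.univ.filter fun g => g ∈ Mo.H with hHF
  have hHFc : HF.card = Nat.card Mo.H := by
    rw [hHF, Nat.card_eq_fintype_card, Fintype.card_subtype]
  have hmap : ∀ g ∈ HF, g * Mo.tG M * g⁻¹ ∈ A := fun g hg => by
    have hg' := (Finset.mem_filter.1 hg).2
    exact Finset.mem_filter.2 ⟨Finset.mem_univ _, mul_mem (mul_mem hg' (Mo.tG_mem M)) (inv_mem hg'),
      by rw [Invol.order_conj, Mo.orderOf_tG M]⟩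
  have h1 := Finset.card_eq_sum_card_fiberwise hmap
  have hfib : ∀ u ∈ A, (HF.filter fun g => g * Mo.tG M * g⁻¹ = u).card =
      Nat.card (centralizer ({Mo.tG M} : Set G)) := by
    intro u hu
    obtain ⟨huH, hu2⟩ := (Finset.mem_filter.1 hu).2
    obtain ⟨g₀, hg₀⟩ := isConj_iff.1 ((Mo.isConj_tG M).2 hu2)
    have hg₀H : g₀ ∈ Mo.H :=
      Invol.se_mem_of_conj Mo.se (Mo.orderOf_tG M) (Mo.tG_mem M) (hg₀ ▸ huH)
    rw [Nat.card_eq_fintype_card, ← Finset.card_univ]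
    refine Finset.card_bij' (fun g hg => ⟨g₀⁻¹ * g, ?_⟩) (fun c _ => g₀ * (c : G))
      (fun _ _ => Finset.mem_univ _) (fun c _ => ?_) (fun g _ => mul_inv_cancel_left _ _)
      fun c _ => Subtype.ext (inv_mul_cancel_left _ _)
    · rw [mem_centralizer_singleton_iff, ← mul_inv_eq_iff_eq_mul, _root_.mul_inv_rev, inv_inv]
      calc g₀⁻¹ * g * Mo.tG M * (g⁻¹ * g₀) = g₀⁻¹ * (g * Mo.tG M * g⁻¹) * g₀ := by group
        _ = Mo.tG M := by rw [(Finset.mem_filter.1 hg).2, ← hg₀]; group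
    · refine Finset.mem_filter.2 ⟨Finset.mem_filter.2 ⟨Finset.mem_univ _, mul_mem hg₀H
        (Invol.se_centralizer_le Mo.se (Mo.orderOf_tG M) (Mo.tG_mem M) c.2)⟩, ?_⟩
      rw [← hg₀]
      calc g₀ * (c : G) * Mo.tG M * (g₀ * (c : G))⁻¹ = g₀ * ((c : G) * Mo.tG M * (c : G)⁻¹) * g₀⁻¹ := by
            group
        _ = _ := by rw [mem_centralizer_singleton_iff.1 c.2, mul_inv_cancel_right]
  rw [Finset.sum_congr rfl hfib, Finset.sum_const, smul_eq_mul, hHFc, Mo.card_H, M.card_SK, hA1] at h1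
  refine Nat.eq_of_mul_eq_mul_left M.f_pos ?_
  rw [← mul_assoc, ← h1]
  ring

end Model

end Cfsg.Agent.AbelInv
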