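import Cfsg.Agent.Lib.AbelInv.Act
import Cfsg.Agent.Lib.SolvCores.Main
import Cfsg.Agent.Lib.Involutions.SwapCount
import Mathlib.GroupTheory.SchurZassenhaus
import Mathlib.GroupTheory.Transfer

/-!
A simple group with an abelian Sylow 2-subgroup of rank at least three and solvable centralisers of
involutions has a strongly embedded subgroup which is a semidirect product modulo a normal subgroup
of odd order.
-/

set_option autoImplicit false
set_option linter.unusedSectionVars false
set_option linter.style.haveILetI false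

namespace Cfsg.Agent.AbelInv

open Subgroup Cfsg.Agent.Signalizer Cfsg.Agent.Signalizer.SFT

universe u

/-- A solvable group with an abelian Sylow 2-subgroup. -/
theorem solv_abelian_core {C : Type u} [Group C] [Finite C] [Group.IsSolvable C] (T : Sylow 2 C)
    (hT : ∀ a ∈ T, ∀ b ∈ T, a * b = b * a) :
    normalizer ((T : Subgroup C) : Set C) ⊔ Cfsg.pPrimeCore 2 C = ⊤ ∧
      ∀ x, Odd (orderOf x) → (∀ a ∈ T, x * a = a * x) → x ∈ Cfsg.pPrimeCore 2 C := by
  haveI : Fact (Nat.Prime 2) := ⟨Nat.prime_two⟩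
  haveI := FittingCores.pPrimeCore_normal (G := C) 2
  set O := Cfsg.pPrimeCore 2 C with hO
  set π := QuotientGroup.mk' O with hπ
  let T' : Sylow 2 (C ⧸ O) := T.mapSurjective (QuotientGroup.mk'_surjective O)
  have hc := FittingCores.centralizer_pCore_le (G := C ⧸ O) Nat.prime_two
    (Components.pPrimeCore_quotient _)
  have hQ : Cfsg.pCore 2 (C ⧸ O) ≤ (T : Subgroup C).map π := PBasic.pCore_le_sylow T'
  have hTQ : (T : Subgroup C).map π ≤ Cfsg.pCore 2 (C ⧸ O) := by
    refine le_trans ?_ hc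
    rintro _ ⟨a, ha, rfl⟩
    refine mem_centralizer_iff.2 fun y hy => ?_
    obtain ⟨b, hb, rfl⟩ := hQ hy
    rw [← map_mul, ← map_mul, hT b hb a ha]
  refine ⟨?_, fun x hx hxT => ?_⟩
  · have h := PPrimePC.normalizer_sup_eq_top T
    rwa [PPrimePC.coreH, inf_eq_left.2 (show (T : Subgroup C) ≤ Cfsg.pPrimePCore 2 C from
      fun a ha => show π a ∈ Cfsg.pCore 2 (C ⧸ O) from hTQ ⟨a, ha, rfl⟩)] at h
  · have h1 : π x ∈ Cfsg.pCore 2 (C ⧸ O) := hc (mem_centralizer_iff.2 fun y hy => by
      obtain ⟨b, hb, rfl⟩ := hQ hy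
      rw [← map_mul, ← map_mul, hxT b hb])
    obtain ⟨k, hk⟩ := PBasic.pCore_isPGroup 2 (C ⧸ O) ⟨π x, h1⟩
    have hk' : π x ^ 2 ^ k = 1 := congrArg Subtype.val hk
    refine (QuotientGroup.eq_one_iff x).1 ?_
    show π x = 1
    rw [← orderOf_eq_one_iff]
    exact Nat.eq_one_of_dvd_coprimes (Nat.Coprime.pow_left k (Nat.coprime_two_left.2 hx))
      (orderOf_dvd_of_pow_eq_one hk') (orderOf_map_dvd π x)

/-- The commutative structure of an abelian subgroup. -/
@[reducible] noncomputable def commOf {G : Type u} [Group G] (P : Subgroup G) (h : IsMulCommutative P) :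
    CommGroup P :=
  { (inferInstance : Group P) with mul_comm := fun a b => h.is_comm.comm a b }

/-- A strongly embedded subgroup with a semidirect quotient. -/
structure Model (G : Type u) [Group G] (S K : Type u) [CommGroup S] [Group K]
    [MulDistribMulAction K S] where
  /-- the Sylow subgroup -/
  P : Sylow 2 G
  /-- its identification -/
  emb : S ≃* (P : Subgroup G)
  /-- the strongly embedded subgroup -/
  H : Subgroup G
  /-- its normal subgroup of odd order -/
  W : Subgroup G
  se : Cfsg.IsStronglyEmbedded H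
  W_le : W ≤ H
  W_norm : H ≤ normalizer (W : Set G)
  W_odd : Odd (Nat.card W)
  P_le : (P : Subgroup G) ≤ H
  /-- the projection -/
  proj : H →* SK S K
  surj : Function.Surjective proj
  ker : proj.ker = W.subgroupOf H
  proj_emb : ∀ s : S, proj ⟨emb s, P_le (emb s).2⟩ = SemidirectProduct.inl s

variable {G : Type u} [Group G] [Finite G]

theorem exists_model [IsSimpleGroup G] (hG : ¬ IsMulCommutative G) (P : Sylow 2 G)
    (hP : IsMulCommutative (P : Subgroup G)) (h3 : ¬ Cfsg.PRankLE 2 2 (P : Subgroup G))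
    (hsol : ∀ t : G, orderOf t = 2 → Group.IsSolvable ↥(centralizer ({t} : Set G))) :
    letI := commOf (P : Subgroup G) hP
    ∃ (K : Type u) (_ : Group K) (_ : Finite K) (_ : MulDistribMulAction K (P : Subgroup G)),
      Odd (Nat.card K) ∧ (∀ k : K, (∀ s : (P : Subgroup G), k • s = s) → k = 1) ∧
      (∀ a b : (P : Subgroup G), a * a = 1 → a ≠ 1 → b * b = 1 → b ≠ 1 → ∃ k : K, k • a = b) ∧
      Nonempty (Model G (P : Subgroup G) K) := by
  classical
  letI := commOf (P : Subgroup G) hP
  haveI hp : Fact (Nat.Prime 2) := ⟨Nat.prime_two⟩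
  have hcomm : ∀ a ∈ (P : Subgroup G), ∀ b ∈ (P : Subgroup G), a * b = b * a := fun a ha b hb =>
    congrArg Subtype.val (hP.is_comm.comm ⟨a, ha⟩ ⟨b, hb⟩)
  obtain ⟨V, hV⟩ := SolvCores.exists_hub P (P : Subgroup G) le_rfl
    ⟨fun n hn g => mem_subgroupOf.2 (mul_mem (mul_mem g.2 (mem_subgroupOf.1 hn)) (inv_mem g.2))⟩ hP h3
  let θ : G → Subgroup G := fun a => Cfsg.centralizerPPrimeCore 2 a
  have Θ : Equivariant 2 θ := equivariant_cores fun a ha => by
    haveI := hsol a ha.1
    refine ⟨Components.isPConstrained_iff_pLayer.1 (Components.isPConstrained_iff_charP.2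
      (FittingCores.centralizer_pCore_le Nat.prime_two (Components.pPrimeCore_quotient _))), ?_⟩
    exact Group.isSolvable_of_isSolvable_injective
      (f := inclusion (show Cfsg.centralizerPPrimeCore 2 a ≤ centralizer ({a} : Set G) from map_subtype_le _))
      (inclusion_injective _)
  have hV3 : 2 ^ 3 ≤ Nat.card V := hV.card
  set W := thetaClosure θ V with hW
  have hWodd : Odd (Nat.card W) := by
    rw [← Nat.not_even_iff_odd, even_iff_two_dvd]
    exact (iSup_props hV.ea hV3 (Θ.functor hV.ea hV3)).1.2.1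
  -- the trace of `W` on the centraliser of an involution of the Sylow subgroup
  have hθW : ∀ a ∈ (P : Subgroup G), orderOf a = 2 → θ a ≤ W := by
    intro a haS ha
    obtain ⟨E, haE, hE, hES, hE4⟩ := hV.exists_four ha haS
    have ha1 : a ≠ 1 := fun h1 => by simp [h1] at ha
    exact (le_iSup (fun b : {b : G // b ∈ E ∧ b ≠ 1} => θ b.1) ⟨a, haE, ha1⟩).trans
      (hV.closure_const Θ hE hES hE4).le
  set N := normalizer ((P : Subgroup G) : Set G) with hN
  have hPN : (P : Subgroup G) ≤ N := le_normalizer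
  have hNW : N ≤ normalizer (W : Set G) := by
    intro n hn
    rw [mem_normalizer_iff_map_conj_eq]
    refine (Θ.closure_conj hV.ea hV3 n).symm.trans (hV.closure_const Θ (SolvCores.ea_map _ hV.ea) ?_ ?_)
    · rintro _ ⟨v, hv, rfl⟩
      exact (mem_normalizer_iff.1 hn v).1 (hV.le hv)
    · rw [card_map_of_injective (MulAut.conj n).injective]
      have := hV.card
      omega
  set H := W ⊔ N with hH
  have hWH : W ≤ H := le_sup_left
  have hNH : N ≤ H := le_sup_right
  have hPH : (P : Subgroup G) ≤ H := hPN.trans hNH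
  have hHW : H ≤ normalizer (W : Set G) := sup_le le_normalizer hNW
  have hcent : ∀ a ∈ (P : Subgroup G), orderOf a = 2 → centralizer ({a} : Set G) ≤ H ∧
      ∀ x ∈ centralizer ({a} : Set G), Odd (orderOf x) → (∀ b ∈ (P : Subgroup G), x * b = b * x) →
        x ∈ W := by
    intro a haS ha
    haveI := hsol a ha
    set C := centralizer ({a} : Set G) with hC
    have hPC : (P : Subgroup G) ≤ C := fun b hb => mem_centralizer_singleton_iff.2 (hcomm b hb a haS)
    obtain ⟨h1, h2⟩ := solv_abelian_core (P.subtype hPC) fun x hx y hy =>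
      Subtype.ext (hcomm x (by exact hx) y
        (by exact hy))
    refine ⟨fun x hx => ?_, fun x hx ho hxP => hθW a haS ha
      ⟨⟨x, hx⟩, h2 ⟨x, hx⟩ (by rwa [Subgroup.orderOf_mk]) fun y hy => Subtype.ext
        (hxP y (by exact hy)), rfl⟩⟩
    have hx' : (⟨x, hx⟩ : C) ∈ normalizer ((P.subtype hPC : Subgroup C) : Set C) ⊔ Cfsg.pPrimeCore 2 C := by
      rw [h1]; exact mem_top _
    haveI := FittingCores.pPrimeCore_normal (G := C) 2
    obtain ⟨y, hy, z, hz, he⟩ := mem_sup_of_normal_right.1 hx'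
    rw [← show (y : G) * (z : G) = x from congrArg Subtype.val he]
    refine mul_mem (hNH ?_) (hWH (hθW a haS ha ⟨z, hz, rfl⟩))
    refine mem_normalizer_fintype fun b hb => ?_
    have := (mem_normalizer_iff.1 hy ⟨b, hPC hb⟩).1 (by
      rw [Sylow.coe_subtype, mem_subgroupOf]; exact hb)
    rw [Sylow.coe_subtype, mem_subgroupOf] at this
    exact this
  have hPne : (P : Subgroup G) ≠ ⊥ := by
    intro e
    have h8 := hV.card
    have := Subgroup.card_le_of_le hV.le
    rw [e, Subgroup.card_bot] at this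
    omega
  have hHne : H ≠ ⊤ := by
    intro htop
    have hWn : W.Normal := normalizer_eq_top_iff.1 (top_le_iff.1 (htop ▸ hHW))
    rcases hWn.eq_bot_or_eq_top with e | e
    · have hNt : N = ⊤ := by rw [← htop, hH, e, bot_sup_eq]
      rcases (normalizer_eq_top_iff.1 hNt).eq_bot_or_eq_top with e' | e'
      · exact hPne e'
      · exact hG ⟨⟨fun x y => hcomm x (e' ▸ mem_top x) y (e' ▸ mem_top y)⟩⟩
    · have h2 : 2 ∣ Nat.card W := by
        rw [e, card_top]
        obtain ⟨v, hv, hv1⟩ := (bot_or_exists_ne_one V).resolve_left fun e => by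
          have := hV.card; rw [e, card_bot] at this; omega
        exact (ea_orderOf hV.ea hv hv1) ▸ orderOf_dvd_natCard v
      exact (Nat.not_even_iff_odd.2 hWodd) (even_iff_two_dvd.2 h2)
  obtain ⟨t₀, ht₀V, ht₀1⟩ := (bot_or_exists_ne_one V).resolve_left fun e => by
    have := hV.card; rw [e, card_bot] at this; omega
  have ht₀ : orderOf t₀ = 2 := ea_orderOf hV.ea ht₀V ht₀1
  have hse : Cfsg.IsStronglyEmbedded H := by
    refine Invol.se_of_centralizers hHne (P.subtype hPH)
      (Invol.even_of_invol_mem ht₀ (hPH (hV.le ht₀V))) ?_ fun u huH hu => ?_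
    · rw [Sylow.coe_subtype, subgroupOf_map_subtype, inf_eq_left.2 hPH]
      exact hNH
    · obtain ⟨g, hgH, hg⟩ := SolvCores.exists_conj_le hPH (IsPGroup.of_card (n := 1) (p := 2)
        (by rw [Nat.card_zpowers, hu, pow_one] : Nat.card (zpowers u) = 2 ^ 1)) (zpowers_le.2 huH)
      intro x hx
      have hx' : g * x * g⁻¹ ∈ centralizer ({g * u * g⁻¹} : Set G) := by
        rw [mem_centralizer_singleton_iff]
        have hxu := mem_centralizer_singleton_iff.1 hx
        calc g * x * g⁻¹ * (g * u * g⁻¹) = g * (x * u) * g⁻¹ := by group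
          _ = g * (u * x) * g⁻¹ := by rw [hxu]
          _ = _ := by group
      have hmem := (hcent (g * u * g⁻¹) (hg ⟨u, mem_zpowers u, rfl⟩)
        (by rw [Invol.order_conj, hu])).1 hx'
      simpa [mul_assoc] using mul_mem (mul_mem (inv_mem hgH) hmem) hgH
  -- a complement in the normaliser
  haveI hPn : ((P : Subgroup G).subgroupOf N).Normal := Subgroup.normal_in_normalizer
  obtain ⟨K₀, hK₀⟩ := exists_right_complement'_of_coprime (N := (P : Subgroup G).subgroupOf N) (by
    rw [Nat.card_congr (subgroupOfEquivOfLe hPN).toEquiv]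
    obtain ⟨n, hn⟩ := IsPGroup.iff_card.1 P.2
    rw [hn]
    refine Nat.Coprime.pow_left n ((Nat.prime_two.coprime_iff_not_dvd).2 fun h => ?_)
    exact P.not_dvd_index (h.trans (Subgroup.relIndex_dvd_index_of_le hPN)))
  have hK₀odd : Odd (Nat.card K₀) := by
    rw [← Nat.not_even_iff_odd, even_iff_two_dvd, ← hK₀.symm.index_eq_card]
    exact fun h => P.not_dvd_index (h.trans (Subgroup.relIndex_dvd_index_of_le hPN))
  let ρ : K₀ →* MulAut (P : Subgroup G) :=
    { toFun := fun k =>
        { toFun := fun s => ⟨(k.1 : G) * s * (k.1 : G)⁻¹,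
            (mem_normalizer_iff.1 k.1.2 s).1 s.2⟩
          invFun := fun s => ⟨(k.1 : G)⁻¹ * s * (k.1 : G),
            by simpa using (mem_normalizer_iff.1 (inv_mem k.1.2) s).1 s.2⟩
          left_inv := fun s => Subtype.ext (by
            show (k.1 : G)⁻¹ * ((k.1 : G) * s * (k.1 : G)⁻¹) * (k.1 : G) = s
            group)
          right_inv := fun s => Subtype.ext (by
            show (k.1 : G) * ((k.1 : G)⁻¹ * s * (k.1 : G)) * (k.1 : G)⁻¹ = s
            group)
          map_mul' := fun a b => Subtype.ext (by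
            show (k.1 : G) * ((a : G) * b) * (k.1 : G)⁻¹ =
              (k.1 : G) * a * (k.1 : G)⁻¹ * ((k.1 : G) * b * (k.1 : G)⁻¹)
            group) }
      map_one' := MulEquiv.ext fun s => Subtype.ext (by
        show ((1 : G)) * s * (1 : G)⁻¹ = s
        group)
      map_mul' := fun a b => MulEquiv.ext fun s => Subtype.ext (by
        show ((a.1 : G) * b.1) * s * ((a.1 : G) * b.1)⁻¹ =
          (a.1 : G) * ((b.1 : G) * s * (b.1 : G)⁻¹) * (a.1 : G)⁻¹
        group) }
  let ψ : SemidirectProduct (P : Subgroup G) K₀ ρ →* G :=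
    SemidirectProduct.lift (P : Subgroup G).subtype (N.subtype.comp K₀.subtype) fun k =>
      MonoidHom.ext fun s => rfl
  have hψ : ∀ a, ψ a = (a.left : G) * ((a.right : N) : G) := fun a => rfl
  have hψH : ∀ a, ψ a ∈ H := fun a => mul_mem (hPH a.left.2) (hNH a.right.1.2)
  set W' := W.subgroupOf H with hW'
  haveI hW'n : W'.Normal := (normal_subgroupOf_iff_le_normalizer hWH).2 hHW
  let Φ : SemidirectProduct (P : Subgroup G) K₀ ρ →* H ⧸ W' :=
    (QuotientGroup.mk' W').comp (ψ.codRestrict H hψH)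
  have hΦ : Function.Surjective Φ := by
    intro x
    induction x using QuotientGroup.induction_on with
    | _ h =>
      have hmem : (h : G) ∈ (↑(W ⊔ N) : Set G) := h.2
      rw [coe_mul_of_right_le_normalizer_left W N hNW] at hmem
      obtain ⟨w, hw, n, hn, he⟩ := Set.mem_mul.1 hmem
      obtain ⟨⟨⟨p, hp⟩, k⟩, hpk, -⟩ := hK₀.existsUnique ⟨n, hn⟩
      refine ⟨⟨⟨p, mem_subgroupOf.1 hp⟩, k⟩, QuotientGroup.eq.2 (mem_subgroupOf.2 ?_)⟩
      show ((p : G) * (k.1 : G))⁻¹ * (h : G) ∈ W
      rw [show (p : G) * (k.1 : G) = n from congrArg Subtype.val hpk, ← he, ← mul_assoc]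
      simpa using (mem_normalizer_iff.1 (hNW (inv_mem hn)) w).1 hw
  have hWP : ∀ x ∈ W, x ∈ (P : Subgroup G) → x = 1 := fun x hxW hxP => by
    have h := PBasic.inf_eq_bot_of_coprime (p := 2) (N := W) (Nat.coprime_two_right.2 hWodd) P.2
    exact (eq_bot_iff_forall _).1 h x ⟨hxW, hxP⟩
  have hker : Φ.ker = (SemidirectProduct.map (φ₂ := (MonoidHom.id _).comp ρ.range.subtype)
      (MonoidHom.id (P : Subgroup G)) ρ.rangeRestrict fun k => MonoidHom.ext fun s => rfl).ker := by
    ext a
    rw [MonoidHom.mem_ker, MonoidHom.mem_ker, MonoidHom.comp_apply, QuotientGroup.mk'_apply,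
      QuotientGroup.eq_one_iff, hW', mem_subgroupOf, SemidirectProduct.ext_iff]
    simp only [SemidirectProduct.map_left, SemidirectProduct.map_right, SemidirectProduct.one_left,
      SemidirectProduct.one_right, MonoidHom.id_apply]
    show ψ a ∈ W ↔ _
    have hone : ρ.rangeRestrict a.right = 1 ↔ ∀ b ∈ (P : Subgroup G),
        ((a.right : N) : G) * b = b * ((a.right : N) : G) := by
      refine ⟨fun h b hb => ?_, fun h => Subtype.ext (MulEquiv.ext fun s => Subtype.ext ?_)⟩
      · have h1 := congrArg (fun r : ρ.range => (((r : MulAut (P : Subgroup G)) ⟨b, hb⟩ : (P : Subgroup G)) : G)) h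
        exact mul_inv_eq_iff_eq_mul.1 h1
      · show ((a.right : N) : G) * s * ((a.right : N) : G)⁻¹ = s
        rw [h s s.2, mul_inv_cancel_right]
    rw [hone, hψ]
    constructor
    · intro hm
      have hN' : (a.left : G) * ((a.right : N) : G) ∈ N := mul_mem (hPN a.left.2) a.right.1.2
      have hcom : ∀ b ∈ (P : Subgroup G), (a.left : G) * ((a.right : N) : G) * b =
          b * ((a.left : G) * ((a.right : N) : G)) := by
        intro b hb
        rw [← mul_inv_eq_one]
        refine hWP _ ?_ ?_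
        · rw [_root_.mul_inv_rev, ← mul_assoc, mul_assoc _ _ b⁻¹]
          rw [show ∀ x : G, x * b * (x⁻¹ * b⁻¹) = x * (b * x⁻¹ * b⁻¹) from fun x => by group]
          refine mul_mem hm ((mem_normalizer_iff.1 (hHW (hPH hb)) _).1 (inv_mem hm))
        · rw [_root_.mul_inv_rev, ← mul_assoc]
          exact mul_mem ((mem_normalizer_iff.1 hN' b).1 hb) (inv_mem hb)
      have hr : ∀ b ∈ (P : Subgroup G), ((a.right : N) : G) * b = b * ((a.right : N) : G) := fun b hb => by
        refine mul_left_cancel (a := (a.left : G)) ?_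
        rw [← mul_assoc, hcom b hb, ← mul_assoc, hcomm b hb _ a.left.2, mul_assoc]
      have hkW : ((a.right : N) : G) ∈ W := (hcent t₀ (hV.le ht₀V) ht₀).2 _
        (mem_centralizer_singleton_iff.2 (hr t₀ (hV.le ht₀V)))
        (by rw [Subgroup.orderOf_coe, Subgroup.orderOf_coe]
            exact hK₀odd.of_dvd_nat (orderOf_dvd_natCard _)) hr
      refine ⟨Subtype.ext (hWP _ ?_ a.left.2), hr⟩
      simpa using mul_mem hm (inv_mem hkW)
    · rintro ⟨hl, hr⟩
      rw [hl, OneMemClass.coe_one, one_mul]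
      exact (hcent t₀ (hV.le ht₀V) ht₀).2 _ (mem_centralizer_singleton_iff.2 (hr t₀ (hV.le ht₀V)))
        (by rw [Subgroup.orderOf_coe, Subgroup.orderOf_coe]
            exact hK₀odd.of_dvd_nat (orderOf_dvd_natCard _)) hr
  letI : MulDistribMulAction ρ.range (P : Subgroup G) :=
    MulDistribMulAction.compHom _ ρ.range.subtype
  let Φ' : SemidirectProduct (P : Subgroup G) K₀ ρ →* SK (P : Subgroup G) ρ.range :=
    SemidirectProduct.map (MonoidHom.id _) ρ.rangeRestrict fun k => MonoidHom.ext fun s => rfl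
  have hker' : Φ.ker ≤ Φ'.ker := hker.le
  let lam : H ⧸ W' →* SK (P : Subgroup G) ρ.range := MonoidHom.liftOfSurjective Φ hΦ ⟨Φ', hker'⟩
  have hlam : ∀ a, lam (Φ a) = Φ' a := fun a => MonoidHom.liftOfRightInverse_comp_apply _ _ _ _ a
  refine ⟨ρ.range, inferInstance, inferInstance, inferInstance, ?_, fun k hk => ?_, ?_, ⟨
    { P := P, emb := MulEquiv.refl _, H := H, W := W, se := hse, W_le := hWH, W_norm := hHW,
      W_odd := hWodd, P_le := hPH, proj := lam.comp (QuotientGroup.mk' W'),
      surj := fun y => ?_, ker := ?_, proj_emb := fun s => ?_ }⟩⟩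
  · exact hK₀odd.of_dvd_nat (Subgroup.card_range_dvd ρ)
  · exact Subtype.ext (MulEquiv.ext hk)
  · intro a b ha ha1 hb hb1
    have ho : ∀ c : (P : Subgroup G), c * c = 1 → c ≠ 1 → orderOf (c : G) = 2 := fun c hc hc1 =>
      orderOf_eq_prime (by rw [pow_two]; exact congrArg Subtype.val hc)
        fun h => hc1 (Subtype.ext h)
    obtain ⟨g, hg⟩ := isConj_iff.1 (Invol.se_isConj hse (ho a ha ha1) (ho b hb hb1))
    obtain ⟨n, hn, he⟩ := Sylow.conj_eq_normalizer_conj_of_mem P (a : G) g⁻¹ a.2 (by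
      rw [inv_inv, hg]; exact b.2)
    rw [inv_inv, hg] at he
    obtain ⟨⟨⟨p, hp⟩, k⟩, hpk, -⟩ := hK₀.existsUnique ⟨n, hn⟩
    have hpk' : n = (p : G) * (k.1 : G) := (congrArg Subtype.val hpk).symm
    refine ⟨⟨ρ k⁻¹, ⟨k⁻¹, rfl⟩⟩, Subtype.ext ?_⟩
    show ((k.1 : G)⁻¹) * a * ((k.1 : G)⁻¹)⁻¹ = b
    rw [he, hpk', _root_.mul_inv_rev, inv_inv]
    rw [show (k.1 : G)⁻¹ * (p : G)⁻¹ * a * ((p : G) * (k.1 : G)) =
      (k.1 : G)⁻¹ * ((p : G)⁻¹ * a * (p : G)) * (k.1 : G) by group,
      show (p : G)⁻¹ * a * (p : G) = a by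
        rw [mul_assoc, hcomm a a.2 _ (mem_subgroupOf.1 hp), inv_mul_cancel_left]]
  · obtain ⟨a, ha⟩ : ∃ a, Φ' a = y := by
      obtain ⟨k, hk⟩ := ρ.rangeRestrict_surjective y.right
      exact ⟨⟨y.left, k⟩, SemidirectProduct.ext rfl hk⟩
    obtain ⟨h, hh⟩ := QuotientGroup.mk'_surjective W' (Φ a)
    exact ⟨h, by rw [MonoidHom.comp_apply, hh, hlam, ha]⟩
  · refine le_antisymm (fun h hh => ?_) fun h hh => ?_
    · obtain ⟨a, ha⟩ := hΦ (QuotientGroup.mk' W' h)
      rw [MonoidHom.mem_ker, MonoidHom.comp_apply, ← ha, hlam, ← MonoidHom.mem_ker] at hh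
      have : a ∈ Φ.ker := hker.ge hh
      rw [MonoidHom.mem_ker, ha] at this
      exact (QuotientGroup.eq_one_iff h).1 this
    · rw [MonoidHom.mem_ker, MonoidHom.comp_apply,
        show QuotientGroup.mk' W' h = 1 from (QuotientGroup.eq_one_iff h).2 hh, map_one]
  · have h := hlam (SemidirectProduct.inl s)
    rw [show Φ' (SemidirectProduct.inl s) = SemidirectProduct.inl s from
      SemidirectProduct.map_inl _ _ _ _] at h
    rw [← h, MonoidHom.comp_apply]
    refine congrArg lam (congrArg (QuotientGroup.mk' W') (Subtype.ext ?_))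
    show (s : G) = (s : G) * (1 : G)
    rw [mul_one]

end Cfsg.Agent.AbelInv
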