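import Cfsg.Agent.Lib.AbelInv.Coherent
import Mathlib.Algebra.Order.Chebyshev

/-!
Sums over the local characters.
-/

set_option autoImplicit false
set_option linter.unusedSectionVars false
set_option linter.style.haveILetI false

namespace Cfsg.Agent.AbelInv

open Cfsg Cfsg.Agent.Char
open scoped ComplexConjugate

universe u

variable {S K : Type u} [CommGroup S] [Group K] [MulDistribMulAction K S] [Fintype S] [Fintype K]
  {M : Hyp S K}

namespace Hyp

/-- Whether a linear character is trivial on all involutions. -/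
def Triv (_M : Hyp S K) (l : S →* ℂˣ) : Prop := ∀ z : S, z * z = 1 → l z = 1

theorem esum_triv (M : Hyp S K) {l : S →* ℂˣ} (h : M.Triv l) : M.esum l = M.f := by
  classical
  exact if_pos h

theorem esum_not (M : Hyp S K) {l : S →* ℂˣ} (h : ¬ M.Triv l) : M.esum l = -1 := by
  classical
  exact if_neg h

/-- The number of squares. -/
noncomputable def m (_M : Hyp S K) : ℕ := ((powMonoidHom 2 : S →* S).ker).index

theorem card_S (M : Hyp S K) : Nat.card S = (M.f + 1) * M.m := by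
  classical
  rw [← Subgroup.card_mul_index (powMonoidHom 2 : S →* S).ker, m]
  congr 1
  rw [Nat.card_eq_fintype_card, Hyp.f, Fintype.card_subtype,
    ← Finset.card_erase_add_one (a := (1 : S)) (by simp)]
  congr 1
  congr 1
  ext z
  simp [Hyp.mem_invols, pow_two, and_comm]

theorem m_ge (M : Hyp S K) (h4 : ∃ s : S, s * s ≠ 1) : M.f + 1 ≤ M.m := by
  classical
  obtain ⟨k, hk, s₁, hs₁⟩ := M.exists_exponent h4
  set E := (powMonoidHom 2 : S →* S).ker with hE
  have hle : E ≤ (powMonoidHom 2 : S →* S).range := by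
    intro z hz
    have hz' : z * z = 1 := by
      have := MonoidHom.mem_ker.1 hz
      rwa [powMonoidHom_apply, pow_two] at this
    by_cases h1 : z = 1
    · exact h1 ▸ one_mem _
    obtain ⟨k₁, hk₁⟩ := M.trans z hz' h1
    have hw : s₁ ^ 2 ^ (k + 1) * s₁ ^ 2 ^ (k + 1) = 1 := by
      rw [← pow_add, ← two_mul, ← pow_succ', hk]
    obtain ⟨k₂, hk₂⟩ := M.trans _ hw hs₁
    refine ⟨(k₁ * k₂⁻¹) • s₁ ^ 2 ^ k, ?_⟩
    rw [powMonoidHom_apply, ← smul_pow', ← pow_mul, ← pow_succ, mul_smul, ← hk₂, inv_smul_smul, hk₁]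
  have h := Subgroup.card_le_of_le hle
  rw [← Subgroup.index_ker] at h
  rw [m, ← hE]
  refine le_trans (le_of_eq ?_) h
  have h2 := M.card_S
  have h3 := Subgroup.card_mul_index E
  rw [h2, m, ← hE] at h3
  exact (Nat.eq_of_mul_eq_mul_right (Nat.pos_of_ne_zero Subgroup.index_ne_zero_of_finite) h3).symm

open scoped Classical in
/-- The sum of a function of the restriction to the involutions. -/
theorem sum_triv (M : Hyp S K) (A B : ℝ) :
    ∑ l ∈ Finset.univ.filter (fun l : S →* ℂˣ => l ≠ 1), (if M.Triv l then A else B) =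
      ((M.m : ℝ) - 1) * A + (M.m : ℝ) * M.f * B := by
  set E := (powMonoidHom 2 : S →* S).ker with hE
  have hEm : ∀ z : S, z ∈ E ↔ z * z = 1 := fun z => by
    rw [hE, MonoidHom.mem_ker, powMonoidHom_apply, pow_two]
  set T := Finset.univ.filter (fun l : S →* ℂˣ => M.Triv l) with hT
  have hTc : T.card = M.m := by
    rw [m, ← hE, Subgroup.index_eq_card, ← CommGroup.card_domRestrictHom_ker ℂ E, hT,
      ← Fintype.card_subtype, Nat.card_eq_fintype_card]
    refine Fintype.card_congr (Equiv.subtypeEquivRight fun l => ?_)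
    rw [MonoidHom.mem_ker]
    exact ⟨fun h => MonoidHom.ext fun z => h z ((hEm z).1 z.2),
      fun h z hz => DFunLike.congr_fun h ⟨z, (hEm z).2 hz⟩⟩
  have hall : Fintype.card (S →* ℂˣ) = Nat.card S := by
    rw [← Nat.card_eq_fintype_card]
    exact CommGroup.card_monoidHom_of_hasEnoughRootsOfUnity S ℂ
  have h1 : (1 : S →* ℂˣ) ∈ T := Finset.mem_filter.2 ⟨Finset.mem_univ _, fun z _ => rfl⟩
  have htot : ∑ l : S →* ℂˣ, (if M.Triv l then A else B) = (M.m : ℝ) * A + (M.m : ℝ) * M.f * B := by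
    rw [Finset.sum_ite, Finset.sum_const, Finset.sum_const, nsmul_eq_mul, nsmul_eq_mul,
      Finset.filter_not, Finset.card_univ_diff, ← hT, hTc, hall, M.card_S,
      show (M.f + 1) * M.m - M.m = M.f * M.m by rw [add_mul, one_mul, Nat.add_sub_cancel]]
    push_cast
    ring
  rw [show Finset.univ.filter (fun l : S →* ℂˣ => l ≠ 1) = Finset.univ.erase 1 from by
    ext l; simp, Finset.sum_erase_eq_sub (Finset.mem_univ _), htot,
    if_pos (Finset.mem_filter.1 h1).2]
  ring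

theorem triv_smul (M : Hyp S K) (k : K) (l : S →* ℂˣ) : M.Triv (k • l) ↔ M.Triv l := by
  refine ⟨fun h z hz => ?_, fun h z hz => ?_⟩
  · have := h (k • z) (by rw [← smul_mul', hz, smul_one])
    rwa [dual_apply, inv_smul_smul] at this
  · rw [dual_apply]
    exact h _ (by rw [← smul_mul', hz, smul_one])

end Hyp

namespace Reps

variable (R : Reps M)

open scoped Classical in
theorem sum_reps (F : (S →* ℂˣ) → ℝ) (hF : ∀ (k : K) l, F (k • l) = F l) :
    ∑ l ∈ Finset.univ.filter (fun l : S →* ℂˣ => l ≠ 1), F l =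
      ∑ r : {r // r ∈ R.reps}, ((M.f : ℝ) * (R.sub r.1).index) * F r.1 := by
  rw [← Finset.sum_fiberwise_of_maps_to (g := R.rep) (t := R.reps) fun l hl =>
      R.mem_reps.2 ⟨R.rep_ne_one (Finset.mem_filter.1 hl).2, R.rep_rep l⟩,
    ← Finset.sum_attach R.reps]
  refine Finset.sum_congr rfl fun r _ => ?_
  have horb : (Finset.univ.filter (fun l : S →* ℂˣ => l ≠ 1)).filter (fun l => R.rep l = r.1) =
      (MulAction.orbit K r.1).toFinset := by
    ext l
    simp only [Finset.mem_filter, Finset.mem_univ, true_and, Set.mem_toFinset]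
    refine ⟨fun ⟨_, h⟩ => ?_, ?_⟩
    · obtain ⟨k, hk⟩ := R.rep_mem l
      exact ⟨k⁻¹, by rw [← h, ← hk]; exact inv_smul_smul k l⟩
    · rintro ⟨k, rfl⟩
      refine ⟨fun h => (R.mem_reps.1 r.2).1 (MonoidHom.ext fun s => ?_), ?_⟩
      · have h' : k • r.1 = 1 := h
        have := DFunLike.congr_fun h' (k • s)
        rwa [dual_apply, inv_smul_smul] at this
      · show R.rep (k • r.1) = r.1
        rw [R.rep_smul]; exact (R.mem_reps.1 r.2).2
  rw [horb, Finset.sum_congr rfl (g := fun _ => F r.1) fun l hl => by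
    obtain ⟨k, rfl⟩ := Set.mem_toFinset.1 hl
    exact hF k r.1, Finset.sum_const, nsmul_eq_mul]
  congr 1
  rw [Set.toFinset_card, ← Nat.card_eq_fintype_card, ← Nat.cast_mul, Nat.cast_inj]
  have h := Nat.card_congr (MulAction.orbitProdStabilizerEquivGroup K r.1)
  rw [Nat.card_prod, M.card_K] at h
  by_cases hne : Nonempty (R.sub r.1 →* ℂˣ)
  · obtain ⟨η⟩ := hne
    have h2 := R.card_stab ⟨r, η⟩
    rw [← h2, mul_left_comm, mul_comm (Nat.card (MulAction.stabilizer K _))] at h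
    refine Nat.eq_of_mul_eq_mul_right (Nat.card_pos (α := MulAction.stabilizer K r.1)) ?_
    linarith
  · exact absurd ⟨1⟩ hne

open scoped Classical in
theorem sum_s_sq (A B : ℝ) :
    ∑ x : R.Idx, ((R.ext' x).card : ℝ) ^ 2 * (if M.Triv x.1.1 then A else B) =
      (M.e : ℝ) / M.f * (((M.m : ℝ) - 1) * A + (M.m : ℝ) * M.f * B) := by
  classical
  rw [← M.sum_triv, Finset.mul_sum,
    R.sum_reps (fun l => (M.e : ℝ) / M.f * (if M.Triv l then A else B)) fun k l => by
      simp only [M.triv_smul],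
    Fintype.sum_sigma]
  refine Finset.sum_congr rfl fun r _ => ?_
  simp only [R.card_ext']
  have h := R.card_stab ⟨r, 1⟩
  rw [← Nat.card_congr (Subgroup.subgroupOfEquivOfLe (R.stab_le r.2)).toEquiv,
    ← CommGroup.card_monoidHom_of_hasEnoughRootsOfUnity _ ℂ, Nat.card_eq_fintype_card] at h
  have hf : (M.f : ℝ) ≠ 0 := Nat.cast_ne_zero.2 M.f_pos.ne'
  have h' : (Fintype.card (R.sub r.1 →* ℂˣ) : ℝ) * ((R.sub r.1).index : ℝ) = M.e := by exact_mod_cast h
  rw [← h', Finset.sum_congr rfl (g := fun _ : R.sub r.1 →* ℂˣ =>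
    ((R.sub r.1).index : ℝ) ^ 2 * (if M.Triv r.1 then A else B)) fun η _ => rfl,
    Finset.sum_const, Finset.card_univ, nsmul_eq_mul]
  generalize (if M.Triv r.1 then A else B) = g
  field_simp

theorem sum_cX (c : (MulAction.stabilizer K M.t →* ℂˣ) → ℤ) (r : {r // r ∈ R.reps}) :
    ∑ η : R.sub r.1 →* ℂˣ, R.cX c ⟨r, η⟩ = ∑ ψ, c ψ := by
  classical
  rw [← Finset.sum_fiberwise Finset.univ (fun ψ : MulAction.stabilizer K M.t →* ℂˣ =>
    ψ.domRestrict (R.sub r.1)) c]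
  exact Finset.sum_congr rfl fun η _ => rfl

open scoped Classical in
theorem sum_s_c (c : (MulAction.stabilizer K M.t →* ℂˣ) → ℤ) (A B : ℝ) :
    ∑ x : R.Idx, ((R.ext' x).card : ℝ) * (R.cX c x : ℝ) * (if M.Triv x.1.1 then A else B) =
      ((∑ ψ, c ψ : ℤ) : ℝ) / M.f * (((M.m : ℝ) - 1) * A + (M.m : ℝ) * M.f * B) := by
  classical
  rw [← M.sum_triv, Finset.mul_sum,
    R.sum_reps (fun l => ((∑ ψ, c ψ : ℤ) : ℝ) / M.f * (if M.Triv l then A else B)) fun k l => by
      simp only [M.triv_smul],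
    Fintype.sum_sigma]
  refine Finset.sum_congr rfl fun r _ => ?_
  simp only [R.card_ext']
  rw [Finset.sum_congr rfl (g := fun η : R.sub r.1 →* ℂˣ =>
    ((R.sub r.1).index : ℝ) * (R.cX c ⟨r, η⟩ : ℝ) * (if M.Triv r.1 then A else B)) fun η _ => rfl,
    ← Finset.sum_mul, ← Finset.mul_sum, ← Int.cast_sum, R.sum_cX]
  generalize (if M.Triv r.1 then A else B) = g
  have hf : (M.f : ℝ) ≠ 0 := Nat.cast_ne_zero.2 M.f_pos.ne'
  field_simp

theorem sum_c_sq_ge (c : (MulAction.stabilizer K M.t →* ℂˣ) → ℤ) :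
    3 * (∑ ψ, (c ψ : ℝ) ^ 2) + ((∑ ψ, c ψ : ℤ) : ℝ) ^ 2 *
      ((((Nat.card S : ℝ) - 1) / M.f - 3) / M.e) ≤ ∑ x : R.Idx, (R.cX c x : ℝ) ^ 2 := by
  classical
  set Cc : ℝ := ((∑ ψ, c ψ : ℤ) : ℝ) with hCc
  have hE : ∑ r : {r // r ∈ R.reps}, ((R.sub r.1).index : ℝ) = ((Nat.card S : ℝ) - 1) / M.f := by
    have h := R.sum_reps (fun _ => (1 : ℝ)) fun _ _ => rfl
    simp only [mul_one, Finset.sum_const, nsmul_eq_mul, ← Finset.mul_sum] at h
    rw [show (Finset.univ.filter fun l : S →* ℂˣ => l ≠ 1) = Finset.univ.erase 1 from by ext l; simp,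
      Finset.card_erase_of_mem (Finset.mem_univ _), Finset.card_univ, ← Nat.card_eq_fintype_card,
      CommGroup.card_monoidHom_of_hasEnoughRootsOfUnity S ℂ, Nat.cast_sub Nat.card_pos, Nat.cast_one] at h
    rw [h, mul_div_cancel_left₀ _ (Nat.cast_ne_zero.2 M.f_pos.ne')]
  rw [← hE, Fintype.sum_sigma]
  have hper : ∀ r : {r // r ∈ R.reps},
      Cc ^ 2 * (((R.sub r.1).index : ℝ) / M.e) ≤ ∑ η : R.sub r.1 →* ℂˣ, (R.cX c ⟨r, η⟩ : ℝ) ^ 2 := by
    intro r
    have h := sq_sum_le_card_mul_sum_sq (s := (Finset.univ : Finset (R.sub r.1 →* ℂˣ)))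
      (f := fun η => (R.cX c ⟨r, η⟩ : ℝ))
    rw [← Int.cast_sum, R.sum_cX, Finset.card_univ] at h
    have h2 := R.card_stab ⟨r, 1⟩
    rw [← Nat.card_congr (Subgroup.subgroupOfEquivOfLe (R.stab_le r.2)).toEquiv,
      ← CommGroup.card_monoidHom_of_hasEnoughRootsOfUnity _ ℂ, Nat.card_eq_fintype_card] at h2
    have h2' : (Fintype.card (R.sub r.1 →* ℂˣ) : ℝ) * ((R.sub r.1).index : ℝ) = M.e := by
      exact_mod_cast h2
    have hi : (0 : ℝ) < (R.sub r.1).index :=
      Nat.cast_pos.2 (Nat.pos_of_ne_zero Subgroup.index_ne_zero_of_finite)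
    rw [mul_div_assoc', div_le_iff₀ (Nat.cast_pos.2 M.e_pos), ← h2']
    calc Cc ^ 2 * ((R.sub r.1).index : ℝ) ≤ _ * ((R.sub r.1).index : ℝ) :=
          mul_le_mul_of_nonneg_right h hi.le
      _ = _ := by ring
  set T3 : Finset {r // r ∈ R.reps} := {⟨R.l₀, R.mem₀⟩, ⟨R.l₁, R.mem₁⟩, ⟨R.l₂, R.mem₂⟩} with hT3
  have h3 : ∀ r ∈ T3, (R.sub r.1).index = 1 ∧
      ∑ η : R.sub r.1 →* ℂˣ, (R.cX c ⟨r, η⟩ : ℝ) ^ 2 = ∑ ψ, (c ψ : ℝ) ^ 2 := by
    intro r hr
    have hstab : MulAction.stabilizer K r.1 = MulAction.stabilizer K M.t := by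
      simp only [hT3, Finset.mem_insert, Finset.mem_singleton] at hr
      rcases hr with rfl | rfl | rfl
      exacts [R.stab₀, R.stab₁, R.stab₂]
    refine ⟨by rw [R.sub_eq_top hstab, Subgroup.index_top], ?_⟩
    refine (Fintype.sum_equiv (Equiv.ofBijective (fun ψ : MulAction.stabilizer K M.t →* ℂˣ =>
      ψ.domRestrict (R.sub r.1)) ⟨fun a b h => ?_, fun η => MonoidHom.domRestrict_surjective ℂ _ η⟩)
      _ _ fun ψ => ?_).symm
    · refine MonoidHom.ext fun j => ?_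
      exact DFunLike.congr_fun h ⟨j, by rw [R.sub_eq_top hstab]; exact Subgroup.mem_top _⟩
    · show _ = ((R.cX c ⟨r, ψ.domRestrict _⟩ : ℤ) : ℝ) ^ 2
      rw [Reps.cX, R.ext'_eq hstab, Finset.sum_singleton]
  have hcard3 : T3.card = 3 := by
    rw [hT3, Finset.card_insert_of_notMem (by simp [R.ne₀₁, R.ne₀₂]),
      Finset.card_insert_of_notMem (by simp [R.ne₁₂]), Finset.card_singleton]
  have eT : ∑ r ∈ T3, ((R.sub r.1).index : ℝ) = 3 := by
    rw [Finset.sum_congr rfl fun r hr => show ((R.sub r.1).index : ℝ) = 1 by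
      rw [(h3 r hr).1, Nat.cast_one], Finset.sum_const, hcard3]
    norm_num
  have eS : ∑ r ∈ T3, ∑ η : R.sub r.1 →* ℂˣ, (R.cX c ⟨r, η⟩ : ℝ) ^ 2 = 3 * ∑ ψ, (c ψ : ℝ) ^ 2 := by
    rw [Finset.sum_congr rfl fun r hr => (h3 r hr).2, Finset.sum_const, hcard3, nsmul_eq_mul]
    norm_num
  have hrest := Finset.sum_le_sum (s := T3ᶜ) fun r _ => hper r
  rw [← Finset.mul_sum, ← Finset.sum_div] at hrest
  rw [← Finset.sum_add_sum_compl T3, ← Finset.sum_add_sum_compl T3 (fun r => ∑ η, _), eT, eS,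
    add_sub_cancel_left]
  linarith

end Reps

end Cfsg.Agent.AbelInv
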