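import Cfsg.Agent.Lib.AbelInv.Cols
import Cfsg.Agent.Lib.AbelInv.Semilinear
import Mathlib.Data.Nat.Totient

/-!
The columns on the products of the involution with its stabiliser.
-/

set_option autoImplicit false
set_option linter.unusedSectionVars false
set_option linter.style.haveILetI false

namespace Cfsg.Agent.AbelInv

open Cfsg Cfsg.Agent.Char
open scoped ComplexConjugate

universe u v

/-- The bound for the squares. -/
def Rc (r e : ℕ) : ℕ := e * ∑ d ∈ (Nat.divisors e).erase 1, Nat.totient d * 2 ^ (r / d)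

variable {S K : Type u} [CommGroup S] [Group K] [MulDistribMulAction K S] [Fintype S] [Fintype K]
  {M : Hyp S K} {ι : Type v} [Fintype ι]

namespace Hyp

/-- The product of the involution with an element of its stabiliser. -/
def tx (M : Hyp S K) (x : MulAction.stabilizer K M.t) : SK S K := ⟨M.t, (x : K)⟩

theorem tx_eq (M : Hyp S K) (x : MulAction.stabilizer K M.t) :
    M.tx x = SemidirectProduct.inl M.t * SemidirectProduct.inr (x : K) :=
  SemidirectProduct.mk_eq_inl_mul_inr _ _

theorem commute_tx (M : Hyp S K) (x : MulAction.stabilizer K M.t) :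
    Commute (SemidirectProduct.inl M.t : SK S K) (SemidirectProduct.inr (x : K)) := by
  refine SemidirectProduct.ext ?_ (by simp)
  simp only [SemidirectProduct.mul_left, SemidirectProduct.left_inl, SemidirectProduct.left_inr,
    SemidirectProduct.right_inl, SemidirectProduct.right_inr, map_one, mul_one, one_mul,
    MulDistribMulAction.toMulAut_apply]
  exact x.2.symm

theorem even_tx (M : Hyp S K) (x : MulAction.stabilizer K M.t) : Even (orderOf (M.tx x)) := by
  have h := pow_orderOf_eq_one (M.tx x)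
  rw [tx_eq, (M.commute_tx x).mul_pow] at h
  have h1 := congrArg SemidirectProduct.left h
  rw [SemidirectProduct.mul_left, ← map_pow, ← map_pow, SemidirectProduct.left_inl,
    SemidirectProduct.left_inr, map_one, mul_one] at h1
  have h2 := orderOf_dvd_of_pow_eq_one h1
  rw [orderOf_eq_prime (by rw [pow_two, M.t_sq]) M.t_ne, ← tx_eq] at h2
  exact even_iff_two_dvd.2 h2

theorem pow_tx (M : Hyp S K) (x : MulAction.stabilizer K M.t) : M.tx x ^ M.e = SemidirectProduct.inl M.t := by
  rw [tx_eq, (M.commute_tx x).mul_pow, ← map_pow, ← map_pow]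
  have h1 : (x : K) ^ M.e = 1 := congrArg Subtype.val (pow_card_eq_one' (x := x))
  obtain ⟨k, hk⟩ := M.e_odd
  rw [h1, map_one, mul_one, hk, pow_succ, pow_mul, pow_two, M.t_sq, one_pow, one_mul]

theorem tx_one (M : Hyp S K) : M.tx 1 = SemidirectProduct.inl M.t := rfl

theorem not_isConj_tx (M : Hyp S K) {x : MulAction.stabilizer K M.t} (hx : x ≠ 1) :
    ¬ IsConj (SemidirectProduct.inl M.t) (M.tx x) := fun h => hx (Subtype.ext
      ((Cols.isConj_t_iff _).1 h).1)

open scoped Classical in
theorem count_tx (M : Hyp S K) (x x' : MulAction.stabilizer K M.t) :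
    (Finset.univ.filter fun q : SK S K => q * M.tx x * q⁻¹ = M.tx x').card =
      if x' = x then M.e * Nat.card {s : S // (x : K) • s = s} else 0 := by
  have key : ∀ q : SK S K, q * M.tx x * q⁻¹ = M.tx x' ↔
      x' = x ∧ q.right ∈ MulAction.stabilizer K M.t ∧ (x : K) • q.left = q.left := by
    intro q
    constructor
    · intro h
      have h1 : q * SemidirectProduct.inl M.t * q⁻¹ = SemidirectProduct.inl M.t := by
        rw [← M.pow_tx x, ← conj_pow, h, M.pow_tx, M.pow_tx]
      rw [mul_inv_eq_iff_eq_mul] at h1 h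
      have h2 := congrArg SemidirectProduct.left h1
      simp only [SemidirectProduct.mul_left, SemidirectProduct.left_inl, SemidirectProduct.right_inl,
        map_one, MulAut.one_apply, MulDistribMulAction.toMulAut_apply] at h2
      have hk : q.right • M.t = M.t := by
        rw [mul_comm M.t] at h2
        exact mul_left_cancel h2
      have h3 : q.right * (x : K) = (x' : K) * q.right := congrArg SemidirectProduct.right h
      have h5 : q.right * (x : K) = (x : K) * q.right := congrArg Subtype.val (M.comm ⟨q.right, hk⟩ x)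
      have hx' : x' = x := Subtype.ext (mul_right_cancel (h3.symm.trans h5))
      subst hx'
      have h4 := congrArg SemidirectProduct.left h
      simp only [tx, SemidirectProduct.mul_left, MulDistribMulAction.toMulAut_apply] at h4
      change q.left * q.right • M.t = M.t * (x' : K) • q.left at h4
      rw [hk, mul_comm] at h4
      exact ⟨rfl, hk, (mul_left_cancel h4).symm⟩
    · rintro ⟨rfl, hk, hs⟩
      rw [mul_inv_eq_iff_eq_mul]
      refine SemidirectProduct.ext ?_ ?_
      · show q.left * q.right • M.t = M.t * (x' : K) • q.left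
        rw [hs, (hk : q.right • M.t = M.t), mul_comm]
      · exact congrArg Subtype.val (M.comm ⟨q.right, hk⟩ x')
  split_ifs with hxx
  · subst hxx
    rw [Hyp.e, ← Nat.card_prod, ← Fintype.card_subtype, ← Nat.card_eq_fintype_card]
    exact Nat.card_congr
      { toFun := fun q => (⟨q.1.right, ((key q.1).1 q.2).2.1⟩, ⟨q.1.left, ((key q.1).1 q.2).2.2⟩)
        invFun := fun p => ⟨⟨p.2.1, p.1.1⟩, (key _).2 ⟨rfl, p.1.2, p.2.2⟩⟩
        left_inv := fun q => rfl
        right_inv := fun p => rfl }
  · rw [Finset.card_eq_zero, Finset.filter_eq_empty_iff]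
    exact fun q _ h => hxx ((key q).1 h).1

end Hyp

namespace Cols

variable (C : Cols M ι)

open scoped Classical in
/-- The sum over the nontrivial elements of the stabiliser. -/
noncomputable def ysum (χ : ι) : ℂ :=
  ∑ x ∈ (Finset.univ : Finset (MulAction.stabilizer K M.t)).erase 1, C.f χ (M.tx x)

theorem exists_y (χ : ι) : ∃ z : ℤ, C.ysum χ = ((z * M.e - C.u χ : ℤ) : ℂ) := by
  classical
  let Φ : Subgroup.zpowers M.t × MulAction.stabilizer K M.t →* SK S K :=
    { toFun := fun p => ⟨p.1, p.2⟩
      map_one' := rfl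
      map_mul' := fun p p' => by
        refine SemidirectProduct.ext ?_ rfl
        show (p.1 : S) * (p'.1 : S) = (p.1 : S) * (p.2 : K) • (p'.1 : S)
        obtain ⟨i, hi⟩ := Subgroup.mem_zpowers_iff.1 p'.1.2
        rw [← hi, smul_zpow', (p.2.2 : (p.2 : K) • M.t = M.t)] }
  obtain ⟨a, ha⟩ := IsCharacter.exists_classInner_nat (IsCharacter.comp (C.char χ) Φ)
    (isCharacter_one (G := Subgroup.zpowers M.t × MulAction.stabilizer K M.t))
  obtain ⟨b, hb⟩ := IsCharacter.exists_classInner_nat (IsCharacter.comp (C.char χ)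
    ((SemidirectProduct.inr : K →* SK S K).comp (MulAction.stabilizer K M.t).subtype))
    (isCharacter_one (G := MulAction.stabilizer K M.t))
  have hz : (Finset.univ : Finset (Subgroup.zpowers M.t)) = {1, ⟨M.t, Subgroup.mem_zpowers _⟩} := by
    symm
    rw [Finset.eq_univ_iff_forall]
    rintro ⟨z, hz⟩
    obtain ⟨i, rfl⟩ := Subgroup.mem_zpowers_iff.1 hz
    simp only [Finset.mem_insert, Finset.mem_singleton, Subtype.ext_iff]
    obtain ⟨j, rfl⟩ | ⟨j, rfl⟩ := Int.even_or_odd i
    · refine Or.inl ?_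
      rw [← two_mul, zpow_mul, zpow_two, M.t_sq, one_zpow]; rfl
    · refine Or.inr ?_
      rw [zpow_add_one, zpow_mul, zpow_two, M.t_sq, one_zpow, one_mul]
  have hne : (1 : Subgroup.zpowers M.t) ≠ ⟨M.t, Subgroup.mem_zpowers _⟩ := fun h =>
    M.t_ne (congrArg Subtype.val h).symm
  have he : (M.e : ℂ) ≠ 0 := Nat.cast_ne_zero.2 M.e_pos.ne'
  have hc2 : Nat.card (Subgroup.zpowers M.t) = 2 := by
    rw [Nat.card_zpowers, orderOf_eq_prime (by rw [pow_two, M.t_sq]) M.t_ne]
  simp only [classInner, map_one, mul_one] at ha hb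
  rw [Fintype.sum_prod_type, hz, Finset.sum_pair hne, Nat.card_prod, hc2,
    show Nat.card (MulAction.stabilizer K M.t) = M.e from rfl, Nat.cast_mul] at ha
  rw [show Nat.card (MulAction.stabilizer K M.t) = M.e from rfl] at hb
  have hA : ∀ x : MulAction.stabilizer K M.t, C.f χ (Φ (1, x)) =
      C.f χ (((SemidirectProduct.inr : K →* SK S K).comp (MulAction.stabilizer K M.t).subtype) x) :=
    fun x => rfl
  simp only [hA] at ha
  have hB : ∀ x : MulAction.stabilizer K M.t,
      C.f χ (Φ (⟨M.t, Subgroup.mem_zpowers _⟩, x)) = C.f χ (M.tx x) := fun x => rfl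
  simp only [hB] at ha
  refine ⟨2 * (a : ℤ) - (b : ℤ), ?_⟩
  rw [ysum, Finset.sum_erase_eq_sub (Finset.mem_univ _), M.tx_one, C.u_spec]
  push_cast
  have ha' := congrArg (fun w : ℂ => (2 : ℂ) * (M.e : ℂ) * w) ha
  have hb' := congrArg (fun w : ℂ => (M.e : ℂ) * w) hb
  simp only [Nat.cast_ofNat, mul_inv_cancel_left₀ (mul_ne_zero two_ne_zero he),
    mul_inv_cancel_left₀ he] at ha' hb'
  linear_combination ha' - hb'

/-- The integer value. -/
noncomputable def y (χ : ι) : ℤ := Classical.choose (C.exists_y χ) * M.e - C.u χ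

theorem y_spec (χ : ι) : C.ysum χ = (C.y χ : ℂ) := Classical.choose_spec (C.exists_y χ)

theorem y_dvd (χ : ι) : (M.e : ℤ) ∣ C.y χ + C.u χ := ⟨Classical.choose (C.exists_y χ), by rw [y]; ring⟩

theorem y_one : C.y C.one = (M.e : ℤ) - 1 := by
  classical
  have h := C.y_spec C.one
  simp only [ysum, C.f_one, Finset.sum_const, Finset.card_erase_of_mem (Finset.mem_univ _),
    Finset.card_univ, nsmul_eq_mul, mul_one, ← Nat.card_eq_fintype_card, show Nat.card (MulAction.stabilizer K M.t) = M.e from rfl,
    Nat.cast_sub M.e_pos, Nat.cast_one] at h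
  exact_mod_cast h.symm

open scoped Classical in
theorem sum_u_y : ∑ χ ∈ Finset.univ.erase C.one, (C.u χ : ℝ) ^ 2 * (C.y χ : ℝ) / C.d χ =
    -((M.e : ℝ) - 1) := by
  have h : ∑ χ, (C.u χ : ℝ) ^ 2 * (C.y χ : ℝ) / C.d χ = 0 := by
    apply Complex.ofReal_injective
    push_cast
    simp only [← C.y_spec, ysum, Finset.mul_sum, Finset.sum_div]
    rw [Finset.sum_comm, Finset.sum_eq_zero]
    intro x hx
    have := C.rel (M.tx x) (M.even_tx x)
    rw [if_neg (M.not_isConj_tx (Finset.ne_of_mem_erase hx))] at this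
    rw [← this]
    refine Finset.sum_congr rfl fun χ _ => ?_
    rw [C.u_spec]
    ring
  rw [Finset.sum_erase_eq_sub (Finset.mem_univ _), h, C.u_one, C.d_one, C.y_one]
  push_cast
  ring

open scoped Classical in
theorem sum_y_sq {r : ℕ} (hSh : Shape S K M.t r) (hE : ∀ s : S, s * s = 1) :
    ∑ χ ∈ Finset.univ.erase C.one, (C.y χ : ℝ) ^ 2 = (Rc r M.e : ℝ) - ((M.e : ℝ) - 1) ^ 2 := by
  have h : ∑ χ, (C.y χ : ℝ) ^ 2 = (Rc r M.e : ℝ) := by
    apply Complex.ofReal_injective
    push_cast
    have e : ∀ χ, (C.y χ : ℂ) ^ 2 = C.ysum χ * conj (C.ysum χ) := fun χ => by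
      rw [C.y_spec, map_intCast, pow_two]
    simp only [e, ysum, map_sum, Finset.mul_sum, Finset.sum_mul]
    rw [Finset.sum_comm, Finset.sum_congr rfl (fun x _ => Finset.sum_comm), Rc]
    push_cast
    rw [Finset.sum_congr rfl (g := fun x : MulAction.stabilizer K M.t =>
      (M.e : ℂ) * (2 : ℂ) ^ (r / orderOf x)) fun x hx => ?_, ← Finset.mul_sum]
    · congr 1
      haveI := hSh.cyclic
      have hmaps : ∀ x ∈ (Finset.univ : Finset (MulAction.stabilizer K M.t)).erase 1,
          orderOf x ∈ (Nat.divisors M.e).erase 1 := fun x hx =>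
        Finset.mem_erase.2 ⟨fun h => Finset.ne_of_mem_erase hx (orderOf_eq_one_iff.1 h),
          Nat.mem_divisors.2 ⟨orderOf_dvd_natCard x, M.e_pos.ne'⟩⟩
      rw [← Finset.sum_fiberwise_of_maps_to hmaps (fun x => (2 : ℂ) ^ (r / orderOf x))]
      refine Finset.sum_congr rfl fun d hd => ?_
      obtain ⟨hd1, hde⟩ := Finset.mem_erase.1 hd
      rw [Finset.sum_congr rfl (g := fun _ => (2 : ℂ) ^ (r / d)) fun x hx => by
        rw [(Finset.mem_filter.1 hx).2], Finset.sum_const, nsmul_eq_mul]
      congr 2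
      rw [← IsCyclic.card_orderOf_eq_totient (α := MulAction.stabilizer K M.t)
        (d := d) (by rw [← Nat.card_eq_fintype_card]; exact (Nat.mem_divisors.1 hde).1)]
      refine congrArg Finset.card ?_
      ext x
      simp only [Finset.mem_filter, Finset.mem_erase, Finset.mem_univ, and_true, true_and]
      exact ⟨fun h => h.2, fun h => ⟨fun h1 => hd1 (by rw [← h, h1, orderOf_one]), h⟩⟩
    · rw [Finset.sum_eq_single x]
      · rw [C.gram _ _ (M.even_tx x) (M.even_tx x), M.count_tx, if_pos rfl, Nat.cast_mul]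
        congr 1
        rw [← Nat.card_congr (Equiv.subtypeEquivRight fun s : S =>
          (⟨fun h => h.2, fun h => ⟨hE s, h⟩⟩ : s * s = 1 ∧ (x : K) • s = s ↔ (x : K) • s = s)),
          hSh.fixed _ x.2, Subgroup.orderOf_coe]
        push_cast
        rfl
      · intro x' _ hne
        rw [C.gram _ _ (M.even_tx x') (M.even_tx x), M.count_tx, if_neg hne, Nat.cast_zero]
      · exact fun h => absurd hx h
  rw [Finset.sum_erase_eq_sub (Finset.mem_univ _), h, C.y_one]
  push_cast
  rfl

end Cols

end Cfsg.Agent.AbelInv
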